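import Mathlib

set_option autoImplicit false

namespace Cfsg.Agent.Helper15

theorem gram_det_eq {F : Type*} [Field F] {κ : Type*} [Fintype κ] [DecidableEq κ]
    (Q : (κ → F) → F) (P : Matrix κ κ F)
    (hP : ∀ u v : κ → F, QuadraticMap.polar Q u v = u ⬝ᵥ P.mulVec v)
    {ι : Type*} [Fintype ι] [DecidableEq ι] (b : Module.Basis ι F (κ → F)) :
    ∃ c : F, c ≠ 0 ∧
      (Matrix.of (fun i j : ι => QuadraticMap.polar Q (b i) (b j))).det = c * c * P.det := by
  classical
  let e : ι ≃ κ := b.indexEquiv (Pi.basisFun F κ)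
  obtain ⟨T, hT⟩ : ∃ T : Matrix κ κ F, T = Matrix.of fun k j => b (e.symm j) k := ⟨_, rfl⟩
  have hG : (Matrix.of (fun i j : ι => QuadraticMap.polar Q (b i) (b j))).submatrix e.symm e.symm
      = T.transpose * (P * T) := by
    ext i j
    simp only [Matrix.submatrix_apply, Matrix.of_apply, hP, Matrix.mul_apply,
      Matrix.transpose_apply, dotProduct, Matrix.mulVec, hT]
  have hTdet : T.det ≠ 0 := by
    have h1 : T = (Pi.basisFun F κ).toMatrix (b.reindex e) := by
      ext k j
      simp [hT, Module.Basis.toMatrix_apply]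
    rw [h1, ← Module.Basis.det_apply]
    exact (Module.Basis.isUnit_det _ _).ne_zero
  refine ⟨T.det, hTdet, ?_⟩
  rw [← Matrix.det_submatrix_equiv_self e.symm, hG, Matrix.det_mul, Matrix.det_mul,
    Matrix.det_transpose]
  ring

theorem polar_eq_dot {F : Type*} [Field F] {n : ℕ} (Q : QuadraticForm F (Fin n → F))
    (u v : Fin n → F) :
    QuadraticMap.polar ⇑Q u v = u ⬝ᵥ (Matrix.of (fun i j : Fin n =>
      QuadraticMap.polar ⇑Q (Pi.single i 1) (Pi.single j 1))).mulVec v := by
  have h1 : Matrix.of (fun i j : Fin n =>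
      QuadraticMap.polar ⇑Q (Pi.single i 1) (Pi.single j 1))
      = LinearMap.BilinForm.toMatrix' (QuadraticMap.polarBilin Q) := by
    ext i j
    rw [LinearMap.BilinForm.toMatrix'_apply]
    rfl
  rw [h1, ← Matrix.toBilin'_apply', Matrix.toBilin'_toMatrix']
  rfl

theorem exists_self_ne_zero {F : Type*} [Field F] (h2 : (2 : F) ≠ 0) {V : Type*}
    [AddCommGroup V] [Module F V] [FiniteDimensional F V] (B : LinearMap.BilinForm F V)
    (hS : B.IsSymm) (hB : B.Nondegenerate) (hpos : 0 < Module.finrank F V) :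
    ∃ v, B v v ≠ 0 := by
  have : Invertible (2 : F) := invertibleOfNonzero h2
  apply LinearMap.BilinForm.exists_bilinForm_self_ne_zero _ ⟨fun x y => hS.eq x y⟩
  intro h0
  have h3 : ∀ x : V, x = 0 := fun x => hB.1 x (fun y => by rw [h0]; rfl)
  have hsub : Subsingleton V := ⟨fun a b => by rw [h3 a, h3 b]⟩
  rw [Module.finrank_zero_of_subsingleton] at hpos
  exact lt_irrefl _ hpos

theorem exists_normal_family {F : Type*} [Field F] [Fintype F] (h2 : (2 : F) ≠ 0) :
    ∀ (k : ℕ) {V : Type*} [AddCommGroup V] [Module F V] [FiniteDimensional F V],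
      Module.finrank F V = k + 1 → ∀ B : LinearMap.BilinForm F V, B.IsSymm → B.Nondegenerate →
        ∃ (b : Fin (k + 1) → V) (d : F), d ≠ 0 ∧
          ∀ i j, B (b i) (b j) = if i = j then (if i = Fin.last k then d else 1) else 0 := by
  intro k
  induction k with
  | zero =>
    intro V _ _ _ hV B hS hB
    obtain ⟨v, hv⟩ := exists_self_ne_zero h2 B hS hB (by omega)
    refine ⟨fun _ => v, B v v, hv, fun i j => ?_⟩
    have hij : i = j := Fin.ext (by have := i.2; have := j.2; omega)
    have hil : i = Fin.last 0 := Fin.ext (by have := i.2; rw [Fin.val_last]; omega)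
    rw [if_pos hij, if_pos hil]
  | succ k ih =>
    intro V _ _ _ hV B hS hB
    have hsymm : ∀ x y, B x y = B y x := fun x y => hS.eq x y
    have hortho : ∀ v u : V, u ∈ B.orthogonal (F ∙ v) ↔ B v u = 0 := by
      intro v u
      rw [LinearMap.BilinForm.mem_orthogonal_iff]
      constructor
      · intro h
        exact h v (Submodule.mem_span_singleton_self v)
      · intro h n hn
        obtain ⟨c, rfl⟩ := Submodule.mem_span_singleton.1 hn
        rw [map_smul, LinearMap.smul_apply, h, smul_zero]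
    have hfin : ∀ v : V, B v v ≠ 0 → Module.finrank F (B.orthogonal (F ∙ v)) = k + 1 := by
      intro v hv
      have hv0 : v ≠ 0 := by
        rintro rfl
        simp at hv
      have hcompl := LinearMap.BilinForm.isCompl_span_singleton_orthogonal (B := B) (x := v) hv
      have h1 := Submodule.finrank_add_eq_of_isCompl hcompl
      rw [finrank_span_singleton hv0, hV] at h1
      omega
    obtain ⟨v₁, hv₁⟩ := exists_self_ne_zero h2 B hS hB (by omega)
    have hnd₁ := LinearMap.BilinForm.restrict_nondegenerate_orthogonal_spanSingleton B hB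
      hS.isRefl hv₁
    have hS₁ : (B.restrict (B.orthogonal (F ∙ v₁))).IsSymm := ⟨fun x y => hsymm x y⟩
    obtain ⟨w, hw⟩ := exists_self_ne_zero h2 (B.restrict (B.orthogonal (F ∙ v₁))) hS₁ hnd₁
      (by rw [hfin v₁ hv₁]; omega)
    have hw' : B (w : V) (w : V) ≠ 0 := hw
    have hv₁w : B v₁ (w : V) = 0 := (hortho v₁ w).1 w.2
    have hcard : Fintype.card F % 2 = 1 := FiniteField.odd_card_of_char_ne_two (by
      intro h
      apply h2
      have h3 := CharP.cast_eq_zero F (ringChar F)
      rw [h] at h3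
      exact_mod_cast h3)
    obtain ⟨x, y, hxy⟩ := FiniteField.exists_root_sum_quadratic
      (f := Polynomial.C (B v₁ v₁) * Polynomial.X ^ 2 + Polynomial.C 0 * Polynomial.X
        + Polynomial.C 0)
      (g := Polynomial.C (B (w : V) (w : V)) * Polynomial.X ^ 2 + Polynomial.C 0 * Polynomial.X
        + Polynomial.C (-1))
      (Polynomial.degree_quadratic hv₁) (Polynomial.degree_quadratic hw') hcard
    simp only [Polynomial.eval_add, Polynomial.eval_mul, Polynomial.eval_C, Polynomial.eval_pow,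
      Polynomial.eval_X, zero_mul, add_zero] at hxy
    obtain ⟨v, hvdef⟩ : ∃ v : V, v = x • v₁ + y • (w : V) := ⟨_, rfl⟩
    have hv1 : B v v = 1 := by
      rw [hvdef]
      simp only [map_add, map_smul, LinearMap.add_apply, LinearMap.smul_apply, smul_eq_mul,
        hv₁w, hsymm (w : V) v₁, mul_zero, add_zero, zero_add]
      linear_combination hxy
    have hvv : B v v ≠ 0 := by
      rw [hv1]
      exact one_ne_zero
    have hnd := LinearMap.BilinForm.restrict_nondegenerate_orthogonal_spanSingleton B hB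
      hS.isRefl hvv
    have hS' : (B.restrict (B.orthogonal (F ∙ v))).IsSymm := ⟨fun x y => hsymm x y⟩
    obtain ⟨c, d, hd, hc⟩ := ih (hfin v hvv) (B.restrict (B.orthogonal (F ∙ v))) hS' hnd
    refine ⟨Fin.cons v (fun i => (c i : V)), d, hd, ?_⟩
    have hvc : ∀ i, B v (c i) = 0 := fun i => (hortho v (c i)).1 (c i).2
    intro i j
    induction i using Fin.cases with
    | zero =>
      induction j using Fin.cases with
      | zero =>
        have h0 : (0 : Fin (k + 1 + 1)) ≠ Fin.last (k + 1) := by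
          intro h
          have h3 := congrArg Fin.val h
          rw [Fin.val_last] at h3
          simp at h3
        rw [Fin.cons_zero, hv1, if_pos rfl, if_neg h0]
      | succ j' =>
        rw [Fin.cons_zero, Fin.cons_succ, hvc, if_neg (Fin.succ_ne_zero j').symm]
    | succ i' =>
      induction j using Fin.cases with
      | zero =>
        rw [Fin.cons_zero, Fin.cons_succ, hsymm, hvc, if_neg (Fin.succ_ne_zero i')]
      | succ j' =>
        rw [Fin.cons_succ, Fin.cons_succ]
        have h3 : B (c i' : V) (c j' : V)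
            = if i' = j' then (if i' = Fin.last k then d else 1) else 0 := hc i' j'
        rw [h3]
        have h4 : (i'.succ = Fin.last (k + 1)) ↔ (i' = Fin.last k) := by
          rw [← Fin.succ_last, Fin.succ_inj]
        simp only [Fin.succ_inj, h4]

theorem orth_family_basis {F : Type*} [Field F] {V : Type*} [AddCommGroup V] [Module F V]
    [FiniteDimensional F V] {m : ℕ} (hV : Module.finrank F V = m)
    (B : LinearMap.BilinForm F V) (b : Fin m → V) (w : Fin m → F) (hw : ∀ i, w i ≠ 0)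
    (hb : ∀ i j, B (b i) (b j) = if i = j then w i else 0) :
    ∃ β : Module.Basis (Fin m) F V, ⇑β = b := by
  classical
  have hli : LinearIndependent F b := by
    rw [Fintype.linearIndependent_iff]
    intro g hg j
    have h1 := congrArg (fun x => B x (b j)) hg
    simp only [map_sum, LinearMap.sum_apply, map_smul, LinearMap.smul_apply, hb, smul_eq_mul,
      mul_ite, mul_zero, Finset.sum_ite_eq', Finset.mem_univ, if_true, map_zero,
      LinearMap.zero_apply] at h1
    rcases mul_eq_zero.1 h1 with h | h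
    · exact h
    · exact absurd h (hw j)
  have hcard : Fintype.card (Fin m) = Module.finrank F V := by
    rw [Fintype.card_fin, hV]
  exact ⟨basisOfLinearIndependentOfCardEqFinrank' b hli hcard,
    coe_basisOfLinearIndependentOfCardEqFinrank' b hli hcard⟩

theorem isometric_of_isSquare {F : Type*} [Field F] [Fintype F] (h2 : (2 : F) ≠ 0) {n : ℕ}
    (Q₁ Q₂ : QuadraticForm F (Fin n → F))
    (h₁ : (QuadraticMap.polarBilin Q₁).Nondegenerate)
    (h₂ : (QuadraticMap.polarBilin Q₂).Nondegenerate)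
    (hsq : IsSquare ((Matrix.of (fun i j : Fin n =>
        QuadraticMap.polar ⇑Q₁ (Pi.single i 1) (Pi.single j 1))).det
      * (Matrix.of (fun i j : Fin n =>
        QuadraticMap.polar ⇑Q₂ (Pi.single i 1) (Pi.single j 1))).det)) :
    ∃ g : (Fin n → F) ≃ₗ[F] (Fin n → F), ∀ v, Q₂ (g v) = Q₁ v := by
  classical
  rcases n with _ | k
  · refine ⟨LinearEquiv.refl F _, fun v => ?_⟩
    have hv : v = 0 := Subsingleton.elim v 0
    show Q₂ v = Q₁ v
    rw [hv, QuadraticMap.map_zero, QuadraticMap.map_zero]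
  have hfin : Module.finrank F (Fin (k + 1) → F) = k + 1 := Module.finrank_fin_fun F
  have hS₁ : LinearMap.BilinForm.IsSymm (QuadraticMap.polarBilin Q₁) :=
    ⟨fun x y => QuadraticMap.polar_comm _ x y⟩
  have hS₂ : LinearMap.BilinForm.IsSymm (QuadraticMap.polarBilin Q₂) :=
    ⟨fun x y => QuadraticMap.polar_comm _ x y⟩
  obtain ⟨b₁, d₁, hd₁, G₁⟩ :=
    exists_normal_family h2 k hfin (QuadraticMap.polarBilin Q₁) hS₁ h₁
  obtain ⟨b₂, d₂, hd₂, G₂⟩ :=
    exists_normal_family h2 k hfin (QuadraticMap.polarBilin Q₂) hS₂ h₂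
  have hw : ∀ d : F, d ≠ 0 → ∀ i : Fin (k + 1), (if i = Fin.last k then d else 1) ≠ 0 := by
    intro d hd i
    split_ifs
    · exact hd
    · exact one_ne_zero
  obtain ⟨β₁, hβ₁⟩ := orth_family_basis hfin (QuadraticMap.polarBilin Q₁) b₁
    (fun i => if i = Fin.last k then d₁ else 1) (hw d₁ hd₁) G₁
  obtain ⟨β₂, hβ₂⟩ := orth_family_basis hfin (QuadraticMap.polarBilin Q₂) b₂
    (fun i => if i = Fin.last k then d₂ else 1) (hw d₂ hd₂) G₂
  have hdet : ∀ (Q : QuadraticForm F (Fin (k + 1) → F))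
      (β : Module.Basis (Fin (k + 1)) F (Fin (k + 1) → F)) (d : F),
      (∀ i j, QuadraticMap.polarBilin Q (β i) (β j)
        = if i = j then (if i = Fin.last k then d else 1) else 0) →
      (Matrix.of (fun i j : Fin (k + 1) => QuadraticMap.polar ⇑Q (β i) (β j))).det = d := by
    intro Q β d hG
    have h3 : Matrix.of (fun i j : Fin (k + 1) => QuadraticMap.polar ⇑Q (β i) (β j))
        = Matrix.diagonal (fun i => if i = Fin.last k then d else 1) := by
      ext i j
      rw [Matrix.of_apply, Matrix.diagonal_apply]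
      exact hG i j
    rw [h3, Matrix.det_diagonal]
    simp
  obtain ⟨c₁, hc₁, e₁⟩ := gram_det_eq (⇑Q₁) _ (polar_eq_dot Q₁) β₁
  obtain ⟨c₂, hc₂, e₂⟩ := gram_det_eq (⇑Q₂) _ (polar_eq_dot Q₂) β₂
  rw [hdet Q₁ β₁ d₁ (by rw [hβ₁]; exact G₁)] at e₁
  rw [hdet Q₂ β₂ d₂ (by rw [hβ₂]; exact G₂)] at e₂
  obtain ⟨r, hr⟩ := hsq
  obtain ⟨D₁, hD₁⟩ : ∃ D₁ : F, D₁ = (Matrix.of (fun i j : Fin (k + 1) =>
      QuadraticMap.polar ⇑Q₁ (Pi.single i 1) (Pi.single j 1))).det := ⟨_, rfl⟩
  obtain ⟨D₂, hD₂⟩ : ∃ D₂ : F, D₂ = (Matrix.of (fun i j : Fin (k + 1) =>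
      QuadraticMap.polar ⇑Q₂ (Pi.single i 1) (Pi.single j 1))).det := ⟨_, rfl⟩
  rw [← hD₁] at e₁ hr
  rw [← hD₂] at e₂ hr
  obtain ⟨e, he⟩ : ∃ e : F, e * e * d₂ = d₁ := by
    refine ⟨c₁ * c₂ * r / d₂, ?_⟩
    have h3 : c₁ * c₂ * r / d₂ * (c₁ * c₂ * r / d₂) * d₂ = (c₁ * c₂ * r) * (c₁ * c₂ * r) / d₂ := by
      field_simp
    rw [h3, div_eq_iff hd₂, e₁, e₂]
    linear_combination (-(c₁ * c₁ * c₂ * c₂)) * hr
  have he0 : e ≠ 0 := by
    rintro rfl
    apply hd₁
    rw [← he]
    ring
  obtain ⟨β₂', hβ₂'def⟩ : ∃ β₂' : Module.Basis (Fin (k + 1)) F (Fin (k + 1) → F),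
      β₂' = β₂.unitsSMul (fun i => if i = Fin.last k then Units.mk0 e he0 else 1) := ⟨_, rfl⟩
  have hβ₂' : ∀ i, β₂' i = (if i = Fin.last k then e else 1) • b₂ i := by
    intro i
    rw [hβ₂'def, Module.Basis.unitsSMul_apply, hβ₂]
    split_ifs <;> simp [Units.smul_def]
  obtain ⟨g, hgdef⟩ : ∃ g : (Fin (k + 1) → F) ≃ₗ[F] (Fin (k + 1) → F),
      g = β₁.equiv β₂' (Equiv.refl _) := ⟨_, rfl⟩
  have hg : ∀ i, g (β₁ i) = β₂' i := fun i => by
    rw [hgdef, Module.Basis.equiv_apply, Equiv.refl_apply]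
  have hB : LinearMap.BilinForm.comp (QuadraticMap.polarBilin Q₂)
      (g : (Fin (k + 1) → F) →ₗ[F] (Fin (k + 1) → F))
      (g : (Fin (k + 1) → F) →ₗ[F] (Fin (k + 1) → F)) = QuadraticMap.polarBilin Q₁ := by
    apply LinearMap.BilinForm.ext_basis β₁
    intro i j
    rw [LinearMap.BilinForm.comp_apply]
    show QuadraticMap.polarBilin Q₂ (g (β₁ i)) (g (β₁ j)) = _
    rw [hg, hg, hβ₂', hβ₂', hβ₁, G₁]
    simp only [map_smul, LinearMap.smul_apply, smul_eq_mul, G₂]
    by_cases hij : i = j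
    · subst hij
      by_cases hl : i = Fin.last k
      · simp only [hl, if_true]
        linear_combination he
      · simp [hl]
    · simp [hij]
  refine ⟨g, fun v => ?_⟩
  have h3 := congrArg (fun B : LinearMap.BilinForm F (Fin (k + 1) → F) => B v v) hB
  have h4 : QuadraticMap.polar ⇑Q₂ (g v) (g v) = QuadraticMap.polar ⇑Q₁ v v := h3
  rw [QuadraticMap.polar_self, QuadraticMap.polar_self] at h4
  have h5 : (2 : F) * Q₂ (g v) = 2 * Q₁ v := by
    simpa [two_nsmul, two_mul] using h4
  exact mul_left_cancel₀ h2 h5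

end Cfsg.Agent.Helper15
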