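import Mathlib
import Cfsg.Agent.Helper15.QuadClass

set_option autoImplicit false

namespace Cfsg.Agent.Helper15

theorem pair_perp_finrank {F V : Type*} [Field F] [AddCommGroup V] [Module F V]
    [FiniteDimensional F V] (B : LinearMap.BilinForm F V) (v w : V) (hvv : B v v = 0)
    (hww : B w w = 0) (hvw : B v w = 1) (hwv : B w v ≠ 0) :
    Module.finrank F ↥(LinearMap.ker (B v) ⊓ LinearMap.ker (B w)) + 2 = Module.finrank F V := by
  have hker : LinearMap.ker ((B v).prod (B w)) = LinearMap.ker (B v) ⊓ LinearMap.ker (B w) :=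
    LinearMap.ker_prod _ _
  have hsurj : Function.Surjective ((B v).prod (B w)) := by
    rintro ⟨a, b⟩
    refine ⟨a • w + (b / B w v) • v, ?_⟩
    show ((B v) (a • w + (b / B w v) • v), (B w) (a • w + (b / B w v) • v)) = (a, b)
    simp only [map_add, map_smul, smul_eq_mul, hvv, hww, hvw, mul_zero, add_zero,
      zero_add, mul_one]
    rw [div_mul_cancel₀ _ hwv]
  have h1 := LinearMap.finrank_range_add_finrank_ker ((B v).prod (B w))
  rw [LinearMap.range_eq_top.2 hsurj, finrank_top, Module.finrank_prod, Module.finrank_self,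
    hker] at h1
  omega

theorem pair_perp_nondeg {F V : Type*} [Field F] [AddCommGroup V] [Module F V]
    (B : LinearMap.BilinForm F V) (hB : B.Nondegenerate) (ε : F)
    (hε : ∀ x y, B y x = ε * B x y)
    (v w : V) (hvv : B v v = 0) (hww : B w w = 0) (hvw : B v w = 1) :
    (B.restrict (LinearMap.ker (B v) ⊓ LinearMap.ker (B w))).Nondegenerate := by
  have hε1 : ε * B w v = 1 := by
    rw [← hε w v]
    exact hvw
  have hε0 : ε ≠ 0 := left_ne_zero_of_mul_eq_one hε1
  have hwv : B w v ≠ 0 := right_ne_zero_of_mul_eq_one hε1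
  have key : ∀ u ∈ LinearMap.ker (B v) ⊓ LinearMap.ker (B w),
      (∀ u' ∈ LinearMap.ker (B v) ⊓ LinearMap.ker (B w), B u u' = 0) → u = 0 := by
    intro u hu h
    obtain ⟨hu1, hu2⟩ := Submodule.mem_inf.1 hu
    rw [LinearMap.mem_ker] at hu1 hu2
    apply hB.1
    intro z
    have hz' : z - (B w z / B w v) • v - (B v z) • w
        ∈ LinearMap.ker (B v) ⊓ LinearMap.ker (B w) := by
      rw [Submodule.mem_inf, LinearMap.mem_ker, LinearMap.mem_ker]
      constructor
      · simp only [map_sub, map_smul, smul_eq_mul, hvv, hvw]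
        ring
      · simp only [map_sub, map_smul, smul_eq_mul, hww]
        field_simp
        ring
    have h3 := h _ hz'
    simp only [map_sub, map_smul, smul_eq_mul] at h3
    have h4 : B u v = 0 := by rw [hε v u, hu1, mul_zero]
    have h5 : B u w = 0 := by rw [hε w u, hu2, mul_zero]
    rw [h4, h5] at h3
    linear_combination h3
  constructor
  · intro u h
    apply Subtype.ext
    exact key u.1 u.2 (fun u' hu' => h ⟨u', hu'⟩)
  · intro u h
    apply Subtype.ext
    apply key u.1 u.2
    intro u' hu'
    have h3 : B u' u.1 = 0 := h ⟨u', hu'⟩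
    rw [hε u.1 u'] at h3
    exact (mul_eq_zero.1 h3).resolve_left hε0

theorem exists_polar_eq_one {F V : Type*} [Field F] [AddCommGroup V] [Module F V]
    (Q : QuadraticForm F V) (hQ : (QuadraticMap.polarBilin Q).Nondegenerate) (v : V)
    (hv : v ≠ 0) : ∃ u, QuadraticMap.polar ⇑Q v u = 1 := by
  have h1 : ∃ y, QuadraticMap.polar ⇑Q v y ≠ 0 := by
    by_contra hcon
    apply hv
    apply hQ.1 v
    intro y
    by_contra hy
    exact hcon ⟨y, hy⟩
  obtain ⟨y, hy⟩ := h1
  refine ⟨(QuadraticMap.polar ⇑Q v y)⁻¹ • y, ?_⟩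
  rw [QuadraticMap.polar_smul_right, smul_eq_mul, inv_mul_cancel₀ hy]

theorem exists_hyp_partner {F V : Type*} [Field F] [AddCommGroup V] [Module F V]
    (Q : QuadraticForm F V) (hQ : (QuadraticMap.polarBilin Q).Nondegenerate) (v : V)
    (hv : v ≠ 0) (hQv : Q v = 0) :
    ∃ w, Q w = 0 ∧ QuadraticMap.polar ⇑Q v w = 1 := by
  obtain ⟨u, hvu⟩ := exists_polar_eq_one Q hQ v hv
  refine ⟨u - Q u • v, ?_, ?_⟩
  · have h3 : u - Q u • v = u + (-(Q u)) • v := by rw [neg_smul, sub_eq_add_neg]
    rw [h3, QuadraticMap.map_add ⇑Q, QuadraticMap.map_smul, hQv, QuadraticMap.polar_smul_right,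
      QuadraticMap.polar_comm, hvu]
    simp
  · rw [QuadraticMap.polar_sub_right, QuadraticMap.polar_smul_right, QuadraticMap.polar_self,
      hQv, hvu]
    simp

theorem exists_singular {F V : Type*} [Field F] [Finite F] [AddCommGroup V] [Module F V]
    [FiniteDimensional F V] (Q : QuadraticForm F V)
    (hQ : (QuadraticMap.polarBilin Q).Nondegenerate) (h3 : 3 ≤ Module.finrank F V) :
    ∃ v, v ≠ 0 ∧ Q v = 0 := by
  classical
  cases nonempty_fintype F
  by_cases h2 : (2 : F) = 0
  · have hnt : Nontrivial V := Module.nontrivial_of_finrank_pos (R := F) (by omega)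
    obtain ⟨x, hx⟩ := exists_ne (0 : V)
    by_cases hQx : Q x = 0
    · exact ⟨x, hx, hQx⟩
    have hker : 2 ≤ Module.finrank F (LinearMap.ker (QuadraticMap.polarBilin Q x)) := by
      have r := LinearMap.finrank_range_add_finrank_ker (QuadraticMap.polarBilin Q x)
      have r2 : Module.finrank F (LinearMap.range (QuadraticMap.polarBilin Q x)) ≤ 1 := by
        have h5 := Submodule.finrank_le (LinearMap.range (QuadraticMap.polarBilin Q x))
        rwa [Module.finrank_self] at h5
      omega
    have hnot : ¬ (LinearMap.ker (QuadraticMap.polarBilin Q x) ≤ F ∙ x) := by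
      intro hle
      have h5 := Submodule.finrank_mono hle
      rw [finrank_span_singleton hx] at h5
      omega
    obtain ⟨y, hy1, hy2⟩ := SetLike.not_le_iff_exists.1 hnot
    have hxy : QuadraticMap.polar ⇑Q x y = 0 := LinearMap.mem_ker.1 hy1
    have hch : CharP F 2 := CharTwo.of_one_ne_zero_of_two_eq_zero one_ne_zero h2
    obtain ⟨s, hs⟩ := FiniteField.isSquare_of_char_two (ringChar.eq F 2) (Q y / Q x)
    refine ⟨s • x + y, ?_, ?_⟩
    · intro h0
      apply hy2
      have h5 : y = (-s) • x := by
        rw [neg_smul]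
        exact eq_neg_of_add_eq_zero_right h0
      rw [h5]
      exact Submodule.smul_mem _ _ (Submodule.mem_span_singleton_self x)
    · rw [QuadraticMap.map_add ⇑Q, QuadraticMap.map_smul, QuadraticMap.polar_smul_left, hxy]
      have h5 : s * s * Q x = Q y := by
        rw [← hs]
        field_simp
      simp only [smul_eq_mul, mul_zero, add_zero]
      linear_combination h5 + Q y * h2
  · obtain ⟨k, hk⟩ : ∃ k, Module.finrank F V = (k + 2) + 1 :=
      ⟨Module.finrank F V - 3, by omega⟩
    have hS : LinearMap.BilinForm.IsSymm (QuadraticMap.polarBilin Q) :=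
      ⟨fun x y => QuadraticMap.polar_comm _ x y⟩
    obtain ⟨b, d, hd, G⟩ := exists_normal_family h2 (k + 2) hk (QuadraticMap.polarBilin Q) hS hQ
    have hcard : Fintype.card F % 2 = 1 := FiniteField.odd_card_of_char_ne_two (by
      intro h
      apply h2
      have h3 := CharP.cast_eq_zero F (ringChar F)
      rw [h] at h3
      exact_mod_cast h3)
    obtain ⟨s, t, hst⟩ := FiniteField.exists_root_sum_quadratic
      (f := Polynomial.C (1 : F) * Polynomial.X ^ 2 + Polynomial.C 0 * Polynomial.X
        + Polynomial.C 0)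
      (g := Polynomial.C (1 : F) * Polynomial.X ^ 2 + Polynomial.C 0 * Polynomial.X
        + Polynomial.C d)
      (Polynomial.degree_quadratic one_ne_zero) (Polynomial.degree_quadratic one_ne_zero) hcard
    simp only [Polynomial.eval_add, Polynomial.eval_mul, Polynomial.eval_C, Polynomial.eval_pow,
      Polynomial.eval_X, zero_mul, add_zero, one_mul] at hst
    have h01 : (0 : Fin (k + 2 + 1)) ≠ 1 := by
      intro h
      have := congrArg Fin.val h
      simp at this
    have h0l : (0 : Fin (k + 2 + 1)) ≠ Fin.last (k + 2) := by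
      intro h
      have := congrArg Fin.val h
      simp at this
    have h1l : (1 : Fin (k + 2 + 1)) ≠ Fin.last (k + 2) := by
      intro h
      have h5 := congrArg Fin.val h
      rw [Fin.val_last, Fin.val_one] at h5
      omega
    obtain ⟨v, hvdef⟩ : ∃ v : V, v = s • b 0 + t • b 1 + b (Fin.last (k + 2)) := ⟨_, rfl⟩
    have hvl : QuadraticMap.polarBilin Q v (b (Fin.last (k + 2))) = d := by
      rw [hvdef]
      simp only [map_add, map_smul, LinearMap.add_apply, LinearMap.smul_apply, smul_eq_mul, G,
        if_neg h0l, if_neg h1l, if_true, mul_zero, zero_add]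
    have hvv : QuadraticMap.polarBilin Q v v = 0 := by
      have e0 : QuadraticMap.polarBilin Q v (b 0) = s := by
        rw [hvdef]
        simp only [map_add, map_smul, LinearMap.add_apply, LinearMap.smul_apply, smul_eq_mul, G,
          if_neg h0l, if_neg h01.symm, if_neg h0l.symm, if_true, mul_zero, add_zero, mul_one]
      have e1 : QuadraticMap.polarBilin Q v (b 1) = t := by
        rw [hvdef]
        simp only [map_add, map_smul, LinearMap.add_apply, LinearMap.smul_apply, smul_eq_mul, G,
          if_neg h1l, if_neg h01, if_neg h1l.symm, if_true, mul_zero, add_zero, mul_one,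
          zero_add]
      have e2 : QuadraticMap.polarBilin Q v v
          = s * QuadraticMap.polarBilin Q v (b 0) + t * QuadraticMap.polarBilin Q v (b 1)
            + QuadraticMap.polarBilin Q v (b (Fin.last (k + 2))) := by
        nth_rewrite 2 [hvdef]
        simp only [map_add, map_smul, smul_eq_mul]
      rw [e2, e0, e1, hvl]
      linear_combination hst
    refine ⟨v, ?_, ?_⟩
    · rintro rfl
      apply hd
      rw [← hvl]
      simp
    · have h5 : QuadraticMap.polar ⇑Q v v = 0 := hvv
      rw [QuadraticMap.polar_self] at h5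
      have h6 : (2 : F) * Q v = 0 := by simpa [two_mul] using h5
      exact (mul_eq_zero.1 h6).resolve_left h2

theorem exists_norm_one {F V : Type*} [Field F] [Finite F] [AddCommGroup V] [Module F V]
    [FiniteDimensional F V] (Q : QuadraticForm F V)
    (hQ : (QuadraticMap.polarBilin Q).Nondegenerate) (hV : Module.finrank F V = 2)
    (hani : ∀ v, v ≠ 0 → Q v ≠ 0) : ∃ x, Q x = 1 := by
  classical
  cases nonempty_fintype F
  by_cases h2 : (2 : F) = 0
  · have hnt : Nontrivial V := Module.nontrivial_of_finrank_pos (R := F) (by omega)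
    obtain ⟨x₀, hx₀⟩ := exists_ne (0 : V)
    have ha := hani x₀ hx₀
    have hch : CharP F 2 := CharTwo.of_one_ne_zero_of_two_eq_zero one_ne_zero h2
    obtain ⟨r, hr⟩ := FiniteField.isSquare_of_char_two (ringChar.eq F 2) (Q x₀)
    have hr0 : r ≠ 0 := by
      rintro rfl
      apply ha
      rw [hr]
      ring
    refine ⟨r⁻¹ • x₀, ?_⟩
    rw [QuadraticMap.map_smul, hr, smul_eq_mul]
    field_simp
  · have hS : LinearMap.BilinForm.IsSymm (QuadraticMap.polarBilin Q) :=
      ⟨fun x y => QuadraticMap.polar_comm _ x y⟩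
    obtain ⟨b, d, hd, G⟩ := exists_normal_family h2 1 hV (QuadraticMap.polarBilin Q) hS hQ
    have hcard : Fintype.card F % 2 = 1 := FiniteField.odd_card_of_char_ne_two (by
      intro h
      apply h2
      have h3 := CharP.cast_eq_zero F (ringChar F)
      rw [h] at h3
      exact_mod_cast h3)
    obtain ⟨s, t, hst⟩ := FiniteField.exists_root_sum_quadratic
      (f := Polynomial.C (1 : F) * Polynomial.X ^ 2 + Polynomial.C 0 * Polynomial.X
        + Polynomial.C 0)
      (g := Polynomial.C d * Polynomial.X ^ 2 + Polynomial.C 0 * Polynomial.X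
        + Polynomial.C (-2))
      (Polynomial.degree_quadratic one_ne_zero) (Polynomial.degree_quadratic hd) hcard
    simp only [Polynomial.eval_add, Polynomial.eval_mul, Polynomial.eval_C, Polynomial.eval_pow,
      Polynomial.eval_X, zero_mul, add_zero, one_mul] at hst
    have h01 : (0 : Fin (1 + 1)) ≠ 1 := by
      intro h
      have := congrArg Fin.val h
      simp at this
    have h1l : (1 : Fin (1 + 1)) = Fin.last 1 := rfl
    have h0l : (0 : Fin (1 + 1)) ≠ Fin.last 1 := by
      rw [← h1l]
      exact h01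
    refine ⟨s • b 0 + t • b 1, ?_⟩
    have hvv : QuadraticMap.polarBilin Q (s • b 0 + t • b 1) (s • b 0 + t • b 1) = 2 := by
      simp only [map_add, map_smul, LinearMap.add_apply, LinearMap.smul_apply, smul_eq_mul, G,
        if_neg h01, if_neg h01.symm, if_neg h0l, if_true, mul_zero, add_zero, mul_one,
        zero_add, ← h1l]
      linear_combination hst
    have h5 : QuadraticMap.polar ⇑Q (s • b 0 + t • b 1) (s • b 0 + t • b 1) = 2 := hvv
    rw [QuadraticMap.polar_self] at h5
    have h6 : (2 : F) * Q (s • b 0 + t • b 1) = 2 * 1 := by simpa [two_mul] using h5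
    exact mul_left_cancel₀ h2 h6

theorem exists_indep_partner {F V : Type*} [Field F] [AddCommGroup V] [Module F V]
    [FiniteDimensional F V] (Q : QuadraticForm F V)
    (hQ : (QuadraticMap.polarBilin Q).Nondegenerate) (hV : Module.finrank F V = 2)
    (x : V) (hx : x ≠ 0) :
    ∃ y, y ∉ (F ∙ x) ∧ QuadraticMap.polar ⇑Q x y = 1 := by
  obtain ⟨u, hu⟩ := exists_polar_eq_one Q hQ x hx
  by_cases hmem : u ∈ (F ∙ x)
  · have hnot : ¬ ((⊤ : Submodule F V) ≤ F ∙ x) := by
      intro hle
      have h5 := Submodule.finrank_mono hle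
      rw [finrank_span_singleton hx, finrank_top, hV] at h5
      omega
    obtain ⟨z, -, hz⟩ := SetLike.not_le_iff_exists.1 hnot
    by_cases hxz : QuadraticMap.polar ⇑Q x z = 0
    · refine ⟨u + z, ?_, ?_⟩
      · intro h
        apply hz
        have h5 : z = (u + z) - u := by abel
        rw [h5]
        exact Submodule.sub_mem _ h hmem
      · rw [QuadraticMap.polar_add_right, hu, hxz, add_zero]
    · refine ⟨(QuadraticMap.polar ⇑Q x z)⁻¹ • z, ?_, ?_⟩
      · intro h
        apply hz
        have h5 : z = (QuadraticMap.polar ⇑Q x z) • ((QuadraticMap.polar ⇑Q x z)⁻¹ • z) := by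
          rw [smul_smul, mul_inv_cancel₀ hxz, one_smul]
        rw [h5]
        exact Submodule.smul_mem _ _ h
      · rw [QuadraticMap.polar_smul_right, smul_eq_mul, inv_mul_cancel₀ hxz]
  · exact ⟨u, hmem, hu⟩

theorem exists_hyp_family {F : Type*} [Field F] [Finite F] :
    ∀ (k : ℕ) {V : Type*} [AddCommGroup V] [Module F V] [FiniteDimensional F V]
      (Q : QuadraticForm F V),
      (QuadraticMap.polarBilin Q).Nondegenerate → Module.finrank F V = 2 * k + 2 →
      (∃ e f : Fin (k + 1) → V, (∀ i, Q (e i) = 0 ∧ Q (f i) = 0) ∧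
          (∀ i j, QuadraticMap.polar ⇑Q (e i) (f j) = if i = j then 1 else 0) ∧
          (∀ i j, QuadraticMap.polar ⇑Q (e i) (e j) = 0
            ∧ QuadraticMap.polar ⇑Q (f i) (f j) = 0)) ∨
      (∃ (e f : Fin k → V) (x y : V) (ζ : F), (∀ t : F, t ^ 2 + t + ζ ≠ 0) ∧
          (∀ i, Q (e i) = 0 ∧ Q (f i) = 0) ∧
          (∀ i j, QuadraticMap.polar ⇑Q (e i) (f j) = if i = j then 1 else 0) ∧
          (∀ i j, QuadraticMap.polar ⇑Q (e i) (e j) = 0
            ∧ QuadraticMap.polar ⇑Q (f i) (f j) = 0) ∧
          (∀ i, QuadraticMap.polar ⇑Q (e i) x = 0 ∧ QuadraticMap.polar ⇑Q (e i) y = 0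
            ∧ QuadraticMap.polar ⇑Q (f i) x = 0 ∧ QuadraticMap.polar ⇑Q (f i) y = 0) ∧
          Q x = 1 ∧ QuadraticMap.polar ⇑Q x y = 1 ∧ Q y = ζ) := by
  intro k
  induction k with
  | zero =>
    intro V _ _ _ Q hQ hV
    by_cases hs : ∃ v, v ≠ 0 ∧ Q v = 0
    · obtain ⟨v, hv, hQv⟩ := hs
      obtain ⟨w, hQw, hvw⟩ := exists_hyp_partner Q hQ v hv hQv
      left
      refine ⟨fun _ => v, fun _ => w, fun _ => ⟨hQv, hQw⟩, fun i j => ?_, fun i j => ?_⟩
      · have hij : i = j := Fin.ext (by have := i.2; have := j.2; omega)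
        rw [if_pos hij]
        exact hvw
      · constructor
        · rw [QuadraticMap.polar_self, hQv, smul_zero]
        · rw [QuadraticMap.polar_self, hQw, smul_zero]
    · have hani : ∀ v, v ≠ 0 → Q v ≠ 0 := fun v hv hQv => hs ⟨v, hv, hQv⟩
      obtain ⟨x, hx⟩ := exists_norm_one Q hQ (by omega) hani
      have hx0 : x ≠ 0 := by
        rintro rfl
        rw [QuadraticMap.map_zero] at hx
        exact zero_ne_one hx
      obtain ⟨y, hy, hxy⟩ := exists_indep_partner Q hQ (by omega) x hx0
      right
      refine ⟨fun i => i.elim0, fun i => i.elim0, x, y, Q y, ?_, fun i => i.elim0,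
        fun i => i.elim0, fun i => i.elim0, fun i => i.elim0, hx, hxy, rfl⟩
      intro t ht
      have h5 : Q (t • x + y) = t ^ 2 + t + Q y := by
        rw [QuadraticMap.map_add ⇑Q, QuadraticMap.map_smul, QuadraticMap.polar_smul_left, hx,
          hxy]
        simp only [smul_eq_mul]
        ring
      have h6 : t • x + y ≠ 0 := by
        intro h0
        apply hy
        have h7 : y = (-t) • x := by
          rw [neg_smul]
          exact eq_neg_of_add_eq_zero_right h0
        rw [h7]
        exact Submodule.smul_mem _ _ (Submodule.mem_span_singleton_self x)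
      exact hani _ h6 (by rw [h5, ht])
  | succ k ih =>
    intro V _ _ _ Q hQ hV
    obtain ⟨v, hv, hQv⟩ := exists_singular Q hQ (by omega)
    obtain ⟨w, hQw, hvw⟩ := exists_hyp_partner Q hQ v hv hQv
    have hvv : QuadraticMap.polarBilin Q v v = 0 := by
      show QuadraticMap.polar ⇑Q v v = 0
      rw [QuadraticMap.polar_self, hQv, smul_zero]
    have hww : QuadraticMap.polarBilin Q w w = 0 := by
      show QuadraticMap.polar ⇑Q w w = 0
      rw [QuadraticMap.polar_self, hQw, smul_zero]
    have hwv : QuadraticMap.polarBilin Q w v = 1 := by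
      show QuadraticMap.polar ⇑Q w v = 1
      rw [QuadraticMap.polar_comm]
      exact hvw
    obtain ⟨W, hW⟩ : ∃ W : Submodule F V, W = LinearMap.ker (QuadraticMap.polarBilin Q v)
        ⊓ LinearMap.ker (QuadraticMap.polarBilin Q w) := ⟨_, rfl⟩
    have hWmem : ∀ u ∈ W, QuadraticMap.polar ⇑Q v u = 0 ∧ QuadraticMap.polar ⇑Q w u = 0 := by
      intro u hu
      rw [hW, Submodule.mem_inf, LinearMap.mem_ker, LinearMap.mem_ker] at hu
      exact hu
    have hfin : Module.finrank F W = 2 * k + 2 := by
      have h5 := pair_perp_finrank (QuadraticMap.polarBilin Q) v w hvv hww hvw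
        (by rw [hwv]; exact one_ne_zero)
      rw [← hW] at h5
      omega
    have hnd := pair_perp_nondeg (QuadraticMap.polarBilin Q) hQ 1
      (fun x y => by rw [one_mul]; exact QuadraticMap.polar_comm _ y x) v w hvv hww hvw
    rw [← hW] at hnd
    obtain ⟨Q', hQ'⟩ : ∃ Q' : QuadraticForm F W, Q' = Q.comp W.subtype := ⟨_, rfl⟩
    have hQ'app : ∀ u : W, Q' u = Q (u : V) := fun u => by rw [hQ']; rfl
    have hpol : ∀ u u' : W, QuadraticMap.polar ⇑Q' u u'
        = QuadraticMap.polar ⇑Q (u : V) (u' : V) := by
      intro u u'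
      unfold QuadraticMap.polar
      rw [hQ'app, hQ'app, hQ'app]
      rfl
    have hQ'nd : (QuadraticMap.polarBilin Q').Nondegenerate := by
      constructor
      · intro u h
        apply hnd.1 u
        intro u'
        have h5 := h u'
        have h6 : QuadraticMap.polar ⇑Q' u u' = 0 := h5
        rw [hpol] at h6
        exact h6
      · intro u h
        apply hnd.2 u
        intro u'
        have h5 := h u'
        have h6 : QuadraticMap.polar ⇑Q' u' u = 0 := h5
        rw [hpol] at h6
        exact h6
    have hcons : ∀ (n : ℕ) (e f : Fin n → W),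
        (∀ i, Q' (e i) = 0 ∧ Q' (f i) = 0) →
        (∀ i j, QuadraticMap.polar ⇑Q' (e i) (f j) = if i = j then 1 else 0) →
        (∀ i j, QuadraticMap.polar ⇑Q' (e i) (e j) = 0
            ∧ QuadraticMap.polar ⇑Q' (f i) (f j) = 0) →
        ((∀ i, Q ((Fin.cons v (fun i => (e i : V)) : Fin (n + 1) → V) i) = 0
            ∧ Q ((Fin.cons w (fun i => (f i : V)) : Fin (n + 1) → V) i) = 0) ∧
          (∀ i j, QuadraticMap.polar ⇑Q ((Fin.cons v (fun i => (e i : V)) : Fin (n + 1) → V) i)
            ((Fin.cons w (fun i => (f i : V)) : Fin (n + 1) → V) j) = if i = j then 1 else 0) ∧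
          (∀ i j, QuadraticMap.polar ⇑Q ((Fin.cons v (fun i => (e i : V)) : Fin (n + 1) → V) i)
              ((Fin.cons v (fun i => (e i : V)) : Fin (n + 1) → V) j) = 0
            ∧ QuadraticMap.polar ⇑Q ((Fin.cons w (fun i => (f i : V)) : Fin (n + 1) → V) i)
              ((Fin.cons w (fun i => (f i : V)) : Fin (n + 1) → V) j) = 0)) := by
      intro n e f h1 h2 h3
      refine ⟨?_, ?_, ?_⟩
      · intro i
        induction i using Fin.cases with
        | zero => exact ⟨hQv, hQw⟩
        | succ i =>
          rw [Fin.cons_succ, Fin.cons_succ, ← hQ'app, ← hQ'app]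
          exact h1 i
      · intro i j
        induction i using Fin.cases with
        | zero =>
          induction j using Fin.cases with
          | zero =>
            rw [Fin.cons_zero, Fin.cons_zero, if_pos rfl]
            exact hvw
          | succ j =>
            rw [Fin.cons_zero, Fin.cons_succ, if_neg (Fin.succ_ne_zero j).symm]
            exact (hWmem _ (f j).2).1
        | succ i =>
          induction j using Fin.cases with
          | zero =>
            rw [Fin.cons_zero, Fin.cons_succ, if_neg (Fin.succ_ne_zero i),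
              QuadraticMap.polar_comm]
            exact (hWmem _ (e i).2).2
          | succ j =>
            rw [Fin.cons_succ, Fin.cons_succ, ← hpol, h2]
            simp only [Fin.succ_inj]
      · intro i j
        induction i using Fin.cases with
        | zero =>
          induction j using Fin.cases with
          | zero =>
            rw [Fin.cons_zero, Fin.cons_zero]
            exact ⟨hvv, hww⟩
          | succ j =>
            rw [Fin.cons_zero, Fin.cons_succ, Fin.cons_zero, Fin.cons_succ]
            exact ⟨(hWmem _ (e j).2).1, (hWmem _ (f j).2).2⟩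
        | succ i =>
          induction j using Fin.cases with
          | zero =>
            rw [Fin.cons_zero, Fin.cons_succ, Fin.cons_zero, Fin.cons_succ,
              QuadraticMap.polar_comm, QuadraticMap.polar_comm ⇑Q _ w]
            exact ⟨(hWmem _ (e i).2).1, (hWmem _ (f i).2).2⟩
          | succ j =>
            rw [Fin.cons_succ, Fin.cons_succ, Fin.cons_succ, Fin.cons_succ, ← hpol, ← hpol]
            exact h3 i j
    rcases ih Q' hQ'nd hfin with ⟨e, f, h1, h2, h3⟩ | ⟨e, f, x, y, ζ, hζ, h1, h2, h3, h4, hx, hxy, hy⟩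
    · left
      obtain ⟨c1, c2, c3⟩ := hcons _ e f h1 h2 h3
      exact ⟨Fin.cons v (fun i => (e i : V)), Fin.cons w (fun i => (f i : V)), c1, c2, c3⟩
    · right
      obtain ⟨c1, c2, c3⟩ := hcons _ e f h1 h2 h3
      refine ⟨Fin.cons v (fun i => (e i : V)), Fin.cons w (fun i => (f i : V)), (x : V),
        (y : V), ζ, hζ, c1, c2, c3, fun i => ?_, ?_, ?_, ?_⟩
      · induction i using Fin.cases with
        | zero =>
          rw [Fin.cons_zero, Fin.cons_zero]
          exact ⟨(hWmem _ x.2).1, (hWmem _ y.2).1, (hWmem _ x.2).2, (hWmem _ y.2).2⟩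
        | succ i =>
          rw [Fin.cons_succ, Fin.cons_succ, ← hpol, ← hpol, ← hpol, ← hpol]
          exact h4 i
      · rw [← hQ'app]
        exact hx
      · rw [← hpol]
        exact hxy
      · rw [← hQ'app]
        exact hy

theorem basis_of_gram {F V : Type*} [Field F] [AddCommGroup V] [Module F V]
    [FiniteDimensional F V] {ι : Type*} [Fintype ι] [DecidableEq ι]
    (B : LinearMap.BilinForm F V) (b : ι → V) (G : Matrix ι ι F)
    (hG : ∀ i j, B (b i) (b j) = G i j) (hdet : G.det ≠ 0)
    (hcard : Fintype.card ι = Module.finrank F V) : ∃ β : Module.Basis ι F V, ⇑β = b := by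
  have hli : LinearIndependent F b := by
    rw [Fintype.linearIndependent_iff]
    intro c hc
    have h1 : Matrix.vecMul c G = 0 := by
      funext j
      have h2 := congrArg (fun x => B x (b j)) hc
      simp only [map_sum, map_smul, LinearMap.sum_apply, LinearMap.smul_apply, hG, map_zero,
        LinearMap.zero_apply, smul_eq_mul] at h2
      simpa [Matrix.vecMul, dotProduct] using h2
    have h3 := Matrix.eq_zero_of_vecMul_eq_zero hdet h1
    intro i
    rw [h3]
    rfl
  exact ⟨basisOfLinearIndependentOfCardEqFinrank' b hli hcard,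
    coe_basisOfLinearIndependentOfCardEqFinrank' b hli hcard⟩

end Cfsg.Agent.Helper15
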