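import Mathlib
import Cfsg.Agent.Helper15.HypPair

set_option autoImplicit false

namespace Cfsg.Agent.Helper15

theorem exists_symp_family {F : Type*} [Field F] :
    ∀ (n : ℕ) {V : Type*} [AddCommGroup V] [Module F V] [FiniteDimensional F V]
      (ω : LinearMap.BilinForm F V),
      (∀ x, ω x x = 0) → ω.Nondegenerate → Module.finrank F V = 2 * n →
      ∃ e f : Fin n → V, (∀ i j, ω (e i) (f j) = if i = j then 1 else 0) ∧
        (∀ i j, ω (e i) (e j) = 0 ∧ ω (f i) (f j) = 0) := by
  intro n
  induction n with
  | zero =>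
    intro V _ _ _ ω halt hnd hV
    exact ⟨fun i => i.elim0, fun i => i.elim0, fun i => i.elim0, fun i => i.elim0⟩
  | succ n ih =>
    intro V _ _ _ ω halt hnd hV
    have hskew : ∀ x y, ω y x = -1 * ω x y := by
      intro x y
      have h1 := halt (x + y)
      simp only [map_add, LinearMap.add_apply, halt, zero_add, add_zero] at h1
      linear_combination h1
    have hnt : Nontrivial V := Module.nontrivial_of_finrank_pos (R := F) (by omega)
    obtain ⟨v, hv⟩ := exists_ne (0 : V)
    obtain ⟨w, hvw⟩ : ∃ w, ω v w = 1 := by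
      have h1 : ∃ y, ω v y ≠ 0 := by
        by_contra hcon
        apply hv
        apply hnd.1 v
        intro y
        by_contra hy
        exact hcon ⟨y, hy⟩
      obtain ⟨y, hy⟩ := h1
      refine ⟨(ω v y)⁻¹ • y, ?_⟩
      rw [map_smul, smul_eq_mul, inv_mul_cancel₀ hy]
    have hwv : ω w v = -1 := by
      rw [hskew v w, hvw, mul_one]
    obtain ⟨W, hW⟩ : ∃ W : Submodule F V, W = LinearMap.ker (ω v) ⊓ LinearMap.ker (ω w) :=
      ⟨_, rfl⟩
    have hWmem : ∀ u ∈ W, ω v u = 0 ∧ ω w u = 0 := by
      intro u hu
      rw [hW, Submodule.mem_inf, LinearMap.mem_ker, LinearMap.mem_ker] at hu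
      exact hu
    have hWmem' : ∀ u ∈ W, ω u v = 0 ∧ ω u w = 0 := by
      intro u hu
      obtain ⟨h1, h2⟩ := hWmem u hu
      rw [hskew v u, hskew w u, h1, h2]
      simp
    have hfin : Module.finrank F W = 2 * n := by
      have h5 := pair_perp_finrank ω v w (halt v) (halt w) hvw
        (by rw [hwv]; exact neg_ne_zero.2 one_ne_zero)
      rw [← hW] at h5
      omega
    have hnd' := pair_perp_nondeg ω hnd (-1) hskew v w (halt v) (halt w) hvw
    rw [← hW] at hnd'
    obtain ⟨e, f, h1, h2⟩ := ih (ω.restrict W) (fun x => halt (x : V)) hnd' hfin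
    have h1' : ∀ i j, ω (e i : V) (f j : V) = if i = j then 1 else 0 := h1
    have h2' : ∀ i j, ω (e i : V) (e j : V) = 0 ∧ ω (f i : V) (f j : V) = 0 := h2
    refine ⟨Fin.cons v (fun i => (e i : V)), Fin.cons w (fun i => (f i : V)), ?_, ?_⟩
    · intro i j
      induction i using Fin.cases with
      | zero =>
        induction j using Fin.cases with
        | zero =>
          rw [Fin.cons_zero, Fin.cons_zero, if_pos rfl]
          exact hvw
        | succ j =>
          rw [Fin.cons_zero, Fin.cons_succ, if_neg (Fin.succ_ne_zero j).symm]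
          exact (hWmem _ (f j).2).1
      | succ i =>
        induction j using Fin.cases with
        | zero =>
          rw [Fin.cons_zero, Fin.cons_succ, if_neg (Fin.succ_ne_zero i)]
          exact (hWmem' _ (e i).2).2
        | succ j =>
          rw [Fin.cons_succ, Fin.cons_succ, h1']
          simp only [Fin.succ_inj]
    · intro i j
      induction i using Fin.cases with
      | zero =>
        induction j using Fin.cases with
        | zero =>
          rw [Fin.cons_zero, Fin.cons_zero]
          exact ⟨halt v, halt w⟩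
        | succ j =>
          rw [Fin.cons_zero, Fin.cons_succ, Fin.cons_zero, Fin.cons_succ]
          exact ⟨(hWmem _ (e j).2).1, (hWmem _ (f j).2).2⟩
      | succ i =>
        induction j using Fin.cases with
        | zero =>
          rw [Fin.cons_zero, Fin.cons_succ, Fin.cons_zero, Fin.cons_succ]
          exact ⟨(hWmem' _ (e i).2).1, (hWmem' _ (f i).2).2⟩
        | succ j =>
          rw [Fin.cons_succ, Fin.cons_succ, Fin.cons_succ, Fin.cons_succ]
          exact h2' i j

theorem exists_symp_equiv {F : Type*} [Field F] {n : ℕ} {V : Type*} [AddCommGroup V]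
    [Module F V] [FiniteDimensional F V] (ω : LinearMap.BilinForm F V)
    (halt : ∀ x, ω x x = 0) (hnd : ∀ x, (∀ y, ω x y = 0) → x = 0)
    (hV : Module.finrank F V = 2 * n) :
    ∃ e : V ≃ₗ[F] (Fin n ⊕ Fin n → F),
      ∀ v w, ω v w = e v ⬝ᵥ (Matrix.J (Fin n) F).mulVec (e w) := by
  classical
  have hskew : ∀ x y, ω y x = -ω x y := by
    intro x y
    have h1 := halt (x + y)
    simp only [map_add, LinearMap.add_apply, halt, zero_add, add_zero] at h1
    linear_combination h1
  have hnd' : ω.Nondegenerate := by
    refine ⟨hnd, fun y hy => hnd y (fun x => ?_)⟩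
    rw [hskew x y, hy x, neg_zero]
  obtain ⟨e, f, h1, h2⟩ := exists_symp_family n ω halt hnd' hV
  obtain ⟨β, hβ⟩ := basis_of_gram ω (Sum.elim f e) (Matrix.J (Fin n) F) (by
      rintro (i | i) (j | j)
      · show ω (f i) (f j) = _
        rw [(h2 i j).2]
        simp [Matrix.J]
      · show ω (f i) (e j) = _
        rw [hskew (e j) (f i), h1]
        simp [Matrix.J, Matrix.one_apply, eq_comm]
      · show ω (e i) (f j) = _
        rw [h1]
        simp [Matrix.J, Matrix.one_apply]
      · show ω (e i) (e j) = _
        rw [(h2 i j).1]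
        simp [Matrix.J])
    (Matrix.isUnit_det_J _ _).ne_zero (by simp [hV]; ring)
  refine ⟨β.equivFun, fun v w => ?_⟩
  have hM : LinearMap.BilinForm.toMatrix β ω = Matrix.J (Fin n) F := by
    ext i j
    rw [LinearMap.BilinForm.toMatrix_apply, hβ]
    revert i j
    rintro (i | i) (j | j)
    · show ω (f i) (f j) = _
      rw [(h2 i j).2]
      simp [Matrix.J]
    · show ω (f i) (e j) = _
      rw [hskew (e j) (f i), h1]
      simp [Matrix.J, Matrix.one_apply, eq_comm]
    · show ω (e i) (f j) = _
      rw [h1]
      simp [Matrix.J, Matrix.one_apply]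
    · show ω (e i) (e j) = _
      rw [(h2 i j).1]
      simp [Matrix.J]
  have h3 : ω v w = Matrix.toBilin β (LinearMap.BilinForm.toMatrix β ω) v w := by
    rw [Matrix.toBilin_toMatrix]
  rw [h3, hM, Matrix.toBilin_apply]
  simp only [dotProduct, Matrix.mulVec, Module.Basis.equivFun_apply, Finset.mul_sum, mul_assoc]

end Cfsg.Agent.Helper15
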