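import Mathlib
import Cfsg.Agent.Helper15.SympBasis
import Cfsg.Agent.Helper15.TransvCent

set_option autoImplicit false

namespace Cfsg.Agent.Helper15

theorem card_functional_fiber {F : Type*} [Field F] [Fintype F] {q : ℕ} (hF : Fintype.card F = q)
    {V : Type*} [AddCommGroup V] [Module F V] [FiniteDimensional F V] (ψ : V →ₗ[F] F) (w : V)
    (hw : ψ w = 1) : Nat.card {x : V // ψ x = 1} = q ^ (Module.finrank F V - 1) := by
  have h1 := finrank_ker_functional ψ w hw
  let E : {x : V // ψ x = 1} ≃ LinearMap.ker ψ :=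
    { toFun := fun x => ⟨x.1 - w, by rw [LinearMap.mem_ker, map_sub, x.2, hw, sub_self]⟩
      invFun := fun y => ⟨y.1 + w, by rw [map_add, LinearMap.mem_ker.1 y.2, hw, zero_add]⟩
      left_inv := fun x => Subtype.ext (sub_add_cancel _ _)
      right_inv := fun y => Subtype.ext (add_sub_cancel_right _ _) }
  rw [Nat.card_congr E, Module.natCard_eq_pow_finrank (K := F), Nat.card_eq_fintype_card, hF]
  congr 1
  omega

theorem card_hyp_pairs {F : Type*} [Field F] [Fintype F] {q : ℕ} (hF : Fintype.card F = q)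
    {V : Type*} [AddCommGroup V] [Module F V] [FiniteDimensional F V]
    (ω : LinearMap.BilinForm F V) (hnd : ∀ x, (∀ y, ω x y = 0) → x = 0) :
    Nat.card {p : V × V // ω p.1 p.2 = 1}
      = (q ^ Module.finrank F V - 1) * q ^ (Module.finrank F V - 1) := by
  classical
  haveI : Finite V := Module.finite_of_finite F
  haveI : Fintype V := Fintype.ofFinite V
  let E : {p : V × V // ω p.1 p.2 = 1} ≃ (Σ v : {v : V // v ≠ 0}, {w : V // ω (v : V) w = 1}) :=
    { toFun := fun p => ⟨⟨p.1.1, fun h => by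
        have h1 := p.2
        rw [h] at h1
        simp at h1⟩, ⟨p.1.2, p.2⟩⟩
      invFun := fun s => ⟨(s.1.1, s.2.1), s.2.2⟩
      left_inv := fun p => rfl
      right_inv := fun s => rfl }
  rw [Nat.card_congr E, Nat.card_sigma]
  have h1 : ∀ a : {v : V // v ≠ 0},
      Nat.card {w : V // ω (a : V) w = 1} = q ^ (Module.finrank F V - 1) := by
    intro a
    obtain ⟨y, hy⟩ : ∃ y, ω a.1 y ≠ 0 := by
      by_contra hcon
      push Not at hcon
      exact a.2 (hnd a.1 hcon)
    exact card_functional_fiber hF (ω a.1) ((ω a.1 y)⁻¹ • y)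
      (by rw [map_smul, smul_eq_mul, inv_mul_cancel₀ hy])
  simp only [h1, Finset.sum_const, Finset.card_univ, smul_eq_mul]
  congr 1
  rw [Fintype.card_subtype_compl (fun u : V => u = 0), Fintype.card_subtype_eq,
    ← Nat.card_eq_fintype_card, Module.natCard_eq_pow_finrank (K := F), Nat.card_eq_fintype_card,
    hF]

/-- Symplectic families `(e, f)` of length `n` for an alternating form. -/
abbrev SympFam {F : Type*} [Field F] {V : Type*} [AddCommGroup V] [Module F V]
    (ω : LinearMap.BilinForm F V) (n : ℕ) : Type _ :=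
  {p : (Fin n → V) × (Fin n → V) // (∀ i j, ω (p.1 i) (p.2 j) = if i = j then 1 else 0) ∧
    (∀ i j, ω (p.1 i) (p.1 j) = 0 ∧ ω (p.2 i) (p.2 j) = 0)}

theorem symp_fam_fiber_card {F : Type*} [Field F] {V : Type*} [AddCommGroup V] [Module F V]
    (ω : LinearMap.BilinForm F V) (halt : ∀ x, ω x x = 0) (n : ℕ) (v w : V) (hvw : ω v w = 1) :
    Nat.card {x : SympFam ω (n + 1) // x.1.1 0 = v ∧ x.1.2 0 = w}
      = Nat.card (SympFam (ω.restrict (LinearMap.ker (ω v) ⊓ LinearMap.ker (ω w))) n) := by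
  have hskew : ∀ x y, ω y x = -ω x y := by
    intro x y
    have h1 := halt (x + y)
    simp only [map_add, LinearMap.add_apply, halt, zero_add, add_zero] at h1
    linear_combination h1
  have hwv : ω w v = -1 := by rw [hskew v w, hvw]
  obtain ⟨W, hW⟩ : ∃ W : Submodule F V, W = LinearMap.ker (ω v) ⊓ LinearMap.ker (ω w) :=
    ⟨_, rfl⟩
  rw [← hW]
  have hWmem : ∀ u ∈ W, ω v u = 0 ∧ ω w u = 0 := by
    intro u hu
    rw [hW, Submodule.mem_inf, LinearMap.mem_ker, LinearMap.mem_ker] at hu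
    exact hu
  have hWmem' : ∀ u ∈ W, ω u v = 0 ∧ ω u w = 0 := by
    intro u hu
    obtain ⟨h1, h2⟩ := hWmem u hu
    rw [hskew v u, hskew w u, h1, h2]
    simp
  have hWin : ∀ u, ω v u = 0 → ω w u = 0 → u ∈ W := by
    intro u h1 h2
    rw [hW, Submodule.mem_inf, LinearMap.mem_ker, LinearMap.mem_ker]
    exact ⟨h1, h2⟩
  have hcons1 : ∀ z : SympFam (ω.restrict W) n, ∀ i j,
      ω ((Fin.cons v (fun i => (z.1.1 i : V)) : Fin (n + 1) → V) i)
        ((Fin.cons w (fun i => (z.1.2 i : V)) : Fin (n + 1) → V) j) = if i = j then 1 else 0 := by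
    intro z
    have h1' : ∀ i j, ω (z.1.1 i : V) (z.1.2 j : V) = if i = j then 1 else 0 := z.2.1
    intro i j
    induction i using Fin.cases with
    | zero =>
      induction j using Fin.cases with
      | zero =>
        rw [Fin.cons_zero, Fin.cons_zero, if_pos rfl]
        exact hvw
      | succ j =>
        rw [Fin.cons_zero, Fin.cons_succ, if_neg (Fin.succ_ne_zero j).symm]
        exact (hWmem _ (z.1.2 j).2).1
    | succ i =>
      induction j using Fin.cases with
      | zero =>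
        rw [Fin.cons_zero, Fin.cons_succ, if_neg (Fin.succ_ne_zero i)]
        exact (hWmem' _ (z.1.1 i).2).2
      | succ j =>
        rw [Fin.cons_succ, Fin.cons_succ, h1']
        simp only [Fin.succ_inj]
  have hcons2 : ∀ z : SympFam (ω.restrict W) n, ∀ i j,
      ω ((Fin.cons v (fun i => (z.1.1 i : V)) : Fin (n + 1) → V) i)
        ((Fin.cons v (fun i => (z.1.1 i : V)) : Fin (n + 1) → V) j) = 0 ∧
      ω ((Fin.cons w (fun i => (z.1.2 i : V)) : Fin (n + 1) → V) i)
        ((Fin.cons w (fun i => (z.1.2 i : V)) : Fin (n + 1) → V) j) = 0 := by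
    intro z
    have h2' : ∀ i j, ω (z.1.1 i : V) (z.1.1 j : V) = 0 ∧ ω (z.1.2 i : V) (z.1.2 j : V) = 0 :=
      z.2.2
    intro i j
    induction i using Fin.cases with
    | zero =>
      induction j using Fin.cases with
      | zero =>
        rw [Fin.cons_zero, Fin.cons_zero]
        exact ⟨halt v, halt w⟩
      | succ j =>
        rw [Fin.cons_zero, Fin.cons_succ, Fin.cons_zero, Fin.cons_succ]
        exact ⟨(hWmem _ (z.1.1 j).2).1, (hWmem _ (z.1.2 j).2).2⟩
    | succ i =>
      induction j using Fin.cases with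
      | zero =>
        rw [Fin.cons_zero, Fin.cons_succ, Fin.cons_zero, Fin.cons_succ]
        exact ⟨(hWmem' _ (z.1.1 i).2).1, (hWmem' _ (z.1.2 i).2).2⟩
      | succ j =>
        rw [Fin.cons_succ, Fin.cons_succ, Fin.cons_succ, Fin.cons_succ]
        exact h2' i j
  have hmemE : ∀ x : {x : SympFam ω (n + 1) // x.1.1 0 = v ∧ x.1.2 0 = w}, ∀ i : Fin n,
      x.1.1.1 i.succ ∈ W := by
    intro x i
    have hv := x.2.1
    have hw := x.2.2
    apply hWin
    · have h := (x.1.2.2 0 i.succ).1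
      rw [hv] at h
      exact h
    · have h := x.1.2.1 i.succ 0
      rw [hw, if_neg (Fin.succ_ne_zero i)] at h
      rw [hskew, h, neg_zero]
  have hmemF : ∀ x : {x : SympFam ω (n + 1) // x.1.1 0 = v ∧ x.1.2 0 = w}, ∀ i : Fin n,
      x.1.1.2 i.succ ∈ W := by
    intro x i
    have hv := x.2.1
    have hw := x.2.2
    apply hWin
    · have h := x.1.2.1 0 i.succ
      rw [hv, if_neg (Fin.succ_ne_zero i).symm] at h
      exact h
    · have h := (x.1.2.2 0 i.succ).2
      rw [hw] at h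
      exact h
  apply Nat.card_congr
  exact
    { toFun := fun x => ⟨(fun i => ⟨x.1.1.1 i.succ, hmemE x i⟩,
          fun i => ⟨x.1.1.2 i.succ, hmemF x i⟩),
        fun i j => by
          show ω (x.1.1.1 i.succ) (x.1.1.2 j.succ) = _
          rw [x.1.2.1]
          simp only [Fin.succ_inj],
        fun i j => x.1.2.2 i.succ j.succ⟩
      invFun := fun z => ⟨⟨((Fin.cons v (fun i => (z.1.1 i : V)) : Fin (n + 1) → V),
        (Fin.cons w (fun i => (z.1.2 i : V)) : Fin (n + 1) → V)), hcons1 z, hcons2 z⟩,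
        rfl, rfl⟩
      left_inv := by
        intro x
        apply Subtype.ext
        apply Subtype.ext
        apply Prod.ext
        · funext i
          induction i using Fin.cases with
          | zero => exact x.2.1.symm
          | succ i => rfl
        · funext i
          induction i using Fin.cases with
          | zero => exact x.2.2.symm
          | succ i => rfl
      right_inv := by
        intro z
        rfl }

theorem card_symp_fam {F : Type*} [Field F] [Fintype F] {q : ℕ} (hF : Fintype.card F = q) :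
    ∀ (n : ℕ) {V : Type*} [AddCommGroup V] [Module F V] [FiniteDimensional F V]
      (ω : LinearMap.BilinForm F V), (∀ x, ω x x = 0) → ω.Nondegenerate →
      Module.finrank F V = 2 * n →
      Nat.card (SympFam ω n)
        = ∏ i : Fin n, ((q ^ (2 * ((i : ℕ) + 1)) - 1) * q ^ (2 * (i : ℕ) + 1)) := by
  intro n
  induction n with
  | zero =>
    intro V _ _ _ ω halt hnd hV
    rw [Finset.univ_eq_empty, Finset.prod_empty, Nat.card_eq_one_iff_unique]
    constructor
    · constructor
      intro a b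
      apply Subtype.ext
      apply Prod.ext
      · funext i
        exact i.elim0
      · funext i
        exact i.elim0
    · exact ⟨⟨(fun i => i.elim0, fun i => i.elim0), fun i => i.elim0, fun i => i.elim0⟩⟩
  | succ n ih =>
    intro V _ _ _ ω halt hnd hV
    classical
    have hfinV : Finite V := Module.finite_of_finite F
    have hskew : ∀ x y, ω y x = -1 * ω x y := by
      intro x y
      have h1 := halt (x + y)
      simp only [map_add, LinearMap.add_apply, halt, zero_add, add_zero] at h1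
      linear_combination h1
    haveI : Fintype {p : V × V // ω p.1 p.2 = 1} := Fintype.ofFinite _
    let g : SympFam ω (n + 1) → {p : V × V // ω p.1 p.2 = 1} := fun x =>
      ⟨(x.1.1 0, x.1.2 0), by
        have h := x.2.1 0 0
        rw [if_pos rfl] at h
        exact h⟩
    rw [← Nat.card_congr (Equiv.sigmaFiberEquiv g), Nat.card_sigma]
    have hfib : ∀ y : {p : V × V // ω p.1 p.2 = 1}, Nat.card {x // g x = y}
        = ∏ i : Fin n, ((q ^ (2 * ((i : ℕ) + 1)) - 1) * q ^ (2 * (i : ℕ) + 1)) := by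
      intro y
      have h1 : Nat.card {x // g x = y}
          = Nat.card {x : SympFam ω (n + 1) // x.1.1 0 = y.1.1 ∧ x.1.2 0 = y.1.2} := by
        apply Nat.card_congr
        apply Equiv.subtypeEquivRight
        intro x
        constructor
        · intro h
          have h2 := congrArg Subtype.val h
          exact ⟨congrArg Prod.fst h2, congrArg Prod.snd h2⟩
        · rintro ⟨h1, h2⟩
          exact Subtype.ext (Prod.ext h1 h2)
      rw [h1, symp_fam_fiber_card ω halt n y.1.1 y.1.2 y.2]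
      apply ih
      · intro x
        exact halt x.1
      · exact pair_perp_nondeg ω hnd (-1) hskew _ _ (halt _) (halt _) y.2
      · have hwv : ω y.1.2 y.1.1 ≠ 0 := by
          rw [hskew y.1.1 y.1.2, y.2]
          simp
        have h5 := pair_perp_finrank ω y.1.1 y.1.2 (halt _) (halt _) y.2 hwv
        omega
    simp only [hfib, Finset.sum_const, Finset.card_univ, smul_eq_mul]
    rw [← Nat.card_eq_fintype_card, card_hyp_pairs hF ω hnd.1, hV, Fin.prod_univ_castSucc]
    simp only [Fin.val_castSucc, Fin.val_last]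
    have h6 : 2 * (n + 1) - 1 = 2 * n + 1 := by omega
    rw [h6]
    ring

theorem card_symp_fiber {F : Type*} [Field F] [Fintype F] {q : ℕ} (hF : Fintype.card F = q)
    (n : ℕ) {V : Type*} [AddCommGroup V] [Module F V] [FiniteDimensional F V]
    (ω : LinearMap.BilinForm F V) (halt : ∀ x, ω x x = 0) (hnd : ω.Nondegenerate)
    (hV : Module.finrank F V = 2 * (n + 1)) (v w : V) (hvw : ω v w = 1) :
    Nat.card {x : SympFam ω (n + 1) // x.1.1 0 = v ∧ x.1.2 0 = w}
      = ∏ i : Fin n, ((q ^ (2 * ((i : ℕ) + 1)) - 1) * q ^ (2 * (i : ℕ) + 1)) := by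
  have hskew : ∀ x y, ω y x = -1 * ω x y := by
    intro x y
    have h1 := halt (x + y)
    simp only [map_add, LinearMap.add_apply, halt, zero_add, add_zero] at h1
    linear_combination h1
  rw [symp_fam_fiber_card ω halt n v w hvw]
  apply card_symp_fam hF n
  · intro x
    exact halt x.1
  · exact pair_perp_nondeg ω hnd (-1) hskew _ _ (halt _) (halt _) hvw
  · have hwv : ω w v ≠ 0 := by
      rw [hskew v w, hvw]
      simp
    have h5 := pair_perp_finrank ω v w (halt _) (halt _) hvw hwv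
    omega

theorem symp_prod_formula (q n : ℕ) :
    ∏ i : Fin n, ((q ^ (2 * ((i : ℕ) + 1)) - 1) * q ^ (2 * (i : ℕ) + 1))
      = q ^ (n ^ 2) * ∏ i : Fin n, (q ^ (2 * ((i : ℕ) + 1)) - 1) := by
  induction n with
  | zero => simp
  | succ n ih =>
    rw [Fin.prod_univ_castSucc, Fin.prod_univ_castSucc (fun i : Fin (n + 1) =>
      q ^ (2 * ((i : ℕ) + 1)) - 1)]
    simp only [Fin.val_castSucc, Fin.val_last]
    rw [ih]
    have h1 : (n + 1) ^ 2 = n ^ 2 + (2 * n + 1) := by ring
    rw [h1, pow_add]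
    ring

/-! ### The standard symplectic group -/

/-- The standard alternating form `u ⬝ J v`. -/
noncomputable def spForm (m : ℕ) (F : Type*) [Field F] :
    LinearMap.BilinForm F (Fin m ⊕ Fin m → F) :=
  Matrix.toBilin' (Matrix.J (Fin m) F)

theorem spForm_apply {F : Type*} [Field F] (m : ℕ) (u v : Fin m ⊕ Fin m → F) :
    spForm m F u v = u ⬝ᵥ (Matrix.J (Fin m) F).mulVec v :=
  Matrix.toBilin'_apply' _ _ _

theorem spForm_alt {F : Type*} [Field F] (m : ℕ) (v : Fin m ⊕ Fin m → F) :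
    spForm m F v v = 0 := by
  rw [spForm_apply]
  unfold Matrix.J
  rw [Matrix.fromBlocks_mulVec, dotProduct, Fintype.sum_sum_type]
  simp only [Sum.elim_inl, Sum.elim_inr, Matrix.zero_mulVec, Matrix.neg_mulVec,
    Matrix.one_mulVec, zero_add, add_zero, Pi.neg_apply, Function.comp_apply]
  rw [← Finset.sum_add_distrib]
  apply Finset.sum_eq_zero
  intro i _
  ring

theorem spForm_skew {F : Type*} [Field F] (m : ℕ) (x y : Fin m ⊕ Fin m → F) :
    spForm m F y x = -spForm m F x y := by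
  have h1 := spForm_alt m (x + y)
  simp only [map_add, LinearMap.add_apply, spForm_alt, zero_add, add_zero] at h1
  linear_combination h1

theorem spForm_nondeg {F : Type*} [Field F] (m : ℕ) : (spForm m F).Nondegenerate :=
  LinearMap.BilinForm.nondegenerate_toBilin'_of_det_ne_zero' _
    (Matrix.isUnit_det_J (Fin m) F).ne_zero

theorem spForm_finrank {F : Type*} [Field F] (m : ℕ) :
    Module.finrank F (Fin m ⊕ Fin m → F) = 2 * m := by
  rw [Module.finrank_fintype_fun_eq_card, Fintype.card_sum, Fintype.card_fin]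
  ring

theorem transpose_J_mul_apply {F : Type*} [Field F] (m : ℕ)
    (A : Matrix (Fin m ⊕ Fin m) (Fin m ⊕ Fin m) F) (k l : Fin m ⊕ Fin m) :
    (A.transpose * Matrix.J (Fin m) F * A) k l = spForm m F (fun i => A i k) (fun i => A i l) := by
  rw [spForm_apply, Matrix.mul_assoc]
  rfl

theorem mem_sp_iff_cols {F : Type*} [Field F] (m : ℕ)
    (A : Matrix (Fin m ⊕ Fin m) (Fin m ⊕ Fin m) F) :
    A ∈ Matrix.symplecticGroup (Fin m) F ↔
      ∀ k l, spForm m F (fun i => A i k) (fun i => A i l) = Matrix.J (Fin m) F k l := by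
  rw [SymplecticGroup.mem_iff']
  constructor
  · intro h k l
    rw [← transpose_J_mul_apply, h]
  · intro h
    ext k l
    rw [transpose_J_mul_apply, h]

theorem sp_fam_equiv (m : ℕ) (F : Type*) [Field F] :
    ∃ Φ : Matrix.symplecticGroup (Fin m) F ≃ SympFam (spForm m F) m,
      ∀ g i, (Φ g).1.1 i = (fun r => (g : Matrix (Fin m ⊕ Fin m) (Fin m ⊕ Fin m) F) r (Sum.inr i)) ∧
        (Φ g).1.2 i = (fun r => (g : Matrix (Fin m ⊕ Fin m) (Fin m ⊕ Fin m) F) r (Sum.inl i)) := by
  classical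
  have hJ21 : ∀ i j : Fin m, Matrix.J (Fin m) F (Sum.inr i) (Sum.inl j) = if i = j then 1 else 0 := by
    intro i j
    unfold Matrix.J
    rw [Matrix.fromBlocks_apply₂₁, Matrix.one_apply]
  have hJ12 : ∀ i j : Fin m, Matrix.J (Fin m) F (Sum.inl i) (Sum.inr j)
      = -(if i = j then 1 else 0) := by
    intro i j
    unfold Matrix.J
    rw [Matrix.fromBlocks_apply₁₂, Matrix.neg_apply, Matrix.one_apply]
  have hJ11 : ∀ i j : Fin m, Matrix.J (Fin m) F (Sum.inl i) (Sum.inl j) = 0 := by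
    intro i j
    unfold Matrix.J
    rw [Matrix.fromBlocks_apply₁₁, Matrix.zero_apply]
  have hJ22 : ∀ i j : Fin m, Matrix.J (Fin m) F (Sum.inr i) (Sum.inr j) = 0 := by
    intro i j
    unfold Matrix.J
    rw [Matrix.fromBlocks_apply₂₂, Matrix.zero_apply]
  let f : Matrix.symplecticGroup (Fin m) F → SympFam (spForm m F) m := fun g =>
    ⟨(fun i r => (g : Matrix (Fin m ⊕ Fin m) (Fin m ⊕ Fin m) F) r (Sum.inr i),
      fun i r => (g : Matrix (Fin m ⊕ Fin m) (Fin m ⊕ Fin m) F) r (Sum.inl i)),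
      fun i j => by
        have h := (mem_sp_iff_cols m _).1 g.2 (Sum.inr i) (Sum.inl j)
        rw [hJ21] at h
        exact h,
      fun i j => by
        have h1 := (mem_sp_iff_cols m _).1 g.2 (Sum.inr i) (Sum.inr j)
        have h2 := (mem_sp_iff_cols m _).1 g.2 (Sum.inl i) (Sum.inl j)
        rw [hJ22] at h1
        rw [hJ11] at h2
        exact ⟨h1, h2⟩⟩
  have hinj : Function.Injective f := by
    intro g g' h
    apply Subtype.ext
    ext r c
    rcases c with j | i
    · exact congrFun (congrFun (congrArg (fun x : SympFam (spForm m F) m => x.1.2) h) j) r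
    · exact congrFun (congrFun (congrArg (fun x : SympFam (spForm m F) m => x.1.1) h) i) r
  have hsurj : Function.Surjective f := by
    intro x
    obtain ⟨A, hA⟩ : ∃ A : Matrix (Fin m ⊕ Fin m) (Fin m ⊕ Fin m) F,
        A = Matrix.of (fun r c => Sum.elim (fun j => x.1.2 j r) (fun i => x.1.1 i r) c) :=
      ⟨_, rfl⟩
    have hcl : ∀ j, (fun r => A r (Sum.inl j)) = x.1.2 j := by
      intro j
      rw [hA]
      rfl
    have hcr : ∀ i, (fun r => A r (Sum.inr i)) = x.1.1 i := by
      intro i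
      rw [hA]
      rfl
    have hmem : A ∈ Matrix.symplecticGroup (Fin m) F := by
      rw [mem_sp_iff_cols]
      rintro (i | i) (j | j)
      · rw [hcl, hcl, hJ11]
        exact (x.2.2 i j).2
      · rw [hcl, hcr, hJ12, spForm_skew, x.2.1]
        simp only [eq_comm]
      · rw [hcr, hcl, hJ21]
        exact x.2.1 i j
      · rw [hcr, hcr, hJ22]
        exact (x.2.2 i j).1
    refine ⟨⟨A, hmem⟩, ?_⟩
    apply Subtype.ext
    apply Prod.ext
    · funext i
      exact hcr i
    · funext j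
      exact hcl j
  exact ⟨Equiv.ofBijective f ⟨hinj, hsurj⟩, fun g i => ⟨rfl, rfl⟩⟩

/-- The order of the symplectic group `Sp_{2m}(q)`. -/
theorem card_symplecticGroup {F : Type*} [Field F] [Fintype F] {q : ℕ}
    (hF : Fintype.card F = q) (m : ℕ) :
    Nat.card (Matrix.symplecticGroup (Fin m) F)
      = q ^ (m ^ 2) * ∏ i : Fin m, (q ^ (2 * ((i : ℕ) + 1)) - 1) := by
  obtain ⟨Φ, -⟩ := sp_fam_equiv m F
  rw [Nat.card_congr Φ, card_symp_fam hF m (spForm m F) (spForm_alt m) (spForm_nondeg m)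
    (spForm_finrank m), symp_prod_formula]

theorem sp_exists_mulVec_eq {F : Type*} [Field F] [Fintype F] (m : ℕ)
    (u : Fin (m + 1) ⊕ Fin (m + 1) → F) (hu : u ≠ 0) :
    ∃ g : Matrix.symplecticGroup (Fin (m + 1)) F,
      (g : Matrix (Fin (m + 1) ⊕ Fin (m + 1)) (Fin (m + 1) ⊕ Fin (m + 1)) F).mulVec
        (Pi.single (Sum.inr 0) 1) = u := by
  classical
  obtain ⟨Φ, hΦ⟩ := sp_fam_equiv (m + 1) F
  obtain ⟨w, hw⟩ : ∃ w, spForm (m + 1) F u w = 1 := by
    obtain ⟨y, hy⟩ : ∃ y, spForm (m + 1) F u y ≠ 0 := by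
      by_contra hcon
      push Not at hcon
      exact hu ((spForm_nondeg (m + 1)).1 u hcon)
    exact ⟨(spForm (m + 1) F u y)⁻¹ • y, by rw [map_smul, smul_eq_mul, inv_mul_cancel₀ hy]⟩
  have hcard := card_symp_fiber (rfl : Fintype.card F = Fintype.card F) m (spForm (m + 1) F)
    (spForm_alt (m + 1)) (spForm_nondeg (m + 1)) (spForm_finrank (m + 1)) u w hw
  have hq : 1 < Fintype.card F := Fintype.one_lt_card
  have hpos : 0 < ∏ i : Fin m, ((Fintype.card F ^ (2 * ((i : ℕ) + 1)) - 1)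
      * Fintype.card F ^ (2 * (i : ℕ) + 1)) := by
    apply Finset.prod_pos
    intro i _
    apply Nat.mul_pos
    · have h1 : 1 < Fintype.card F ^ (2 * ((i : ℕ) + 1)) := Nat.one_lt_pow (by omega) hq
      omega
    · exact pow_pos (by omega) _
  have hne : Nonempty {x : SympFam (spForm (m + 1) F) (m + 1) // x.1.1 0 = u ∧ x.1.2 0 = w} := by
    by_contra hcon
    rw [not_nonempty_iff] at hcon
    rw [Nat.card_of_isEmpty] at hcard
    omega
  obtain ⟨x, hx1, hx2⟩ := hne
  refine ⟨Φ.symm x, ?_⟩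
  rw [Matrix.mulVec_single_one]
  have h1 := (hΦ (Φ.symm x) 0).1
  rw [Equiv.apply_symm_apply] at h1
  rw [← hx1, h1]
  rfl

theorem sp_stabilizer_card {F : Type*} [Field F] [Fintype F] {q : ℕ}
    (hF : Fintype.card F = q) (m : ℕ) (a : Fin (m + 1) ⊕ Fin (m + 1) → F) (ha : a ≠ 0) :
    Nat.card (MulAction.stabilizer (Matrix.symplecticGroup (Fin (m + 1)) F) a)
      = q ^ (2 * m + 1) * (q ^ (m ^ 2) * ∏ i : Fin m, (q ^ (2 * ((i : ℕ) + 1)) - 1)) := by
  classical
  have h1 := Subgroup.card_mul_index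
    (MulAction.stabilizer (Matrix.symplecticGroup (Fin (m + 1)) F) a)
  rw [MulAction.index_stabilizer, card_symplecticGroup hF] at h1
  have horb : MulAction.orbit (Matrix.symplecticGroup (Fin (m + 1)) F) a
      = {u : Fin (m + 1) ⊕ Fin (m + 1) → F | u ≠ 0} := by
    ext u
    rw [MulAction.mem_orbit_iff]
    constructor
    · rintro ⟨g, rfl⟩
      intro h0
      apply ha
      have h2 : g⁻¹ • (g • a) = a := inv_smul_smul g a
      rw [h0, smul_zero] at h2
      exact h2.symm
    · intro hu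
      obtain ⟨g1, hg1⟩ := sp_exists_mulVec_eq m a ha
      obtain ⟨g2, hg2⟩ := sp_exists_mulVec_eq m u hu
      refine ⟨g2 * g1⁻¹, ?_⟩
      have ha' : a = g1 • (Pi.single (Sum.inr 0) 1 : Fin (m + 1) ⊕ Fin (m + 1) → F) :=
        hg1.symm
      rw [ha', mul_smul, inv_smul_smul]
      exact hg2
  rw [horb] at h1
  have hn : ({u : Fin (m + 1) ⊕ Fin (m + 1) → F | u ≠ 0} : Set _).ncard
      = q ^ (2 * (m + 1)) - 1 := by
    have h2 : {u : Fin (m + 1) ⊕ Fin (m + 1) → F | u ≠ 0}
        = (Set.univ : Set (Fin (m + 1) ⊕ Fin (m + 1) → F)) \ {0} := by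
      ext u
      simp
    rw [h2, Set.ncard_sdiff_singleton_of_mem (Set.mem_univ _), Set.ncard_univ,
      Nat.card_eq_fintype_card, Fintype.card_fun, Fintype.card_sum, Fintype.card_fin, hF]
    congr 2
    ring
  rw [hn, Fin.prod_univ_castSucc] at h1
  simp only [Fin.val_castSucc, Fin.val_last] at h1
  have hq : 1 < q := by
    rw [← hF]
    exact Fintype.one_lt_card
  have hpos : 0 < q ^ (2 * (m + 1)) - 1 := by
    have h3 : 1 < q ^ (2 * (m + 1)) := Nat.one_lt_pow (by omega) hq
    omega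
  apply Nat.eq_of_mul_eq_mul_right hpos
  rw [h1]
  have h4 : (m + 1) ^ 2 = (2 * m + 1) + m ^ 2 := by ring
  rw [h4, pow_add]
  ring

theorem rank_one_decomp_gen {F : Type*} [Field F] {ι : Type*} [Fintype ι] [DecidableEq ι]
    (N : Matrix ι ι F) (hr : N.rank = 1) :
    ∃ u φ : ι → F, u ≠ 0 ∧ φ ≠ 0 ∧ N = Matrix.vecMulVec u φ := by
  have h1 : Module.finrank F (LinearMap.range N.mulVecLin) = 1 := hr
  obtain ⟨⟨u, hu⟩, hu0, hspan⟩ := finrank_eq_one_iff'.1 h1
  have hu0' : u ≠ 0 := fun h => hu0 (Subtype.ext h)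
  have hcol : ∀ j : ι, ∃ c : F, c • u = N.mulVec (Pi.single j 1) := by
    intro j
    obtain ⟨c, hc⟩ := hspan ⟨N.mulVec (Pi.single j 1), ⟨Pi.single j 1, rfl⟩⟩
    exact ⟨c, congrArg Subtype.val hc⟩
  choose φ hφ using hcol
  have hN : N = Matrix.vecMulVec u φ := by
    ext i j
    have h2 := congrFun (hφ j) i
    have h3 : N.mulVec (Pi.single j 1) i = N i j := by
      simp [Matrix.mulVec]
    rw [h3] at h2
    rw [Matrix.vecMulVec_apply, ← h2, Pi.smul_apply, smul_eq_mul, mul_comm]
  have hN0 : N ≠ 0 := by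
    rintro rfl
    simp at hr
  refine ⟨u, φ, hu0', ?_, hN⟩
  rintro rfl
  apply hN0
  rw [hN, Matrix.vecMulVec_zero]

theorem sp_form_inv {F : Type*} [Field F] (m : ℕ) (g : Matrix.symplecticGroup (Fin m) F)
    (x y : Fin m ⊕ Fin m → F) :
    spForm m F ((g : Matrix (Fin m ⊕ Fin m) (Fin m ⊕ Fin m) F).mulVec x)
      ((g : Matrix (Fin m ⊕ Fin m) (Fin m ⊕ Fin m) F).mulVec y) = spForm m F x y := by
  have hJ := SymplecticGroup.mem_iff'.1 g.2
  rw [spForm_apply, spForm_apply, Matrix.mulVec_mulVec, ← Matrix.vecMul_transpose,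
    ← Matrix.dotProduct_mulVec, Matrix.mulVec_mulVec, ← Matrix.mul_assoc, hJ]

theorem sp_centralizer_eq_stabilizer {F : Type*} [Field F] [CharP F 2] (m : ℕ)
    (t : Matrix.symplecticGroup (Fin m) F)
    (ht : ((t : Matrix (Fin m ⊕ Fin m) (Fin m ⊕ Fin m) F) - 1).rank = 1) :
    ∃ a : Fin m ⊕ Fin m → F, a ≠ 0 ∧
      Subgroup.centralizer ({t} : Set (Matrix.symplecticGroup (Fin m) F))
        = MulAction.stabilizer (Matrix.symplecticGroup (Fin m) F) a := by
  classical
  obtain ⟨a, b, ha, hb, hN⟩ := rank_one_decomp_gen _ ht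
  have ht' : (t : Matrix (Fin m ⊕ Fin m) (Fin m ⊕ Fin m) F) = 1 + Matrix.vecMulVec a b := by
    rw [← hN]
    abel
  have htx : ∀ x, (t : Matrix (Fin m ⊕ Fin m) (Fin m ⊕ Fin m) F).mulVec x
      = x + (b ⬝ᵥ x) • a := by
    intro x
    rw [ht', Matrix.add_mulVec, Matrix.one_mulVec, Matrix.vecMulVec_mulVec, op_smul_eq_smul]
  have hkey : ∀ x y, (b ⬝ᵥ y) * spForm m F x a + (b ⬝ᵥ x) * spForm m F a y = 0 := by
    intro x y
    have h := sp_form_inv m t x y
    rw [htx, htx] at h
    simp only [map_add, map_smul, LinearMap.add_apply, LinearMap.smul_apply, smul_eq_mul,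
      spForm_alt] at h
    linear_combination h
  obtain ⟨j, hj⟩ := Function.ne_iff.1 hb
  have hj' : b j ≠ 0 := hj
  obtain ⟨y₀, hy₀⟩ : ∃ y₀, b ⬝ᵥ y₀ = 1 :=
    ⟨(b j)⁻¹ • Pi.single j 1, by
      rw [dotProduct_smul, dotProduct_single_one, smul_eq_mul, inv_mul_cancel₀ hj']⟩
  obtain ⟨c, hc⟩ : ∃ c, c = spForm m F y₀ a := ⟨_, rfl⟩
  have hform : ∀ x, spForm m F x a = c * (b ⬝ᵥ x) := by
    intro x
    have h := hkey x y₀
    rw [hy₀, one_mul, spForm_skew m y₀ a, ← hc] at h
    linear_combination h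
  have hc0 : c ≠ 0 := by
    intro h0
    apply ha
    apply (spForm_nondeg m).2
    intro x
    rw [hform, h0, zero_mul]
  obtain ⟨j₀, hj₀⟩ := Function.ne_iff.1 ha
  have hj₀' : a j₀ ≠ 0 := hj₀
  have h2 : (2 : F) = 0 := CharTwo.two_eq_zero
  refine ⟨a, ha, ?_⟩
  ext g
  rw [Subgroup.mem_centralizer_iff, MulAction.mem_stabilizer_iff]
  have hmat : (∀ h ∈ ({t} : Set (Matrix.symplecticGroup (Fin m) F)), h * g = g * h) ↔
      (g : Matrix (Fin m ⊕ Fin m) (Fin m ⊕ Fin m) F) * Matrix.vecMulVec a b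
        = Matrix.vecMulVec a b * (g : Matrix (Fin m ⊕ Fin m) (Fin m ⊕ Fin m) F) := by
    constructor
    · intro h
      have h1 := congrArg Subtype.val (h t rfl)
      have h3 : (t : Matrix (Fin m ⊕ Fin m) (Fin m ⊕ Fin m) F)
          * (g : Matrix (Fin m ⊕ Fin m) (Fin m ⊕ Fin m) F)
          = (g : Matrix (Fin m ⊕ Fin m) (Fin m ⊕ Fin m) F)
            * (t : Matrix (Fin m ⊕ Fin m) (Fin m ⊕ Fin m) F) := h1
      rw [ht', add_mul, mul_add, one_mul, mul_one] at h3
      exact (add_left_cancel h3).symm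
    · intro h h' hh'
      rw [Set.mem_singleton_iff] at hh'
      subst hh'
      apply Subtype.ext
      show (h' : Matrix (Fin m ⊕ Fin m) (Fin m ⊕ Fin m) F)
          * (g : Matrix (Fin m ⊕ Fin m) (Fin m ⊕ Fin m) F)
          = (g : Matrix (Fin m ⊕ Fin m) (Fin m ⊕ Fin m) F)
            * (h' : Matrix (Fin m ⊕ Fin m) (Fin m ⊕ Fin m) F)
      rw [ht', add_mul, mul_add, one_mul, mul_one, h]
  rw [hmat, Matrix.mul_vecMulVec, Matrix.vecMulVec_mul]
  have hga : g • a = (g : Matrix (Fin m ⊕ Fin m) (Fin m ⊕ Fin m) F).mulVec a := rfl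
  rw [hga]
  constructor
  · intro h
    have hx : ∀ x, (b ⬝ᵥ x) • (g : Matrix (Fin m ⊕ Fin m) (Fin m ⊕ Fin m) F).mulVec a
        = (b ⬝ᵥ (g : Matrix (Fin m ⊕ Fin m) (Fin m ⊕ Fin m) F).mulVec x) • a := by
      intro x
      have h1 := congrArg (fun M : Matrix (Fin m ⊕ Fin m) (Fin m ⊕ Fin m) F => M.mulVec x) h
      simp only [Matrix.vecMulVec_mulVec, op_smul_eq_smul] at h1
      rw [h1, Matrix.dotProduct_mulVec]
    obtain ⟨lam, hlam⟩ : ∃ lam, lam = b ⬝ᵥ (g : Matrix (Fin m ⊕ Fin m) (Fin m ⊕ Fin m) F).mulVec y₀ :=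
      ⟨_, rfl⟩
    have hgl : (g : Matrix (Fin m ⊕ Fin m) (Fin m ⊕ Fin m) F).mulVec a = lam • a := by
      have h1 := hx y₀
      rw [hy₀, one_smul, ← hlam] at h1
      exact h1
    have hbx : ∀ x, (b ⬝ᵥ x) * lam
        = b ⬝ᵥ (g : Matrix (Fin m ⊕ Fin m) (Fin m ⊕ Fin m) F).mulVec x := by
      intro x
      have h1 := congrFun (hx x) j₀
      rw [hgl] at h1
      simp only [Pi.smul_apply, smul_eq_mul] at h1
      apply mul_right_cancel₀ hj₀'
      rw [← h1]
      ring
    have h5 := sp_form_inv m g y₀ a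
    rw [hgl, map_smul, smul_eq_mul, hform, hform, ← hbx, hy₀] at h5
    have h6 : lam * lam = 1 := by
      apply mul_left_cancel₀ hc0
      linear_combination h5
    have h7 : (lam - 1) * (lam - 1) = 0 := by
      linear_combination h6 + (1 - lam) * h2
    have h8 : lam = 1 := by
      have h9 := mul_self_eq_zero.1 h7
      exact sub_eq_zero.1 h9
    rw [hgl, h8, one_smul]
  · intro h
    rw [h]
    congr 1
    have hbg : ∀ x, b ⬝ᵥ ((g : Matrix (Fin m ⊕ Fin m) (Fin m ⊕ Fin m) F).mulVec x) = b ⬝ᵥ x := by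
      intro x
      have h1 := hform ((g : Matrix (Fin m ⊕ Fin m) (Fin m ⊕ Fin m) F).mulVec x)
      have h3 := sp_form_inv m g x a
      rw [h] at h3
      rw [h3, hform x] at h1
      exact (mul_left_cancel₀ hc0 h1).symm
    funext k
    have h3 := hbg (Pi.single k 1)
    rw [Matrix.dotProduct_mulVec, dotProduct_single_one, dotProduct_single_one] at h3
    exact h3.symm

/-- Centraliser order of a symplectic transvection in characteristic two. -/
theorem sp_transvection_centralizer_card {F : Type*} [Field F] [Fintype F] [CharP F 2] {q : ℕ}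
    (hF : Fintype.card F = q) (m : ℕ) (t : Matrix.symplecticGroup (Fin (m + 1)) F)
    (ht : ((t : Matrix (Fin (m + 1) ⊕ Fin (m + 1)) (Fin (m + 1) ⊕ Fin (m + 1)) F) - 1).rank = 1) :
    Nat.card ↥(Subgroup.centralizer ({t} : Set ↥(Matrix.symplecticGroup (Fin (m + 1)) F)))
      = q ^ (2 * m + 1) * (q ^ (m ^ 2) * ∏ i : Fin m, (q ^ (2 * ((i : ℕ) + 1)) - 1)) := by
  obtain ⟨a, ha, hc⟩ := sp_centralizer_eq_stabilizer (m + 1) t ht
  rw [hc]
  exact sp_stabilizer_card hF m a ha

end Cfsg.Agent.Helper15
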