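import Mathlib

set_option autoImplicit false

namespace Cfsg.Agent.Helper15

/-- A linearly independent pair inside a `2`-dimensional subspace spans it. -/
theorem span_pair_eq {F V : Type*} [Field F] [AddCommGroup V] [Module F V] [FiniteDimensional F V]
    (W : Submodule F V) (hW : Module.finrank F W = 2) (s : Fin 2 → W)
    (hs : LinearIndependent F s) :
    Submodule.span F (Set.range (fun i => (s i : V))) = W := by
  have hle : Submodule.span F (Set.range (fun i => (s i : V))) ≤ W := by
    rw [Submodule.span_le]
    rintro _ ⟨i, rfl⟩
    exact (s i).2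
  have hli : LinearIndependent F (fun i => (s i : V)) :=
    hs.map' W.subtype (Submodule.ker_subtype W)
  apply Submodule.eq_of_le_of_finrank_eq hle
  rw [finrank_span_eq_card hli, Fintype.card_fin, hW]

/-- Counting `2`-dimensional subspaces with a property through their ordered bases. -/
theorem card_indep_pairs {F V : Type*} [Field F] [Fintype F] [AddCommGroup V] [Module F V]
    [Finite V] (P : Submodule F V → Prop) :
    Nat.card {s : Fin 2 → V // LinearIndependent F s ∧ P (Submodule.span F (Set.range s))}
      = Nat.card {W : Submodule F V // Module.finrank F W = 2 ∧ P W}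
        * ((Fintype.card F ^ 2 - 1) * (Fintype.card F ^ 2 - Fintype.card F)) := by
  classical
  haveI : Finite (Submodule F V) :=
    Finite.of_injective (fun W : Submodule F V => (W : Set V)) SetLike.coe_injective
  haveI : Fintype {W : Submodule F V // Module.finrank F W = 2 ∧ P W} := Fintype.ofFinite _
  let f : {s : Fin 2 → V // LinearIndependent F s ∧ P (Submodule.span F (Set.range s))} →
      {W : Submodule F V // Module.finrank F W = 2 ∧ P W} :=
    fun s => ⟨Submodule.span F (Set.range s.1), by
      rw [finrank_span_eq_card s.2.1, Fintype.card_fin], s.2.2⟩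
  have hfib : ∀ W : {W : Submodule F V // Module.finrank F W = 2 ∧ P W},
      Nat.card {t // f t = W}
        = (Fintype.card F ^ 2 - 1) * (Fintype.card F ^ 2 - Fintype.card F) := by
    intro W
    have h1 := card_linearIndependent (K := F) (V := W.1) (k := 2) (by rw [W.2.1])
    rw [W.2.1, Fin.prod_univ_two] at h1
    simp only [Fin.val_zero, Fin.val_one, pow_zero, pow_one] at h1
    rw [← h1]
    apply Nat.card_congr
    exact
      { toFun := fun t => ⟨fun i => ⟨t.1.1 i, by
            have h := congrArg Subtype.val t.2
            rw [← h]
            exact Submodule.subset_span ⟨i, rfl⟩⟩, by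
            apply LinearIndependent.of_comp W.1.subtype
            exact t.1.2.1⟩
        invFun := fun s => ⟨⟨fun i => (s.1 i : V),
            s.2.map' W.1.subtype (Submodule.ker_subtype W.1), by
            rw [span_pair_eq W.1 W.2.1 s.1 s.2]
            exact W.2.2⟩, Subtype.ext (span_pair_eq W.1 W.2.1 s.1 s.2)⟩
        left_inv := fun t => Subtype.ext (Subtype.ext rfl)
        right_inv := fun s => Subtype.ext rfl }
  rw [← Nat.card_congr (Equiv.sigmaFiberEquiv f), Nat.card_sigma]
  simp_rw [hfib]
  rw [Finset.sum_const, Finset.card_univ, smul_eq_mul, Nat.card_eq_fintype_card]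

end Cfsg.Agent.Helper15
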