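import Mathlib
import Cfsg.Agent.Helper15.SUCenter
import Cfsg.Agent.Helper15.SpCard
import Cfsg.Prelude.Def_ClassicalGeometry

set_option autoImplicit false

namespace Cfsg.Agent.Helper15

/-- An element of trace one. -/
theorem exists_trace_one {K : Type*} [Field K] [Fintype K] {q : ℕ}
    (hK : Fintype.card K = q ^ 2) : ∃ θ : K, θ + θ ^ q = 1 := by
  obtain ⟨c, hc⟩ := exists_not_fixed hK
  have hd : c - c ^ q ≠ 0 := fun h => hc (sub_eq_zero.1 h).symm
  have hd' : c ^ q - c ≠ 0 := fun h => hc (sub_eq_zero.1 h)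
  obtain ⟨φ, hφ⟩ := exists_frob hK
  refine ⟨c / (c - c ^ q), ?_⟩
  have h1 : (c / (c - c ^ q)) ^ q = c ^ q / (c ^ q - c) := by
    rw [div_pow, ← hφ (c - c ^ q), map_sub, hφ, hφ, pow_card_sq hK]
  rw [h1]
  field_simp
  ring

/-- The structure of a unitary transvection. -/
theorem herm_transvection_form {K : Type*} [Field K] [Fintype K] {q : ℕ}
    (hK : Fintype.card K = q ^ 2) (n : ℕ) (M : Matrix (Fin n) (Fin n) K)
    (hrank : (M - 1).rank = 1) (hsq : (M - 1) * (M - 1) = 0)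
    (hM : ∀ x y, Cfsg.hermForm n K q (M.mulVec x) (M.mulVec y) = Cfsg.hermForm n K q x y) :
    ∃ (a : K) (u : Fin n → K), a ≠ 0 ∧ a ^ q = -a ∧ u ≠ 0 ∧ Cfsg.hermForm n K q u u = 0 ∧
      ∀ x, M.mulVec x = x + (a * Cfsg.hermForm n K q x u) • u := by
  classical
  have hh := hermForm_isHerm hK n
  have hq := two_le_of_card_sq hK
  obtain ⟨φ, hφ⟩ := exists_frob hK
  obtain ⟨u, w, hu0, hw0, hN⟩ := rank_one_decomp_gen (M - 1) hrank
  have hMx : ∀ x, M.mulVec x = x + (w ⬝ᵥ x) • u := by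
    intro x
    have h1 : M.mulVec x = x + (M - 1).mulVec x := by
      rw [Matrix.sub_mulVec, Matrix.one_mulVec]
      abel
    rw [h1, hN, Matrix.vecMulVec_mulVec, op_smul_eq_smul]
  obtain ⟨y₁, hy₁⟩ : ∃ y₁ : Fin n → K, w ⬝ᵥ y₁ ≠ 0 := by
    by_contra hcon
    push Not at hcon
    apply hw0
    funext j
    have h1 := hcon (Pi.single j 1)
    rw [dotProduct_single, mul_one] at h1
    exact h1
  have hψu : w ⬝ᵥ u = 0 := by
    have h2 : (M - 1).mulVec ((M - 1).mulVec y₁) = 0 := by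
      rw [Matrix.mulVec_mulVec, hsq, Matrix.zero_mulVec]
    rw [hN, Matrix.vecMulVec_mulVec, op_smul_eq_smul, Matrix.vecMulVec_mulVec, op_smul_eq_smul,
      dotProduct_smul, smul_eq_mul] at h2
    rcases smul_eq_zero.1 h2 with h3 | h3
    · rcases mul_eq_zero.1 h3 with h4 | h4
      · exact absurd h4 hy₁
      · exact h4
    · exact absurd h3 hu0
  have hstar : ∀ x y, (w ⬝ᵥ x) * Cfsg.hermForm n K q u y
      + (w ⬝ᵥ y) ^ q * Cfsg.hermForm n K q x u
      + (w ⬝ᵥ x) * (w ⬝ᵥ y) ^ q * Cfsg.hermForm n K q u u = 0 := by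
    intro x y
    have h3 := hM x y
    rw [hMx, hMx, hh.add_left, hh.add_right hK, hh.add_right hK, hh.smul_left, hh.smul_right,
      hh.smul_left, hh.smul_right] at h3
    linear_combination h3
  have huu : Cfsg.hermForm n K q u u = 0 := by
    have h1 := hstar u y₁
    rw [hψu, zero_mul, zero_mul, zero_mul, zero_add, add_zero] at h1
    rcases mul_eq_zero.1 h1 with h2 | h2
    · exact absurd (pow_eq_zero_iff (by omega) |>.1 h2) hy₁
    · exact h2
  obtain ⟨y₀, hy₀⟩ : ∃ y₀ : Fin n → K, w ⬝ᵥ y₀ = 1 := by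
    refine ⟨(w ⬝ᵥ y₁)⁻¹ • y₁, ?_⟩
    rw [dotProduct_smul, smul_eq_mul, inv_mul_cancel₀ hy₁]
  have hx : ∀ x, (w ⬝ᵥ x) * Cfsg.hermForm n K q u y₀ + Cfsg.hermForm n K q x u = 0 := by
    intro x
    have h1 := hstar x y₀
    rw [hy₀, one_pow, one_mul, huu, mul_zero, add_zero] at h1
    exact h1
  have hc0 : Cfsg.hermForm n K q u y₀ ≠ 0 := by
    intro hc
    apply hu0
    apply hh.nondeg
    intro v
    have h1 := hx v
    rw [hc, mul_zero, zero_add] at h1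
    rw [hh.conj v u, h1, zero_pow (by omega)]
  have hcq : Cfsg.hermForm n K q u y₀ ^ q = -Cfsg.hermForm n K q u y₀ := by
    have h1 := hx y₀
    rw [hy₀, one_mul, hh.conj u y₀] at h1
    linear_combination h1
  refine ⟨-(Cfsg.hermForm n K q u y₀)⁻¹, u, neg_ne_zero.2 (inv_ne_zero hc0), ?_, hu0, huu, ?_⟩
  · rw [← hφ, map_neg, map_inv₀, hφ, hcq, inv_neg, neg_neg]
  · intro x
    rw [hMx]
    congr 1
    have h1 := hx x
    have h2 : w ⬝ᵥ x = -(Cfsg.hermForm n K q u y₀)⁻¹ * Cfsg.hermForm n K q x u := by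
      field_simp
      linear_combination h1
    rw [h2]

theorem oframe_cons {K : Type*} [Field K] [Fintype K] {q : ℕ}
    (hK : Fintype.card K = q ^ 2) {V : Type*} [AddCommGroup V] [Module K V]
    {h : V → V → K} (hh : IsHerm q h) (n : ℕ) (v : V) (hv : h v v = 1)
    (z : OFrame (fun a b : LinearMap.ker (hermL hh v) => h (a : V) (b : V)) n) :
    ∀ i j, h ((Fin.cons v (fun i => (z.1 i : V)) : Fin (n + 1) → V) i)
      ((Fin.cons v (fun i => (z.1 i : V)) : Fin (n + 1) → V) j) = if i = j then 1 else 0 := by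
  have hq : 2 ≤ q := two_le_of_card_sq hK
  have hz : ∀ i j, h (z.1 i : V) (z.1 j : V) = if i = j then 1 else 0 := z.2
  have hzv : ∀ i, h (z.1 i : V) v = 0 := fun i => LinearMap.mem_ker.1 (z.1 i).2
  intro i j
  induction i using Fin.cases with
  | zero =>
    induction j using Fin.cases with
    | zero =>
      rw [Fin.cons_zero, if_pos rfl]
      exact hv
    | succ j =>
      rw [Fin.cons_zero, Fin.cons_succ, if_neg (Fin.succ_ne_zero j).symm, hh.conj, hzv,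
        zero_pow (by omega)]
  | succ i =>
    induction j using Fin.cases with
    | zero =>
      rw [Fin.cons_zero, Fin.cons_succ, if_neg (Fin.succ_ne_zero i)]
      exact hzv i
    | succ j =>
      rw [Fin.cons_succ, Fin.cons_succ, hz]
      simp only [Fin.succ_inj]

/-- An orthonormal pair extends to an orthonormal frame. -/
theorem herm_exists_frame_pair {K : Type*} [Field K] [Fintype K] {q : ℕ}
    (hK : Fintype.card K = q ^ 2) {n : ℕ} {V : Type*} [AddCommGroup V] [Module K V]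
    [FiniteDimensional K V] {h : V → V → K} (hh : IsHerm q h)
    (hV : Module.finrank K V = n + 2) (e₁ e₂ : V) (h11 : h e₁ e₁ = 1) (h22 : h e₂ e₂ = 1)
    (h21 : h e₂ e₁ = 0) :
    ∃ e : OFrame h (n + 2), e.1 0 = e₁ ∧ e.1 1 = e₂ := by
  have hfin1 := herm_perp_finrank hh e₁ h11
  have hh₁ := herm_perp_isHerm hK hh e₁ h11
  obtain ⟨e₂', he₂'⟩ : ∃ e₂' : LinearMap.ker (hermL hh e₁), (e₂' : V) = e₂ :=
    ⟨⟨e₂, LinearMap.mem_ker.2 h21⟩, rfl⟩
  have h22' : (fun a b : LinearMap.ker (hermL hh e₁) => h (a : V) (b : V)) e₂' e₂' = 1 := by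
    show h (e₂' : V) (e₂' : V) = 1
    rw [he₂']
    exact h22
  have hfin2 := herm_perp_finrank hh₁ e₂' h22'
  obtain ⟨z⟩ := herm_exists_frame hK n _ (herm_perp_isHerm hK hh₁ e₂' h22') (by omega)
  obtain ⟨z₁, hz₁⟩ : ∃ z₁ : OFrame (fun a b : LinearMap.ker (hermL hh e₁) => h (a : V) (b : V))
      (n + 1), z₁.1 0 = e₂' := ⟨⟨_, oframe_cons hK hh₁ n e₂' h22' z⟩, rfl⟩
  refine ⟨⟨_, oframe_cons hK hh (n + 1) e₁ h11 z₁⟩, rfl, ?_⟩
  show (Fin.cons e₁ (fun i => (z₁.1 i : V)) : Fin (n + 1 + 1) → V) 1 = e₂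
  rw [← Fin.succ_zero_eq_one, Fin.cons_succ, hz₁, he₂']

/-- `SU_n(q)`, `n ≥ 3`, is transitive on nonzero isotropic vectors. -/
theorem su_isotropic_transitive {K : Type*} [Field K] [Fintype K] {q : ℕ}
    (hK : Fintype.card K = q ^ 2) (n : ℕ) (μ : K) (hμ : μ ^ (q + 1) = -1)
    (u : Fin (n + 1 + 2) → K) (hu0 : u ≠ 0) (huu : Cfsg.hermForm (n + 1 + 2) K q u u = 0) :
    ∃ s : Matrix.SpecialLinearGroup (Fin (n + 1 + 2)) K, s ∈ Cfsg.SU (n + 1 + 2) K q ∧
      (s : Matrix (Fin (n + 1 + 2)) (Fin (n + 1 + 2)) K).mulVec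
        (Pi.single 0 1 + μ • Pi.single 1 1) = u := by
  classical
  have hh := hermForm_isHerm hK (n + 1 + 2)
  have hq := two_le_of_card_sq hK
  obtain ⟨φ, hφ⟩ := exists_frob hK
  have hμ0 : μ ≠ 0 := by
    rintro rfl
    rw [zero_pow (by omega)] at hμ
    exact one_ne_zero (neg_eq_zero.1 hμ.symm)
  have hneg : (-1 : K) ^ q = -1 := by rw [← hφ, map_neg, map_one]
  -- (i) a vector pairing to one with `u`
  obtain ⟨w', hw'⟩ : ∃ w', Cfsg.hermForm (n + 1 + 2) K q u w' ≠ 0 := by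
    by_contra hcon
    push Not at hcon
    exact hu0 (hh.nondeg u hcon)
  obtain ⟨w, hw⟩ : ∃ w, Cfsg.hermForm (n + 1 + 2) K q u w = 1 := by
    refine ⟨((Cfsg.hermForm (n + 1 + 2) K q u w')⁻¹ ^ q) • w', ?_⟩
    rw [hh.smul_right, pow_card_sq hK, inv_mul_cancel₀ hw']
  have hwu : Cfsg.hermForm (n + 1 + 2) K q w u = 1 := by
    rw [hh.conj u w, hw, one_pow]
  -- (ii) a norm one vector pairing to one with `u`
  obtain ⟨θ, hθ⟩ := exists_trace_one hK
  obtain ⟨r, hr⟩ : ∃ r : K, r = 1 - Cfsg.hermForm (n + 1 + 2) K q w w := ⟨_, rfl⟩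
  have hrq : r ^ q = r := by
    rw [hr, ← hφ, map_sub, map_one, hφ, ← hh.conj w w]
  obtain ⟨e₁, he₁⟩ : ∃ e₁ : Fin (n + 1 + 2) → K, e₁ = w + (r * θ) • u := ⟨_, rfl⟩
  have hue₁ : Cfsg.hermForm (n + 1 + 2) K q u e₁ = 1 := by
    rw [he₁, hh.add_right hK, hh.smul_right, huu, mul_zero, add_zero, hw]
  have he₁u : Cfsg.hermForm (n + 1 + 2) K q e₁ u = 1 := by
    rw [hh.conj u e₁, hue₁, one_pow]
  have he₁e₁ : Cfsg.hermForm (n + 1 + 2) K q e₁ e₁ = 1 := by
    have h1 : Cfsg.hermForm (n + 1 + 2) K q e₁ e₁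
        = Cfsg.hermForm (n + 1 + 2) K q w e₁ + (r * θ) * Cfsg.hermForm (n + 1 + 2) K q u e₁ := by
      have h0 : Cfsg.hermForm (n + 1 + 2) K q (w + (r * θ) • u) e₁
          = Cfsg.hermForm (n + 1 + 2) K q w e₁
            + (r * θ) * Cfsg.hermForm (n + 1 + 2) K q u e₁ := by
        rw [hh.add_left, hh.smul_left]
      rw [← he₁] at h0
      exact h0
    have h2 : Cfsg.hermForm (n + 1 + 2) K q w e₁
        = Cfsg.hermForm (n + 1 + 2) K q w w + (r * θ) ^ q := by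
      rw [he₁, hh.add_right hK, hh.smul_right, hwu, mul_one]
    rw [h1, h2, hue₁, mul_pow, hrq]
    linear_combination r * hθ + hr
  -- (iii) the second frame vector
  obtain ⟨e₂, he₂⟩ : ∃ e₂ : Fin (n + 1 + 2) → K, e₂ = μ⁻¹ • (u + (-1 : K) • e₁) := ⟨_, rfl⟩
  have he₂e₁ : Cfsg.hermForm (n + 1 + 2) K q e₂ e₁ = 0 := by
    rw [he₂, hh.smul_left, hh.add_left, hh.smul_left, hue₁, he₁e₁]
    ring
  have he₂e₂ : Cfsg.hermForm (n + 1 + 2) K q e₂ e₂ = 1 := by
    have h1 : Cfsg.hermForm (n + 1 + 2) K q (u + (-1 : K) • e₁) (u + (-1 : K) • e₁) = -1 := by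
      rw [hh.add_left, hh.add_right hK, hh.add_right hK, hh.smul_left, hh.smul_right,
        hh.smul_left, hh.smul_right, huu, hue₁, he₁u, he₁e₁, hneg]
      ring
    rw [he₂, hh.smul_left, hh.smul_right, h1, inv_pow]
    have h2 : μ * μ ^ q = -1 := by rw [← pow_succ']; exact hμ
    field_simp
    linear_combination -h2
  have hu_eq : e₁ + μ • e₂ = u := by
    rw [he₂, smul_smul, mul_inv_cancel₀ hμ0, one_smul]
    rw [neg_one_smul]
    abel
  -- (iv) the frame and the unitary matrix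
  have hV : Module.finrank K (Fin (n + 1 + 2) → K) = n + 1 + 2 := Module.finrank_fin_fun K
  obtain ⟨e, he0, he1⟩ := herm_exists_frame_pair hK hh hV e₁ e₂ he₁e₁ he₂e₂ he₂e₁
  obtain ⟨Φ, hΦ⟩ := gu_frame_equiv hK (n + 1 + 2)
  obtain ⟨g, hg⟩ : ∃ g : ↥(Cfsg.GU (n + 1 + 2) K q), Φ g = e := ⟨Φ.symm e, Φ.apply_symm_apply e⟩
  obtain ⟨G, hG⟩ : ∃ G : Matrix (Fin (n + 1 + 2)) (Fin (n + 1 + 2)) K,
      G = ((g : GL (Fin (n + 1 + 2)) K) : Matrix (Fin (n + 1 + 2)) (Fin (n + 1 + 2)) K) :=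
    ⟨_, rfl⟩
  have hGu : ∀ x y, Cfsg.hermForm (n + 1 + 2) K q (G.mulVec x) (G.mulVec y)
      = Cfsg.hermForm (n + 1 + 2) K q x y := by
    rw [hG]
    exact (mem_GU_iff (n + 1 + 2) q g.1).1 g.2
  have hcol : ∀ i, G.mulVec (Pi.single i 1) = e.1 i := by
    intro i
    rw [Matrix.mulVec_single_one, ← hg, hΦ, hG]
    rfl
  have hGv : G.mulVec (Pi.single 0 1 + μ • Pi.single 1 1) = u := by
    rw [Matrix.mulVec_add, Matrix.mulVec_smul, hcol, hcol, he0, he1, hu_eq]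
  have hdetpow : G.det ^ (q + 1) = 1 := by
    rw [hG]
    exact gu_det_pow hK _ g.1 g.2
  have hdet0 : G.det ≠ 0 := by
    intro h0
    rw [h0, zero_pow (by omega)] at hdetpow
    exact zero_ne_one hdetpow
  -- (vi) correct the determinant
  obtain ⟨d, hd⟩ : ∃ d : Fin (n + 1 + 2) → K,
      d = Function.update (fun _ => (1 : K)) (Fin.last (n + 1 + 1)) (G.det)⁻¹ := ⟨_, rfl⟩
  have hdk : ∀ k, d k ^ (q + 1) = 1 := by
    intro k
    rw [hd]
    by_cases hk : k = Fin.last (n + 1 + 1)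
    · rw [hk, Function.update_self, inv_pow, hdetpow, inv_one]
    · rw [Function.update_of_ne hk, one_pow]
  have hdprod : ∏ k, d k = (G.det)⁻¹ := by
    rw [hd, Finset.prod_update_of_mem (Finset.mem_univ _)]
    simp
  have hl0 : (Fin.last (n + 1 + 1) : Fin (n + 1 + 2)) ≠ 0 := by
    intro h0
    have := congrArg Fin.val h0
    simp at this
  have hl1 : (Fin.last (n + 1 + 1) : Fin (n + 1 + 2)) ≠ 1 := by
    intro h0
    have := congrArg Fin.val h0
    simp at this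
  have hDv : (Matrix.diagonal d).mulVec (Pi.single 0 1 + μ • Pi.single 1 1)
      = (Pi.single 0 1 + μ • Pi.single 1 1 : Fin (n + 1 + 2) → K) := by
    funext k
    rw [Matrix.mulVec_diagonal, hd]
    by_cases hk : k = Fin.last (n + 1 + 1)
    · rw [hk, Pi.add_apply, Pi.smul_apply, Pi.single_eq_of_ne hl0, Pi.single_eq_of_ne hl1,
        smul_zero, add_zero, mul_zero]
    · rw [Function.update_of_ne hk, one_mul]
  have hDu : ∀ x y, Cfsg.hermForm (n + 1 + 2) K q ((Matrix.diagonal d).mulVec x)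
      ((Matrix.diagonal d).mulVec y) = Cfsg.hermForm (n + 1 + 2) K q x y := by
    intro x y
    unfold Cfsg.hermForm
    apply Finset.sum_congr rfl
    intro k _
    rw [Matrix.mulVec_diagonal, Matrix.mulVec_diagonal, mul_pow]
    have h3 := hdk k
    rw [pow_succ'] at h3
    linear_combination (x k * y k ^ q) * h3
  have hdetS : (G * Matrix.diagonal d).det = 1 := by
    rw [Matrix.det_mul, Matrix.det_diagonal, hdprod, mul_inv_cancel₀ hdet0]
  obtain ⟨s, hs⟩ : ∃ s : Matrix.SpecialLinearGroup (Fin (n + 1 + 2)) K,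
      (s : Matrix (Fin (n + 1 + 2)) (Fin (n + 1 + 2)) K) = G * Matrix.diagonal d :=
    ⟨⟨_, hdetS⟩, rfl⟩
  refine ⟨s, ?_, ?_⟩
  · refine (mem_SU_iff _ q s).2 ?_
    intro x y
    rw [hs, ← Matrix.mulVec_mulVec, ← Matrix.mulVec_mulVec, hGu, hDu]
  · rw [hs, ← Matrix.mulVec_mulVec, hDv, hGv]

/-- In `SU_n(q)`, `n ≥ 3`, any two transvections are conjugate. -/
theorem su_transvections_conj {K : Type*} [Field K] [Fintype K] {q n : ℕ}
    (hK : Fintype.card K = q ^ 2) (hn : 3 ≤ n) (s t : ↥(Cfsg.SU n K q))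
    (hs : Cfsg.IsTransvection (((s : GL (Fin n) K) : Matrix (Fin n) (Fin n) K)))
    (ht : Cfsg.IsTransvection (((t : GL (Fin n) K) : Matrix (Fin n) (Fin n) K))) :
    IsConj s t := by
  classical
  obtain ⟨m, rfl⟩ : ∃ m, n = m + 1 + 2 := ⟨n - 3, by omega⟩
  have hh := hermForm_isHerm hK (m + 1 + 2)
  obtain ⟨a, u, ha0, ha, hu0, huu, hsx⟩ := herm_transvection_form hK _
    ((s : Matrix.SpecialLinearGroup (Fin (m + 1 + 2)) K) :
      Matrix (Fin (m + 1 + 2)) (Fin (m + 1 + 2)) K) hs.1 hs.2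
    ((mem_SU_iff _ q s.1).1 s.2)
  obtain ⟨a', u', ha'0, ha', hu'0, hu'u', htx⟩ := herm_transvection_form hK _
    ((t : Matrix.SpecialLinearGroup (Fin (m + 1 + 2)) K) :
      Matrix (Fin (m + 1 + 2)) (Fin (m + 1 + 2)) K) ht.1 ht.2
    ((mem_SU_iff _ q t.1).1 t.2)
  have hfix : (a' / a) ^ q = a' / a := by rw [div_pow, ha, ha', neg_div_neg_eq]
  obtain ⟨l, hl0, hl⟩ := norm_exists hK (a' / a) (div_ne_zero ha'0 ha0) hfix
  obtain ⟨μ, hμ0, hμ⟩ := exists_norm_neg_one hK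
  obtain ⟨g₁, hg₁, hg₁v⟩ := su_isotropic_transitive hK m μ hμ u hu0 huu
  obtain ⟨g₂, hg₂, hg₂v⟩ := su_isotropic_transitive hK m μ hμ (l • u') (smul_ne_zero hl0 hu'0)
    (by rw [hh.smul_left, hh.smul_right, hu'u', mul_zero, mul_zero])
  obtain ⟨G, hG⟩ : ∃ G : Matrix.SpecialLinearGroup (Fin (m + 1 + 2)) K, G = g₂ * g₁⁻¹ :=
    ⟨_, rfl⟩
  have hGmem : G ∈ Cfsg.SU (m + 1 + 2) K q := by
    rw [hG]
    exact Subgroup.mul_mem _ hg₂ (Subgroup.inv_mem _ hg₁)
  have hGu := (mem_SU_iff _ q G).1 hGmem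
  have hGuv : (G : Matrix (Fin (m + 1 + 2)) (Fin (m + 1 + 2)) K).mulVec u = l • u' := by
    have h1 : ((g₁⁻¹ : Matrix.SpecialLinearGroup (Fin (m + 1 + 2)) K) :
        Matrix (Fin (m + 1 + 2)) (Fin (m + 1 + 2)) K).mulVec u
        = (Pi.single 0 1 + μ • Pi.single 1 1 : Fin (m + 1 + 2) → K) := by
      rw [← hg₁v, Matrix.mulVec_mulVec, ← Matrix.SpecialLinearGroup.coe_mul, inv_mul_cancel,
        Matrix.SpecialLinearGroup.coe_one, Matrix.one_mulVec]
    rw [hG, Matrix.SpecialLinearGroup.coe_mul, ← Matrix.mulVec_mulVec, h1, hg₂v]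
  have hGinv : ∀ x, (G : Matrix (Fin (m + 1 + 2)) (Fin (m + 1 + 2)) K).mulVec
      (((G⁻¹ : Matrix.SpecialLinearGroup (Fin (m + 1 + 2)) K) :
        Matrix (Fin (m + 1 + 2)) (Fin (m + 1 + 2)) K).mulVec x) = x := by
    intro x
    rw [Matrix.mulVec_mulVec, ← Matrix.SpecialLinearGroup.coe_mul, mul_inv_cancel,
      Matrix.SpecialLinearGroup.coe_one, Matrix.one_mulVec]
  rw [isConj_iff]
  refine ⟨⟨G, hGmem⟩, ?_⟩
  apply Subtype.ext
  apply Subtype.ext
  show ((G * (s : Matrix.SpecialLinearGroup (Fin (m + 1 + 2)) K) * G⁻¹ :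
      Matrix.SpecialLinearGroup (Fin (m + 1 + 2)) K) :
      Matrix (Fin (m + 1 + 2)) (Fin (m + 1 + 2)) K)
    = ((t : Matrix.SpecialLinearGroup (Fin (m + 1 + 2)) K) :
      Matrix (Fin (m + 1 + 2)) (Fin (m + 1 + 2)) K)
  rw [Matrix.SpecialLinearGroup.coe_mul, Matrix.SpecialLinearGroup.coe_mul]
  ext i j
  have key : ∀ x, ((G : Matrix (Fin (m + 1 + 2)) (Fin (m + 1 + 2)) K)
      * ((s : Matrix.SpecialLinearGroup (Fin (m + 1 + 2)) K) :
        Matrix (Fin (m + 1 + 2)) (Fin (m + 1 + 2)) K)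
      * ((G⁻¹ : Matrix.SpecialLinearGroup (Fin (m + 1 + 2)) K) :
        Matrix (Fin (m + 1 + 2)) (Fin (m + 1 + 2)) K)).mulVec x
      = ((t : Matrix.SpecialLinearGroup (Fin (m + 1 + 2)) K) :
        Matrix (Fin (m + 1 + 2)) (Fin (m + 1 + 2)) K).mulVec x := by
    intro x
    rw [← Matrix.mulVec_mulVec, ← Matrix.mulVec_mulVec, hsx, htx, Matrix.mulVec_add,
      Matrix.mulVec_smul, hGinv, hGuv]
    have h1 : Cfsg.hermForm (m + 1 + 2) K q
        (((G⁻¹ : Matrix.SpecialLinearGroup (Fin (m + 1 + 2)) K) :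
          Matrix (Fin (m + 1 + 2)) (Fin (m + 1 + 2)) K).mulVec x) u
        = l ^ q * Cfsg.hermForm (m + 1 + 2) K q x u' := by
      rw [← hGu, hGinv, hGuv, hh.smul_right]
    rw [h1, smul_smul]
    congr 2
    have h2 : a * l ^ (q + 1) = a' := by rw [hl, mul_div_cancel₀ _ ha0]
    rw [pow_succ] at h2
    linear_combination (Cfsg.hermForm (m + 1 + 2) K q x u') * h2
  have h3 := congrFun (key (Pi.single j 1)) i
  rw [Matrix.mulVec_single_one, Matrix.mulVec_single_one] at h3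
  exact h3

end Cfsg.Agent.Helper15
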