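import Mathlib
import Cfsg.Agent.Helper15.SubCount
import Cfsg.Agent.Helper15.SUTransv

set_option autoImplicit false

namespace Cfsg.Agent.Helper15

theorem herm_span_isotropic {K : Type*} [Field K] [Fintype K] {q : ℕ}
    (hK : Fintype.card K = q ^ 2)
    {V : Type*} [AddCommGroup V] [Module K V] {h : V → V → K} (hh : IsHerm q h) {ι : Type*}
    (s : ι → V) (hs : ∀ i j, h (s i) (s j) = 0) :
    ∀ x ∈ Submodule.span K (Set.range s), ∀ y ∈ Submodule.span K (Set.range s), h x y = 0 := by
  have hq := two_le_of_card_sq hK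
  have h1 : ∀ j, Submodule.span K (Set.range s) ≤ LinearMap.ker (hermL hh (s j)) := by
    intro j
    rw [Submodule.span_le]
    rintro _ ⟨i, rfl⟩
    exact hs i j
  intro x hx y hy
  have h2 : Submodule.span K (Set.range s) ≤ LinearMap.ker (hermL hh x) := by
    rw [Submodule.span_le]
    rintro _ ⟨j, rfl⟩
    show h (s j) x = 0
    have h3 : h x (s j) = 0 := h1 j hx
    rw [hh.conj x (s j), h3, zero_pow (by omega)]
  have h3 : h y x = 0 := h2 hy
  rw [hh.conj y x, h3, zero_pow (by omega)]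

theorem card_ne_and {α : Type*} [Finite α] (a₀ : α) (p : α → Prop) (h0 : p a₀) :
    Nat.card {a : α // a ≠ a₀ ∧ p a} + 1 = Nat.card {a : α // p a} := by
  classical
  have e : {a : α // p a} ≃ Option {a : α // a ≠ a₀ ∧ p a} :=
    { toFun := fun a => if h : a.1 = a₀ then none else some ⟨a.1, h, a.2⟩
      invFun := fun o => match o with
        | none => ⟨a₀, h0⟩
        | some b => ⟨b.1, b.2.2⟩
      left_inv := by
        intro a
        by_cases h : a.1 = a₀
        · simp only [h, dite_true]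
          exact Subtype.ext h.symm
        · simp only [h, dite_false]
      right_inv := by
        intro o
        cases o with
        | none => simp
        | some b => simp [b.2.1] }
  rw [Nat.card_congr e, Finite.card_option]

theorem card_split {α : Type*} [Finite α] (p r : α → Prop) :
    Nat.card {a : α // p a} = Nat.card {a : α // p a ∧ r a} + Nat.card {a : α // p a ∧ ¬ r a} := by
  classical
  have e : {a : α // p a} ≃ {a : α // p a ∧ r a} ⊕ {a : α // p a ∧ ¬ r a} :=
    { toFun := fun a => if h : r a.1 then Sum.inl ⟨a.1, a.2, h⟩ else Sum.inr ⟨a.1, a.2, h⟩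
      invFun := fun o => match o with
        | Sum.inl b => ⟨b.1, b.2.1⟩
        | Sum.inr b => ⟨b.1, b.2.1⟩
      left_inv := by
        intro a
        by_cases h : r a.1
        · simp only [h, dite_true]
        · simp only [h, dite_false]
      right_inv := by
        intro o
        cases o with
        | inl b => simp [b.2.2]
        | inr b => simp [b.2.2] }
  rw [Nat.card_congr e, Nat.card_sum]

theorem herm_perp_iso_card_std {F : Type*} [Field F] [Fintype F] {q : ℕ}
    (hF : Fintype.card F = q ^ 2) (m : ℕ) (μ : F) (hμ : μ ^ (q + 1) = -1) :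
    Nat.card {v : Fin (m + 2) → F //
        Cfsg.hermForm (m + 2) F q v (Pi.single 0 1 + μ • Pi.single 1 1) = 0 ∧
          Cfsg.hermForm (m + 2) F q v v = 0}
      = q ^ 2 * Nat.card {x : Fin m → F // Cfsg.hermForm m F q x x = 0} := by
  classical
  have hq := two_le_of_card_sq hF
  have hA : ∀ v : Fin (m + 2) → F,
      Cfsg.hermForm (m + 2) F q v (Pi.single 0 1 + μ • Pi.single 1 1)
        = v 0 + v (Fin.succ 0) * μ ^ q := by
    intro v
    unfold Cfsg.hermForm
    rw [Fin.sum_univ_succ, Fin.sum_univ_succ]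
    have h1 : ∀ i : Fin m, (Pi.single 0 1 + μ • Pi.single 1 1 : Fin (m + 2) → F) i.succ.succ = 0 := by
      intro i
      have h01 : (i.succ.succ : Fin (m + 2)) ≠ 0 := Fin.succ_ne_zero _
      have h02 : (i.succ.succ : Fin (m + 2)) ≠ 1 := by
        rw [← Fin.succ_zero_eq_one]
        intro h
        exact Fin.succ_ne_zero i (Fin.succ_injective _ h)
      simp [Pi.single_apply, h01, h02]
    have h2 : (Pi.single 0 1 + μ • Pi.single 1 1 : Fin (m + 2) → F) 0 = 1 := by
      simp [Pi.single_apply]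
    have h3 : (Pi.single 0 1 + μ • Pi.single 1 1 : Fin (m + 2) → F) (Fin.succ 0) = μ := by
      rw [Fin.succ_zero_eq_one]
      simp [Pi.single_apply]
    rw [h2, h3, one_pow, mul_one]
    have h4 : ∑ i : Fin m, v i.succ.succ
        * (Pi.single 0 1 + μ • Pi.single 1 1 : Fin (m + 2) → F) i.succ.succ ^ q = 0 := by
      apply Finset.sum_eq_zero
      intro i _
      rw [h1, zero_pow (by omega), mul_zero]
    rw [h4, add_zero]
  have hB : ∀ v : Fin (m + 2) → F, Cfsg.hermForm (m + 2) F q v v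
      = v 0 ^ (q + 1) + v (Fin.succ 0) ^ (q + 1)
        + Cfsg.hermForm m F q (fun i => v i.succ.succ) (fun i => v i.succ.succ) := by
    intro v
    rw [hermForm_self_eq, hermForm_self_eq, Fin.sum_univ_succ, Fin.sum_univ_succ]
    exact (add_assoc _ _ _).symm
  have hneg : ∀ c : F, (-(c * μ ^ q)) ^ (q + 1) + c ^ (q + 1) = 0 := by
    intro c
    have h1 : ((-1 : F)) ^ (q + 1) * (-1) ^ q = -1 := by
      rw [← pow_add]
      exact Odd.neg_one_pow ⟨q, by ring⟩
    have h2 : (μ ^ q) ^ (q + 1) = (-1) ^ q := by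
      rw [← pow_mul, mul_comm, pow_mul, hμ]
    rw [neg_pow, mul_pow, h2]
    linear_combination c ^ (q + 1) * h1
  rw [← hF, ← Nat.card_eq_fintype_card (α := F), ← Nat.card_prod]
  apply Nat.card_congr
  exact
    { toFun := fun v => (v.1 (Fin.succ 0), ⟨fun i => v.1 i.succ.succ, by
        have h1 := v.2.1
        have h2 := v.2.2
        rw [hA] at h1
        rw [hB] at h2
        have h3 : v.1 0 = -(v.1 (Fin.succ 0) * μ ^ q) := by linear_combination h1
        rw [h3, hneg, zero_add] at h2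
        exact h2⟩)
      invFun := fun p => ⟨Fin.cons (-(p.1 * μ ^ q)) (Fin.cons p.1 p.2.1), by
        constructor
        · rw [hA, Fin.cons_zero, Fin.cons_succ, Fin.cons_zero]
          ring
        · rw [hB, Fin.cons_zero, Fin.cons_succ, Fin.cons_zero, hneg, zero_add]
          exact p.2.2⟩
      left_inv := by
        intro v
        apply Subtype.ext
        have h1 := v.2.1
        rw [hA] at h1
        have h3 : v.1 0 = -(v.1 (Fin.succ 0) * μ ^ q) := by linear_combination h1
        show (Fin.cons (-(v.1 (Fin.succ 0) * μ ^ q)) (Fin.cons (v.1 (Fin.succ 0))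
          (fun i => v.1 i.succ.succ)) : Fin (m + 2) → F) = v.1
        funext i
        refine Fin.cases ?_ (fun j => ?_) i
        · rw [Fin.cons_zero, h3]
        · rw [Fin.cons_succ]
          refine Fin.cases ?_ (fun l => ?_) j
          · rw [Fin.cons_zero]
          · rw [Fin.cons_succ]
      right_inv := by
        intro p
        apply Prod.ext
        · show (Fin.cons (-(p.1 * μ ^ q)) (Fin.cons p.1 p.2.1) : Fin (m + 2) → F) (Fin.succ 0) = p.1
          rw [Fin.cons_succ, Fin.cons_zero]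
        · apply Subtype.ext
          funext i
          show (Fin.cons (-(p.1 * μ ^ q)) (Fin.cons p.1 p.2.1) : Fin (m + 2) → F) i.succ.succ
            = p.2.1 i
          rw [Fin.cons_succ, Fin.cons_succ] }


theorem herm_perp_iso_card {F : Type*} [Field F] [Fintype F] {q : ℕ}
    (hF : Fintype.card F = q ^ 2) (k : ℕ) (u : Fin (k + 1 + 2) → F) (hu0 : u ≠ 0)
    (huu : Cfsg.hermForm (k + 1 + 2) F q u u = 0) :
    Nat.card {v : Fin (k + 1 + 2) → F // v ∉ Submodule.span F {u} ∧
        Cfsg.hermForm (k + 1 + 2) F q v u = 0 ∧ Cfsg.hermForm (k + 1 + 2) F q v v = 0} + q ^ 2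
      = q ^ 2 * Nat.card {x : Fin (k + 1) → F // Cfsg.hermForm (k + 1) F q x x = 0} := by
  classical
  have hq := two_le_of_card_sq hF
  have hh := hermForm_isHerm hF (k + 1 + 2)
  obtain ⟨μ, hμ0, hμ⟩ := exists_norm_neg_one hF
  obtain ⟨s, hs, hsu⟩ := su_isotropic_transitive hF k μ hμ u hu0 huu
  have hs' : s⁻¹ ∈ Cfsg.SU (k + 1 + 2) F q := Subgroup.inv_mem _ hs
  have hS := (mem_SU_iff (k + 1 + 2) q s).1 hs
  have hS' := (mem_SU_iff (k + 1 + 2) q s⁻¹).1 hs'
  have hmul1 : ((s⁻¹ : Matrix.SpecialLinearGroup (Fin (k + 1 + 2)) F) :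
      Matrix (Fin (k + 1 + 2)) (Fin (k + 1 + 2)) F) * (s : Matrix (Fin (k + 1 + 2)) (Fin (k + 1 + 2)) F)
        = 1 := by
    rw [← Matrix.SpecialLinearGroup.coe_mul, inv_mul_cancel, Matrix.SpecialLinearGroup.coe_one]
  have hmul2 : (s : Matrix (Fin (k + 1 + 2)) (Fin (k + 1 + 2)) F)
      * ((s⁻¹ : Matrix.SpecialLinearGroup (Fin (k + 1 + 2)) F) :
        Matrix (Fin (k + 1 + 2)) (Fin (k + 1 + 2)) F) = 1 := by
    rw [← Matrix.SpecialLinearGroup.coe_mul, mul_inv_cancel, Matrix.SpecialLinearGroup.coe_one]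
  have hsu' : ((s⁻¹ : Matrix.SpecialLinearGroup (Fin (k + 1 + 2)) F) :
      Matrix (Fin (k + 1 + 2)) (Fin (k + 1 + 2)) F).mulVec u
        = Pi.single 0 1 + μ • Pi.single 1 1 := by
    rw [← hsu, Matrix.mulVec_mulVec, hmul1, Matrix.one_mulVec]
  have hA : Nat.card {v : Fin (k + 1 + 2) → F // Cfsg.hermForm (k + 1 + 2) F q v u = 0 ∧
        Cfsg.hermForm (k + 1 + 2) F q v v = 0}
      = q ^ 2 * Nat.card {x : Fin (k + 1) → F // Cfsg.hermForm (k + 1) F q x x = 0} := by
    rw [← herm_perp_iso_card_std hF (k + 1) μ hμ]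
    apply Nat.card_congr
    exact
      { toFun := fun v => ⟨((s⁻¹ : Matrix.SpecialLinearGroup (Fin (k + 1 + 2)) F) :
            Matrix (Fin (k + 1 + 2)) (Fin (k + 1 + 2)) F).mulVec v.1, by
          constructor
          · rw [← hsu', hS']
            exact v.2.1
          · rw [hS']
            exact v.2.2⟩
        invFun := fun v => ⟨(s : Matrix (Fin (k + 1 + 2)) (Fin (k + 1 + 2)) F).mulVec v.1, by
          constructor
          · rw [← hsu, hS]
            exact v.2.1
          · rw [hS]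
            exact v.2.2⟩
        left_inv := by
          intro v
          apply Subtype.ext
          show (s : Matrix (Fin (k + 1 + 2)) (Fin (k + 1 + 2)) F).mulVec
            (((s⁻¹ : Matrix.SpecialLinearGroup (Fin (k + 1 + 2)) F) :
              Matrix (Fin (k + 1 + 2)) (Fin (k + 1 + 2)) F).mulVec v.1) = v.1
          rw [Matrix.mulVec_mulVec, hmul2, Matrix.one_mulVec]
        right_inv := by
          intro v
          apply Subtype.ext
          show ((s⁻¹ : Matrix.SpecialLinearGroup (Fin (k + 1 + 2)) F) :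
              Matrix (Fin (k + 1 + 2)) (Fin (k + 1 + 2)) F).mulVec
            ((s : Matrix (Fin (k + 1 + 2)) (Fin (k + 1 + 2)) F).mulVec v.1) = v.1
          rw [Matrix.mulVec_mulVec, hmul1, Matrix.one_mulVec] }
  have hspan : ∀ v : Fin (k + 1 + 2) → F, v ∈ Submodule.span F {u} →
      Cfsg.hermForm (k + 1 + 2) F q v u = 0 ∧ Cfsg.hermForm (k + 1 + 2) F q v v = 0 := by
    intro v hv
    obtain ⟨a, rfl⟩ := Submodule.mem_span_singleton.1 hv
    constructor
    · rw [hh.smul_left, huu, mul_zero]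
    · rw [hh.smul_left, hh.smul_right, huu, mul_zero, mul_zero]
  have h1 := card_split (fun v : Fin (k + 1 + 2) → F => Cfsg.hermForm (k + 1 + 2) F q v u = 0 ∧
        Cfsg.hermForm (k + 1 + 2) F q v v = 0) (fun v => v ∈ Submodule.span F {u})
  have h2 : Nat.card {v : Fin (k + 1 + 2) → F // (Cfsg.hermForm (k + 1 + 2) F q v u = 0 ∧
        Cfsg.hermForm (k + 1 + 2) F q v v = 0) ∧ v ∈ Submodule.span F {u}} = q ^ 2 := by
    rw [← hF, ← Nat.card_eq_fintype_card (α := F),
      Nat.card_congr (LinearEquiv.toSpanNonzeroSingleton F (Fin (k + 1 + 2) → F) u hu0).toEquiv]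
    apply Nat.card_congr
    exact Equiv.subtypeEquivRight (fun v => ⟨fun h => h.2, fun h => ⟨hspan v h, h⟩⟩)
  have h3 : Nat.card {v : Fin (k + 1 + 2) → F // (Cfsg.hermForm (k + 1 + 2) F q v u = 0 ∧
        Cfsg.hermForm (k + 1 + 2) F q v v = 0) ∧ v ∉ Submodule.span F {u}}
      = Nat.card {v : Fin (k + 1 + 2) → F // v ∉ Submodule.span F {u} ∧
        Cfsg.hermForm (k + 1 + 2) F q v u = 0 ∧ Cfsg.hermForm (k + 1 + 2) F q v v = 0} := by
    apply Nat.card_congr
    exact Equiv.subtypeEquivRight (fun v => ⟨fun h => ⟨h.2, h.1⟩, fun h => ⟨h.2, h.1⟩⟩)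
  rw [← hA, h1, h2, h3, add_comm]

/-- The number of totally isotropic `2`-subspaces of the Hermitian space of dimension `k + 3`. -/
theorem herm_ti_lines_card {F : Type*} [Field F] [Fintype F] {q : ℕ}
    (hF : Fintype.card F = q ^ 2) (k : ℕ) :
    Nat.card {W : Submodule F (Fin (k + 1 + 2) → F) // Module.finrank F W = 2 ∧
        ∀ u ∈ W, ∀ v ∈ W, Cfsg.hermForm (k + 1 + 2) F q u v = 0}
        * (((q ^ 2) ^ 2 - 1) * ((q ^ 2) ^ 2 - q ^ 2))
      = (Nat.card {v : Fin (k + 1 + 2) → F // Cfsg.hermForm (k + 1 + 2) F q v v = 0} - 1)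
        * (q ^ 2 * Nat.card {x : Fin (k + 1) → F // Cfsg.hermForm (k + 1) F q x x = 0}
          - q ^ 2) := by
  classical
  have hq := two_le_of_card_sq hF
  have hh := hermForm_isHerm hF (k + 1 + 2)
  rw [← hF, ← card_indep_pairs (F := F) (V := Fin (k + 1 + 2) → F)
    (fun W => ∀ u ∈ W, ∀ v ∈ W, Cfsg.hermForm (k + 1 + 2) F q u v = 0), hF]
  haveI : Fintype {u : Fin (k + 1 + 2) → F // u ≠ 0 ∧ Cfsg.hermForm (k + 1 + 2) F q u u = 0} :=
    Fintype.ofFinite _
  have e : {s : Fin 2 → (Fin (k + 1 + 2) → F) // LinearIndependent F s ∧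
        ∀ u ∈ Submodule.span F (Set.range s), ∀ v ∈ Submodule.span F (Set.range s),
          Cfsg.hermForm (k + 1 + 2) F q u v = 0}
      ≃ Σ u : {u : Fin (k + 1 + 2) → F // u ≠ 0 ∧ Cfsg.hermForm (k + 1 + 2) F q u u = 0},
        {v : Fin (k + 1 + 2) → F // v ∉ Submodule.span F {u.1} ∧
          Cfsg.hermForm (k + 1 + 2) F q v u.1 = 0 ∧ Cfsg.hermForm (k + 1 + 2) F q v v = 0} :=
    { toFun := fun s =>
        ⟨⟨s.1 1, (linearIndependent_fin2.1 s.2.1).1,
          s.2.2 _ (Submodule.subset_span ⟨1, rfl⟩) _ (Submodule.subset_span ⟨1, rfl⟩)⟩,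
         ⟨s.1 0, fun hmem => by
            obtain ⟨a, ha⟩ := Submodule.mem_span_singleton.1 hmem
            exact (linearIndependent_fin2.1 s.2.1).2 a ha,
          s.2.2 _ (Submodule.subset_span ⟨0, rfl⟩) _ (Submodule.subset_span ⟨1, rfl⟩),
          s.2.2 _ (Submodule.subset_span ⟨0, rfl⟩) _ (Submodule.subset_span ⟨0, rfl⟩)⟩⟩
      invFun := fun p => ⟨![p.2.1, p.1.1], linearIndependent_fin2.2 ⟨p.1.2.1, fun a ha =>
          p.2.2.1 (Submodule.mem_span_singleton.2 ⟨a, ha⟩)⟩, by
          apply herm_span_isotropic hF hh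
          intro i j
          have h10 : Cfsg.hermForm (k + 1 + 2) F q p.1.1 p.2.1 = 0 := by
            rw [hh.conj p.2.1 p.1.1, p.2.2.2.1, zero_pow (by omega)]
          fin_cases i <;> fin_cases j
          · exact p.2.2.2.2
          · exact p.2.2.2.1
          · exact h10
          · exact p.1.2.2⟩
      left_inv := by
        intro s
        apply Subtype.ext
        funext i
        fin_cases i <;> rfl
      right_inv := by
        rintro ⟨⟨u, hu⟩, ⟨v, hv⟩⟩
        rfl }
  rw [Nat.card_congr e, Nat.card_sigma]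
  have hB : ∀ u : {u : Fin (k + 1 + 2) → F // u ≠ 0 ∧ Cfsg.hermForm (k + 1 + 2) F q u u = 0},
      Nat.card {v : Fin (k + 1 + 2) → F // v ∉ Submodule.span F {u.1} ∧
          Cfsg.hermForm (k + 1 + 2) F q v u.1 = 0 ∧ Cfsg.hermForm (k + 1 + 2) F q v v = 0}
        = q ^ 2 * Nat.card {x : Fin (k + 1) → F // Cfsg.hermForm (k + 1) F q x x = 0} - q ^ 2 := by
    intro u
    have h1 := herm_perp_iso_card hF k u.1 u.2.1 u.2.2
    omega
  simp_rw [hB]
  rw [Finset.sum_const, Finset.card_univ, smul_eq_mul, ← Nat.card_eq_fintype_card]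
  have hU := card_ne_and (0 : Fin (k + 1 + 2) → F)
    (fun u => Cfsg.hermForm (k + 1 + 2) F q u u = 0) (by
      show Cfsg.hermForm (k + 1 + 2) F q 0 0 = 0
      unfold Cfsg.hermForm
      simp)
  congr 1
  omega

end Cfsg.Agent.Helper15
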