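import Mathlib
import Cfsg.Prelude.Def_ClassicalGeometry
import Cfsg.Agent.Helper15.SubCount
import Cfsg.Agent.Helper15.TILinesU
import Cfsg.Agent.Helper15.SpCard

set_option autoImplicit false

namespace Cfsg.Agent.Helper15

theorem bilin_span_isotropic {F V : Type*} [Field F] [AddCommGroup V] [Module F V]
    (B : LinearMap.BilinForm F V) {ι : Type*} (s : ι → V) (hs : ∀ i j, B (s i) (s j) = 0) :
    ∀ x ∈ Submodule.span F (Set.range s), ∀ y ∈ Submodule.span F (Set.range s), B x y = 0 := by
  have h1 : ∀ j, Submodule.span F (Set.range s) ≤ LinearMap.ker (B.flip (s j)) := by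
    intro j
    rw [Submodule.span_le]
    rintro _ ⟨i, rfl⟩
    exact hs i j
  intro x hx y hy
  have h2 : Submodule.span F (Set.range s) ≤ LinearMap.ker (B x) := by
    rw [Submodule.span_le]
    rintro _ ⟨j, rfl⟩
    exact h1 j hx
  exact h2 hy

theorem card_compl_sub {α : Type*} [Finite α] (r : α → Prop) :
    Nat.card {a : α // ¬ r a} = Nat.card α - Nat.card {a : α // r a} := by
  classical
  have h := Nat.card_congr (Equiv.sumCompl r)
  rw [Nat.card_sum] at h
  omega

/-- Counting the `2`-dimensional subspaces with a property through a fixed non-zero vector. -/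
theorem card_lines_through {F V : Type*} [Field F] [Fintype F] [AddCommGroup V] [Module F V]
    [Finite V] (v : V) (hv : v ≠ 0) (P : Submodule F V → Prop) :
    Nat.card {w : V // w ∉ Submodule.span F {v} ∧ P (Submodule.span F {v, w})}
      = Nat.card {W : Submodule F V // Module.finrank F W = 2 ∧ v ∈ W ∧ P W}
        * (Fintype.card F ^ 2 - Fintype.card F) := by
  classical
  haveI : Finite (Submodule F V) :=
    Finite.of_injective (fun W : Submodule F V => (W : Set V)) SetLike.coe_injective
  haveI : Fintype {W : Submodule F V // Module.finrank F W = 2 ∧ v ∈ W ∧ P W} :=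
    Fintype.ofFinite _
  have hli : ∀ w : V, w ∉ Submodule.span F {v} → LinearIndependent F ![w, v] := by
    intro w hw
    rw [linearIndependent_fin2]
    exact ⟨hv, fun a ha => hw (Submodule.mem_span_singleton.2 ⟨a, ha⟩)⟩
  have hrange : ∀ w : V, Submodule.span F (Set.range ![w, v]) = Submodule.span F {v, w} := by
    intro w
    rw [Matrix.range_cons_cons_empty, Set.pair_comm]
  let f : {w : V // w ∉ Submodule.span F {v} ∧ P (Submodule.span F {v, w})} →
      {W : Submodule F V // Module.finrank F W = 2 ∧ v ∈ W ∧ P W} :=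
    fun w => ⟨Submodule.span F {v, w.1}, by
      rw [← hrange, finrank_span_eq_card (hli w.1 w.2.1), Fintype.card_fin],
      Submodule.subset_span (Set.mem_insert _ _), w.2.2⟩
  have hfib : ∀ W : {W : Submodule F V // Module.finrank F W = 2 ∧ v ∈ W ∧ P W},
      Nat.card {t // f t = W} = Fintype.card F ^ 2 - Fintype.card F := by
    intro W
    obtain ⟨v', hv'⟩ : ∃ v' : W.1, (v' : V) = v := ⟨⟨v, W.2.2.1⟩, rfl⟩
    have hv'0 : v' ≠ 0 := by
      intro h
      apply hv
      rw [← hv', h]
      rfl
    have hcW : Nat.card W.1 = Fintype.card F ^ 2 := by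
      rw [Module.natCard_eq_pow_finrank (K := F), W.2.1, Nat.card_eq_fintype_card]
    have hcS : Nat.card {w : W.1 // w ∈ Submodule.span F {v'}} = Fintype.card F := by
      rw [← Nat.card_eq_fintype_card,
        Nat.card_congr (LinearEquiv.toSpanNonzeroSingleton F W.1 v' hv'0).toEquiv]
    have hspanW : ∀ w : {w : W.1 // w ∉ Submodule.span F {v'}},
        Submodule.span F {v, (w.1 : V)} = W.1 := by
      intro w
      have hli' : LinearIndependent F ![w.1, v'] :=
        linearIndependent_fin2.2 ⟨hv'0, fun a ha => w.2 (Submodule.mem_span_singleton.2 ⟨a, ha⟩)⟩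
      have h2 := span_pair_eq W.1 W.2.1 ![w.1, v'] hli'
      have h3 : (fun i => ((![w.1, v'] i : W.1) : V)) = ![(w.1 : V), v] := by
        funext i
        fin_cases i
        · rfl
        · exact hv'
      rw [h3, Matrix.range_cons_cons_empty, Set.pair_comm] at h2
      exact h2
    have h1 := card_compl_sub (fun w : W.1 => w ∈ Submodule.span F {v'})
    rw [hcW, hcS] at h1
    rw [← h1]
    apply Nat.card_congr
    exact
      { toFun := fun t => ⟨⟨t.1.1, by
            have h := congrArg Subtype.val t.2
            rw [← h]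
            exact Submodule.subset_span (Set.mem_insert_of_mem _ rfl)⟩, by
            intro hmem
            obtain ⟨a, ha⟩ := Submodule.mem_span_singleton.1 hmem
            apply t.1.2.1
            rw [Submodule.mem_span_singleton]
            refine ⟨a, ?_⟩
            have h4 : a • (v' : V) = t.1.1 := congrArg Subtype.val ha
            rw [hv'] at h4
            exact h4⟩
        invFun := fun w => ⟨⟨w.1.1, by
            intro hmem
            obtain ⟨a, ha⟩ := Submodule.mem_span_singleton.1 hmem
            apply w.2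
            rw [Submodule.mem_span_singleton]
            exact ⟨a, Subtype.ext (by rw [Submodule.coe_smul, hv']; exact ha)⟩, by
            rw [hspanW w]
            exact W.2.2.2⟩, Subtype.ext (hspanW w)⟩
        left_inv := fun t => Subtype.ext (Subtype.ext rfl)
        right_inv := fun w => Subtype.ext (Subtype.ext rfl) }
  rw [← Nat.card_congr (Equiv.sigmaFiberEquiv f), Nat.card_sigma]
  simp_rw [hfib]
  rw [Finset.sum_const, Finset.card_univ, smul_eq_mul, Nat.card_eq_fintype_card]

theorem sp_perp_card {F : Type*} [Field F] [Fintype F] {q : ℕ} (hF : Fintype.card F = q)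
    (m : ℕ) (u : Fin m ⊕ Fin m → F) (hu : u ≠ 0) :
    Nat.card {v : Fin m ⊕ Fin m → F // v ∉ Submodule.span F {u} ∧ spForm m F u v = 0} + q
      = q ^ (2 * m - 1) := by
  classical
  obtain ⟨w, hw⟩ : ∃ w, spForm m F u w = 1 := by
    obtain ⟨y, hy⟩ : ∃ y, spForm m F u y ≠ 0 := by
      by_contra hcon
      push Not at hcon
      exact hu ((spForm_nondeg m).1 u hcon)
    exact ⟨(spForm m F u y)⁻¹ • y, by rw [map_smul, smul_eq_mul, inv_mul_cancel₀ hy]⟩
  have h1 := card_functional_fiber hF (spForm m F u) w hw
  rw [spForm_finrank] at h1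
  have h2 : Nat.card {v : Fin m ⊕ Fin m → F // spForm m F u v = 0} = q ^ (2 * m - 1) := by
    rw [← h1]
    apply Nat.card_congr
    exact
      { toFun := fun v => ⟨v.1 + w, by rw [map_add, v.2, hw, zero_add]⟩
        invFun := fun x => ⟨x.1 - w, by rw [map_sub, x.2, hw, sub_self]⟩
        left_inv := fun v => Subtype.ext (add_sub_cancel_right _ _)
        right_inv := fun x => Subtype.ext (sub_add_cancel _ _) }
  have h3 := card_split (fun v : Fin m ⊕ Fin m → F => spForm m F u v = 0)
    (fun v => v ∈ Submodule.span F {u})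
  have h4 : Nat.card {v : Fin m ⊕ Fin m → F // spForm m F u v = 0 ∧ v ∈ Submodule.span F {u}}
      = q := by
    rw [← hF, ← Nat.card_eq_fintype_card (α := F),
      Nat.card_congr (LinearEquiv.toSpanNonzeroSingleton F (Fin m ⊕ Fin m → F) u hu).toEquiv]
    apply Nat.card_congr
    exact Equiv.subtypeEquivRight (fun v => ⟨fun h => h.2, fun h => ⟨by
      obtain ⟨a, rfl⟩ := Submodule.mem_span_singleton.1 h
      rw [map_smul, smul_eq_mul, spForm_alt, mul_zero], h⟩⟩)
  have h5 : Nat.card {v : Fin m ⊕ Fin m → F // spForm m F u v = 0 ∧ v ∉ Submodule.span F {u}}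
      = Nat.card {v : Fin m ⊕ Fin m → F // v ∉ Submodule.span F {u} ∧ spForm m F u v = 0} :=
    Nat.card_congr (Equiv.subtypeEquivRight (fun v => and_comm))
  omega

end Cfsg.Agent.Helper15
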