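import Mathlib
import Cfsg.Agent.Helper15.HermFrame
import Cfsg.Agent.Helper15.TILinesSp

set_option autoImplicit false

namespace Cfsg.Agent.Helper15

theorem IsHerm.zero_left {K : Type*} [Field K] {q : ℕ} {V : Type*} [AddCommGroup V]
    [Module K V] {h : V → V → K} (hh : IsHerm q h) (v : V) : h 0 v = 0 := by
  have h0 := hh.smul_left 0 0 v
  rw [zero_smul, zero_mul] at h0
  exact h0

theorem IsHerm.zero_right {K : Type*} [Field K] {q : ℕ} (hq : 1 ≤ q) {V : Type*}
    [AddCommGroup V] [Module K V] {h : V → V → K} (hh : IsHerm q h) (v : V) : h v 0 = 0 := by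
  rw [hh.conj 0 v, hh.zero_left, zero_pow (by omega)]

theorem IsHerm.right_nondeg {K : Type*} [Field K] {q : ℕ} (hq : 1 ≤ q) {V : Type*}
    [AddCommGroup V] [Module K V] {h : V → V → K} (hh : IsHerm q h) (w : V)
    (hw : ∀ v, h v w = 0) : w = 0 := by
  apply hh.nondeg
  intro v
  rw [hh.conj v w, hw, zero_pow (by omega)]

theorem IsHerm.swap_zero {K : Type*} [Field K] {q : ℕ} (hq : 1 ≤ q) {V : Type*}
    [AddCommGroup V] [Module K V] {h : V → V → K} (hh : IsHerm q h) (u v : V)
    (huv : h u v = 0) : h v u = 0 := by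
  rw [hh.conj u v, huv, zero_pow (by omega)]

/-- The map `v ↦ (h v (b a))_a`. -/
def hermPsi {K : Type*} [Field K] {q : ℕ} {V : Type*} [AddCommGroup V] [Module K V]
    {h : V → V → K} (hh : IsHerm q h) {ι : Type*} (b : ι → V) : V →ₗ[K] (ι → K) :=
  LinearMap.pi (fun a => hermL hh (b a))

theorem hermPsi_apply {K : Type*} [Field K] {q : ℕ} {V : Type*} [AddCommGroup V] [Module K V]
    {h : V → V → K} (hh : IsHerm q h) {ι : Type*} (b : ι → V) (v : V) (a : ι) :
    hermPsi hh b v a = h v (b a) := rfl

theorem mem_ker_hermPsi {K : Type*} [Field K] {q : ℕ} {V : Type*} [AddCommGroup V]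
    [Module K V] {h : V → V → K} (hh : IsHerm q h) {ι : Type*} (b : ι → V) (v : V) :
    v ∈ LinearMap.ker (hermPsi hh b) ↔ ∀ a, h v (b a) = 0 := by
  rw [LinearMap.mem_ker]
  constructor
  · intro hv a
    rw [← hermPsi_apply hh b v a, hv]
    rfl
  · intro hv
    funext a
    exact hv a

theorem hermPsi_surjective {K : Type*} [Field K] [Fintype K] {q : ℕ}
    (hK : Fintype.card K = q ^ 2) {V : Type*} [AddCommGroup V] [Module K V]
    {h : V → V → K} (hh : IsHerm q h) {i : ℕ} (b : Fin i → V) (hb : LinearIndependent K b) :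
    Function.Surjective (hermPsi hh b) := by
  classical
  have hq := two_le_of_card_sq hK
  rw [← LinearMap.range_eq_top]
  by_contra hne
  obtain ⟨f, hf0, hf⟩ := Submodule.exists_le_ker_of_lt_top _ (lt_top_iff_ne_top.2 hne)
  apply hf0
  have hw : ∀ v, h v (∑ a, (f (Pi.single a 1)) ^ q • b a) = 0 := by
    intro v
    rw [hh.sum_right hK]
    have h1 : f (hermPsi hh b v) = 0 := hf (LinearMap.mem_range_self _ v)
    have h2 : hermPsi hh b v = ∑ a, h v (b a) • (Pi.single a 1 : Fin i → K) := by
      funext c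
      rw [Finset.sum_apply, Finset.sum_eq_single c]
      · rw [Pi.smul_apply, Pi.single_eq_same, smul_eq_mul, mul_one]
        rfl
      · intro a _ hac
        rw [Pi.smul_apply, Pi.single_eq_of_ne (Ne.symm hac), smul_zero]
      · intro hc
        exact absurd (Finset.mem_univ c) hc
    rw [h2, map_sum] at h1
    rw [← h1]
    apply Finset.sum_congr rfl
    intro a _
    rw [pow_card_sq hK, map_smul, smul_eq_mul, mul_comm]
  have h3 := hh.right_nondeg (by omega) _ hw
  have h4 := (Fintype.linearIndependent_iff.1 hb) _ h3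
  apply LinearMap.ext
  intro c
  have h5 : c = ∑ a, c a • (Pi.single a 1 : Fin i → K) := by
    funext d
    rw [Finset.sum_apply, Finset.sum_eq_single d]
    · rw [Pi.smul_apply, Pi.single_eq_same, smul_eq_mul, mul_one]
    · intro a _ hac
      rw [Pi.smul_apply, Pi.single_eq_of_ne (Ne.symm hac), smul_zero]
    · intro hc
      exact absurd (Finset.mem_univ d) hc
  rw [h5, map_sum, LinearMap.zero_apply]
  apply Finset.sum_eq_zero
  intro a _
  rw [map_smul, pow_eq_zero_iff (by omega) |>.1 (h4 a), smul_zero]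

theorem herm_perp_fam_finrank {K : Type*} [Field K] [Fintype K] {q : ℕ}
    (hK : Fintype.card K = q ^ 2) {V : Type*} [AddCommGroup V] [Module K V]
    [FiniteDimensional K V] {h : V → V → K} (hh : IsHerm q h) {i : ℕ} (b : Fin i → V)
    (hb : LinearIndependent K b) :
    Module.finrank K (LinearMap.ker (hermPsi hh b)) + i = Module.finrank K V := by
  have h1 := LinearMap.finrank_range_add_finrank_ker (hermPsi hh b)
  rw [LinearMap.range_eq_top.2 (hermPsi_surjective hK hh b hb), finrank_top,
    Module.finrank_fin_fun] at h1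
  omega

/-- Elements of the span of a family are orthogonal to everything orthogonal to the family. -/
theorem herm_span_left {K : Type*} [Field K] {q : ℕ} {V : Type*} [AddCommGroup V]
    [Module K V] {h : V → V → K} (hh : IsHerm q h) {ι : Type*} (b : ι → V) (y : V)
    (hy : ∀ a, h (b a) y = 0) (x : V) (hx : x ∈ Submodule.span K (Set.range b)) :
    h x y = 0 := by
  have h1 : Submodule.span K (Set.range b) ≤ LinearMap.ker (hermL hh y) := by
    rw [Submodule.span_le]
    rintro _ ⟨a, rfl⟩
    exact hy a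
  exact h1 hx

theorem herm_isotropic_card_abs {K : Type*} [Field K] [Fintype K] {q : ℕ}
    (hK : Fintype.card K = q ^ 2) {n : ℕ} {V : Type*} [AddCommGroup V] [Module K V]
    [FiniteDimensional K V] {h : V → V → K} (hh : IsHerm q h)
    (hV : Module.finrank K V = n) :
    Nat.card {v : V // h v v = 0} = hcnt K q n 0 := by
  obtain ⟨e⟩ := herm_exists_frame hK n h hh hV
  obtain ⟨ρ, -, hρ⟩ := herm_frame_equiv hK hh hV e
  rw [← herm_card_eq_hcnt]
  apply Nat.card_congr
  exact
    { toFun := fun v => ⟨ρ.symm v.1, by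
        rw [← hρ, LinearEquiv.apply_symm_apply]
        exact v.2⟩
      invFun := fun c => ⟨ρ c.1, by
        rw [hρ]
        exact c.2⟩
      left_inv := fun v => Subtype.ext (LinearEquiv.apply_symm_apply ρ v.1)
      right_inv := fun c => Subtype.ext (LinearEquiv.symm_apply_apply ρ c.1) }

end Cfsg.Agent.Helper15
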