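import Mathlib
import Cfsg.Agent.Helper15.HermPerp
import Cfsg.Agent.Helper15.HermCount

set_option autoImplicit false

namespace Cfsg.Agent.Helper15

/-- The number of isotropic vectors outside the span of an isotropic frame and orthogonal
to it. -/
theorem herm_iso_fiber_card {K : Type*} [Field K] [Fintype K] {q : ℕ}
    (hK : Fintype.card K = q ^ 2) {V : Type*} [AddCommGroup V] [Module K V]
    [FiniteDimensional K V] {h : V → V → K} (hh : IsHerm q h) {n i : ℕ}
    (hV : Module.finrank K V = n) (b : Fin i → V) (hb : LinearIndependent K b)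
    (hiso : ∀ a c, h (b a) (b c) = 0) (hi : 2 * i ≤ n) :
    Nat.card {v : V // (∀ a, h v (b a) = 0) ∧ h v v = 0
        ∧ v ∉ Submodule.span K (Set.range b)}
      = q ^ (2 * i) * (hcnt K q (n - 2 * i) 0 - 1) := by
  classical
  have hq := two_le_of_card_sq hK
  haveI : Finite V := Module.finite_of_finite K
  obtain ⟨P, hP⟩ : ∃ P : Submodule K V, P = LinearMap.ker (hermPsi hh b) := ⟨_, rfl⟩
  obtain ⟨S, hS⟩ : ∃ S : Submodule K V, S = Submodule.span K (Set.range b) := ⟨_, rfl⟩
  have hmemP : ∀ v, v ∈ P ↔ ∀ a, h v (b a) = 0 := by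
    intro v
    rw [hP]
    exact mem_ker_hermPsi hh b v
  have hSP : S ≤ P := by
    rw [hS, Submodule.span_le]
    rintro _ ⟨a, rfl⟩
    exact (hmemP _).2 (fun c => hiso a c)
  have hPfin : Module.finrank K P + i = n := by
    rw [← hV, hP]
    exact herm_perp_fam_finrank hK hh b hb
  have hSfin : Module.finrank K S = i := by
    rw [hS, finrank_span_eq_card hb, Fintype.card_fin]
  have hSPorth : ∀ x ∈ S, ∀ y ∈ P, h x y = 0 := by
    intro x hx y hy
    rw [hS] at hx
    apply herm_span_left hh b y _ x hx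
    intro a
    exact hh.swap_zero (by omega) _ _ ((hmemP y).1 hy a)
  have hPSorth : ∀ x ∈ S, ∀ y ∈ P, h y x = 0 := fun x hx y hy =>
    hh.swap_zero (by omega) _ _ (hSPorth x hx y hy)
  have hPperp : ∀ u : V, (∀ x ∈ P, h u x = 0) → u ∈ S := by
    intro u hu
    obtain ⟨bP⟩ : Nonempty (Module.Basis (Fin (n - i)) K P) :=
      ⟨Module.finBasisOfFinrankEq K P (by omega)⟩
    obtain ⟨p, hp⟩ : ∃ p : Fin (n - i) → V, ∀ a, p a = (bP a : V) :=
      ⟨fun a => (bP a : V), fun a => rfl⟩
    have hpli : LinearIndependent K p := by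
      have h1 := bP.linearIndependent.map' P.subtype (Submodule.ker_subtype P)
      have h2 : p = P.subtype ∘ bP := funext hp
      rw [h2]
      exact h1
    have hfin := herm_perp_fam_finrank hK hh p hpli
    have hle : S ≤ LinearMap.ker (hermPsi hh p) := by
      intro x hx
      rw [mem_ker_hermPsi]
      intro a
      rw [hp]
      exact hSPorth x hx _ (bP a).2
    have heq : S = LinearMap.ker (hermPsi hh p) := by
      apply Submodule.eq_of_le_of_finrank_eq hle
      rw [hSfin]
      omega
    rw [heq, mem_ker_hermPsi]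
    intro a
    rw [hp]
    exact hu _ (bP a).2
  obtain ⟨U, hU⟩ := Submodule.exists_isCompl (Submodule.comap P.subtype S)
  have hS'fin : Module.finrank K (Submodule.comap P.subtype S) = i := by
    rw [← hSfin]
    exact LinearEquiv.finrank_eq (Submodule.comapSubtypeEquivOfLe hSP)
  have hUfin : Module.finrank K U = n - 2 * i := by
    have := Submodule.finrank_add_eq_of_isCompl hU
    omega
  have hUbot : ∀ u : U, ((u : P) : V) ∈ S → u = 0 := by
    intro u hu
    have h2 : (u : P) ∈ Submodule.comap P.subtype S ⊓ U := ⟨hu, u.2⟩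
    rw [hU.inf_eq_bot] at h2
    exact Subtype.ext ((Submodule.mem_bot K).1 h2)
  have hhU : IsHerm q (fun a c : U => h ((a : P) : V) ((c : P) : V)) := by
    refine ⟨fun u u' w => hh.add_left _ _ _, fun c u w => hh.smul_left _ _ _,
      fun u w => hh.conj _ _, ?_⟩
    intro u hu
    apply hUbot
    apply hPperp
    intro x hx
    have hx' : (⟨x, hx⟩ : P) ∈ Submodule.comap P.subtype S ⊔ U := by
      rw [hU.sup_eq_top]
      exact Submodule.mem_top
    obtain ⟨s, hs, u', hu', hsum⟩ := Submodule.mem_sup.1 hx'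
    have hxeq : x = (s : V) + (u' : V) := (congrArg Subtype.val hsum).symm
    rw [hxeq, hh.add_right hK, hPSorth (s : V) hs _ (u : P).2, zero_add]
    exact hu ⟨u', hu'⟩
  have hcntU := herm_isotropic_card_abs hK hhU hUfin
  have hsS : ∀ s : Submodule.comap P.subtype S, ((s : P) : V) ∈ S := fun s => s.2
  have hform : ∀ (s : Submodule.comap P.subtype S) (u : U),
      h (((s : P) : V) + ((u : P) : V)) (((s : P) : V) + ((u : P) : V))
        = h ((u : P) : V) ((u : P) : V) := by
    intro s u
    rw [hh.add_left, hh.add_right hK, hh.add_right hK, hSPorth _ (hsS s) _ (hSP (hsS s)),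
      hSPorth _ (hsS s) _ (u : P).2, hPSorth _ (hsS s) _ (u : P).2, zero_add, zero_add,
      zero_add]
  have hnot : ∀ (s : Submodule.comap P.subtype S) (u : U),
      (((s : P) : V) + ((u : P) : V)) ∈ S ↔ u = 0 := by
    intro s u
    constructor
    · intro hmem
      apply hUbot
      have h1 := S.sub_mem hmem (hsS s)
      rw [add_sub_cancel_left] at h1
      exact h1
    · intro hu
      rw [hu]
      simp only [ZeroMemClass.coe_zero, add_zero]
      exact hsS s
  have e1 : {v : V // (∀ a, h v (b a) = 0) ∧ h v v = 0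
        ∧ v ∉ Submodule.span K (Set.range b)}
      ≃ {x : P // h (x : V) (x : V) = 0 ∧ (x : V) ∉ S} :=
    { toFun := fun v => ⟨⟨v.1, (hmemP _).2 v.2.1⟩, v.2.2.1, by rw [hS]; exact v.2.2.2⟩
      invFun := fun x => ⟨x.1.1, (hmemP _).1 x.1.2, x.2.1, by rw [← hS]; exact x.2.2⟩
      left_inv := fun v => rfl
      right_inv := fun x => rfl }
  have e2 : {x : P // h (x : V) (x : V) = 0 ∧ (x : V) ∉ S}
      ≃ {y : (Submodule.comap P.subtype S) × U //
          h ((y.2 : P) : V) ((y.2 : P) : V) = 0 ∧ y.2 ≠ 0} :=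
    (Equiv.subtypeEquiv (Submodule.prodEquivOfIsCompl _ _ hU).toEquiv (by
      intro y
      show _ ↔ h (((y.1 : P) : V) + ((y.2 : P) : V)) (((y.1 : P) : V) + ((y.2 : P) : V)) = 0
        ∧ (((y.1 : P) : V) + ((y.2 : P) : V)) ∉ S
      rw [hform, hnot])).symm
  have e3 : {y : (Submodule.comap P.subtype S) × U //
          h ((y.2 : P) : V) ((y.2 : P) : V) = 0 ∧ y.2 ≠ 0}
      ≃ (Submodule.comap P.subtype S)
        × {w : {u : U // h ((u : P) : V) ((u : P) : V) = 0} // ¬ (w.1 = 0)} :=
    { toFun := fun y => (y.1.1, ⟨⟨y.1.2, y.2.1⟩, y.2.2⟩)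
      invFun := fun z => ⟨(z.1, z.2.1.1), z.2.1.2, z.2.2⟩
      left_inv := fun y => rfl
      right_inv := fun z => rfl }
  rw [Nat.card_congr (e1.trans (e2.trans e3)), Nat.card_prod, card_compl_sub, hcntU]
  have hc1 : Nat.card (Submodule.comap P.subtype S) = q ^ (2 * i) := by
    have h1 : Nat.card (Submodule.comap P.subtype S)
        = Nat.card K ^ Module.finrank K (Submodule.comap P.subtype S) :=
      Module.natCard_eq_pow_finrank
    rw [h1, hS'fin, Nat.card_eq_fintype_card, hK, pow_mul]
  have hc2 : Nat.card {w : {u : U // h ((u : P) : V) ((u : P) : V) = 0} // w.1 = 0} = 1 := by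
    haveI : Unique {w : {u : U // h ((u : P) : V) ((u : P) : V) = 0} // w.1 = 0} :=
      { default := ⟨⟨0, hh.zero_left _⟩, rfl⟩
        uniq := fun w => Subtype.ext (Subtype.ext w.2) }
    exact Nat.card_unique
  rw [hc1, hc2]

end Cfsg.Agent.Helper15
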