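import Mathlib
import Cfsg.Agent.Helper15.HermPerp2
import Cfsg.Agent.Helper15.GUCard
import Cfsg.Agent.S0751

set_option autoImplicit false

namespace Cfsg.Agent.Helper15

open scoped MatrixGroups

theorem herm_span_iso {K : Type*} [Field K] {q : ℕ} (hq : 1 ≤ q) {V : Type*} [AddCommGroup V]
    [Module K V] {h : V → V → K} (hh : IsHerm q h) {ι : Type*} (b : ι → V)
    (hiso : ∀ a c, h (b a) (b c) = 0) (x : V) (hx : x ∈ Submodule.span K (Set.range b))
    (y : V) (hy : y ∈ Submodule.span K (Set.range b)) : h x y = 0 := by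
  apply herm_span_left hh b y _ x hx
  intro a
  exact hh.swap_zero hq _ _ (herm_span_left hh b (b a) (fun c => hiso c a) y hy)

/-- The number of isotropic frames of length `k` in a unitary space of dimension `n`. -/
theorem herm_iso_frames_card {K : Type*} [Field K] [Fintype K] {q : ℕ}
    (hK : Fintype.card K = q ^ 2) {V : Type*} [AddCommGroup V] [Module K V]
    [FiniteDimensional K V] {h : V → V → K} (hh : IsHerm q h) {n : ℕ}
    (hV : Module.finrank K V = n) : ∀ k, 2 * k ≤ n →
    Nat.card {b : Fin k → V // LinearIndependent K b ∧ ∀ i j, h (b i) (b j) = 0}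
      = ∏ i : Fin k, q ^ (2 * (i : ℕ)) * (hcnt K q (n - 2 * (i : ℕ)) 0 - 1) := by
  classical
  have hq := two_le_of_card_sq hK
  haveI : Finite V := Module.finite_of_finite K
  intro k
  induction k with
  | zero =>
    intro _
    rw [Finset.univ_eq_empty, Finset.prod_empty]
    haveI : Unique {b : Fin 0 → V // LinearIndependent K b ∧ ∀ i j, h (b i) (b j) = 0} :=
      { default := ⟨fun i => i.elim0, linearIndependent_empty_type, fun i => i.elim0⟩
        uniq := fun b => Subtype.ext (funext fun i => i.elim0) }
    exact Nat.card_unique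
  | succ k ih =>
    intro hk
    have ih' := ih (by omega)
    haveI : Fintype {b : Fin k → V // LinearIndependent K b ∧ ∀ i j, h (b i) (b j) = 0} :=
      Fintype.ofFinite _
    let f : {b : Fin (k + 1) → V // LinearIndependent K b ∧ ∀ i j, h (b i) (b j) = 0} →
        {b : Fin k → V // LinearIndependent K b ∧ ∀ i j, h (b i) (b j) = 0} :=
      fun b => ⟨Fin.init b.1, (linearIndependent_finSucc'.1 b.2.1).1,
        fun i j => b.2.2 (Fin.castSucc i) (Fin.castSucc j)⟩
    have hfiber : ∀ b : {b : Fin k → V // LinearIndependent K b ∧ ∀ i j, h (b i) (b j) = 0},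
        Nat.card {b' : {b : Fin (k + 1) → V // LinearIndependent K b
          ∧ ∀ i j, h (b i) (b j) = 0} // f b' = b}
          = q ^ (2 * k) * (hcnt K q (n - 2 * k) 0 - 1) := by
      intro b
      let E : {b' : {b : Fin (k + 1) → V // LinearIndependent K b
          ∧ ∀ i j, h (b i) (b j) = 0} // f b' = b}
          ≃ {v : V // (∀ a, h v (b.1 a) = 0) ∧ h v v = 0
              ∧ v ∉ Submodule.span K (Set.range b.1)} :=
        { toFun := fun b' => ⟨b'.1.1 (Fin.last k), by
            have h1 : Fin.init b'.1.1 = b.1 := congrArg Subtype.val b'.2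
            refine ⟨?_, ?_, ?_⟩
            · intro i
              rw [← h1]
              exact b'.1.2.2 (Fin.last k) (Fin.castSucc i)
            · exact b'.1.2.2 (Fin.last k) (Fin.last k)
            · rw [← h1]
              exact (linearIndependent_finSucc'.1 b'.1.2.1).2⟩
          invFun := fun v => ⟨⟨Fin.snoc b.1 v.1, linearIndependent_finSnoc.2 ⟨b.2.1, v.2.2.2⟩, by
            intro i j
            induction i using Fin.lastCases with
            | last =>
              induction j using Fin.lastCases with
              | last =>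
                rw [Fin.snoc_last]
                exact v.2.2.1
              | cast j =>
                rw [Fin.snoc_last, Fin.snoc_castSucc]
                exact v.2.1 j
            | cast i =>
              induction j using Fin.lastCases with
              | last =>
                rw [Fin.snoc_last, Fin.snoc_castSucc]
                exact hh.swap_zero (by omega) _ _ (v.2.1 i)
              | cast j =>
                rw [Fin.snoc_castSucc, Fin.snoc_castSucc]
                exact b.2.2 i j⟩, Subtype.ext (by
                  show Fin.init (Fin.snoc b.1 v.1 : Fin (k + 1) → V) = b.1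
                  exact Fin.init_snoc _ _)⟩
          left_inv := by
            intro b'
            apply Subtype.ext
            apply Subtype.ext
            have h1 : Fin.init b'.1.1 = b.1 := congrArg Subtype.val b'.2
            show Fin.snoc b.1 (b'.1.1 (Fin.last k)) = b'.1.1
            rw [← h1, Fin.snoc_init_self]
          right_inv := by
            intro v
            apply Subtype.ext
            show (Fin.snoc b.1 v.1 : Fin (k + 1) → V) (Fin.last k) = v.1
            rw [Fin.snoc_last] }
      rw [Nat.card_congr E]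
      exact herm_iso_fiber_card hK hh hV b.1 b.2.1 b.2.2 (by omega)
    rw [← Nat.card_congr (Equiv.sigmaFiberEquiv f), Nat.card_sigma,
      Finset.sum_congr rfl (fun b _ => hfiber b), Finset.sum_const, Finset.card_univ,
      smul_eq_mul, ← Nat.card_eq_fintype_card, ih', Fin.prod_univ_castSucc]
    simp only [Fin.val_castSucc, Fin.val_last]

/-- Witt: the isometry group is transitive on isotropic frames. -/
theorem herm_frame_transitive {K : Type*} [Field K] [Fintype K] {q : ℕ}
    (hK : Fintype.card K = q ^ 2) {V : Type*} [AddCommGroup V] [Module K V]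
    [FiniteDimensional K V] {h : V → V → K} (hh : IsHerm q h) {k : ℕ} (b b' : Fin k → V)
    (hb : LinearIndependent K b) (hb' : LinearIndependent K b')
    (hiso : ∀ i j, h (b i) (b j) = 0) (hiso' : ∀ i j, h (b' i) (b' j) = 0) :
    ∃ g : V ≃ₗ[K] V, (∀ u v, h (g u) (g v) = h u v) ∧ ∀ i, g (b i) = b' i := by
  classical
  have hq := two_le_of_card_sq hK
  obtain ⟨σ, hσ⟩ := exists_frob hK
  have hσne : σ ≠ RingHom.id K := by
    intro hid
    obtain ⟨c, hc⟩ := exists_not_fixed hK
    apply hc
    rw [← hσ, hid]
    rfl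
  have hσ2 : ∀ a : K, σ (σ a) = a := by
    intro a
    rw [hσ, hσ, pow_card_sq hK]
  let B : V →ₛₗ[σ] V →ₗ[K] K := LinearMap.mk₂'ₛₗ σ (RingHom.id K) (fun u v => h v u)
    (fun m₁ m₂ n => hh.add_right hK n m₁ m₂)
    (fun c m n => by
      show h n (c • m) = σ c • h n m
      rw [hh.smul_right, hσ, smul_eq_mul])
    (fun m n₁ n₂ => hh.add_left n₁ n₂ m)
    (fun c m n => by
      show h (c • n) m = (RingHom.id K) c • h n m
      rw [hh.smul_left, RingHom.id_apply, smul_eq_mul])
  have hBapp : ∀ u v, B u v = h v u := fun u v => rfl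
  have hBS : B.IsSymm := by
    refine ⟨fun x y => ?_⟩
    rw [hBapp, hBapp, hσ]
    exact (hh.conj y x).symm
  have hBnd : B.Nondegenerate := by
    constructor
    · intro x hx
      exact hh.right_nondeg (by omega) x hx
    · intro y hy
      exact hh.nondeg y hy
  let φ : Submodule.span K (Set.range b) ≃ₗ[K] Submodule.span K (Set.range b') :=
    (Module.Basis.span hb).equiv (Module.Basis.span hb') (Equiv.refl _)
  have hφ : ∀ x x' : Submodule.span K (Set.range b),
      B (φ x : V) (φ x' : V) = B (x : V) (x' : V) := by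
    intro x x'
    rw [hBapp, hBapp, herm_span_iso (by omega) hh b' hiso' _ (φ x').2 _ (φ x).2,
      herm_span_iso (by omega) hh b hiso _ x'.2 _ x.2]
  obtain ⟨g, hg1, hg2⟩ := Cfsg.Agent.S0751.result σ hσne hσ2 B hBS hBnd _ _ φ hφ
  refine ⟨g, fun u v => hg1 v u, ?_⟩
  intro i
  have h3 : φ (Module.Basis.span hb i) = Module.Basis.span hb' i := by
    show (Module.Basis.span hb).equiv (Module.Basis.span hb') (Equiv.refl _)
      (Module.Basis.span hb i) = _
    rw [Module.Basis.equiv_apply, Equiv.refl_apply]
  have h2 := hg2 (Module.Basis.span hb i)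
  rw [h3] at h2
  have e1 : ((Module.Basis.span hb i : Submodule.span K (Set.range b)) : V)
      = b i := congrArg Subtype.val (Module.Basis.span_apply hb i)
  have e2 : ((Module.Basis.span hb' i : Submodule.span K (Set.range b')) : V)
      = b' i := congrArg Subtype.val (Module.Basis.span_apply hb' i)
  rw [e1, e2] at h2
  exact h2

/-- Isometries of the standard hermitian space are given by elements of `GU`. -/
theorem gu_of_isometry {K : Type*} [Field K] (n q : ℕ)
    (g : (Fin n → K) ≃ₗ[K] (Fin n → K))
    (hg : ∀ u v, Cfsg.hermForm n K q (g u) (g v) = Cfsg.hermForm n K q u v) :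
    ∃ M : GL (Fin n) K, M ∈ Cfsg.GU n K q
      ∧ ∀ v, (M : Matrix (Fin n) (Fin n) K).mulVec v = g v := by
  classical
  have h1 : LinearMap.toMatrix' (g : (Fin n → K) →ₗ[K] (Fin n → K))
      * LinearMap.toMatrix' (g.symm : (Fin n → K) →ₗ[K] (Fin n → K)) = 1 := by
    rw [← LinearMap.toMatrix'_comp, LinearEquiv.comp_coe, LinearEquiv.symm_trans_self,
      LinearEquiv.refl_toLinearMap, LinearMap.toMatrix'_id]
  have h2 : LinearMap.toMatrix' (g.symm : (Fin n → K) →ₗ[K] (Fin n → K))
      * LinearMap.toMatrix' (g : (Fin n → K) →ₗ[K] (Fin n → K)) = 1 := by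
    rw [← LinearMap.toMatrix'_comp, LinearEquiv.comp_coe, LinearEquiv.self_trans_symm,
      LinearEquiv.refl_toLinearMap, LinearMap.toMatrix'_id]
  have hMv : ∀ v, (LinearMap.toMatrix' (g : (Fin n → K) →ₗ[K] (Fin n → K))).mulVec v = g v :=
    fun v => LinearMap.toMatrix'_mulVec _ v
  refine ⟨⟨_, _, h1, h2⟩, ?_, hMv⟩
  rw [mem_GU_iff]
  intro u v
  show Cfsg.hermForm n K q
    ((LinearMap.toMatrix' (g : (Fin n → K) →ₗ[K] (Fin n → K))).mulVec u)
    ((LinearMap.toMatrix' (g : (Fin n → K) →ₗ[K] (Fin n → K))).mulVec v) = _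
  rw [hMv, hMv, hg]

theorem gu_frame_transitive {K : Type*} [Field K] [Fintype K] {q : ℕ}
    (hK : Fintype.card K = q ^ 2) (n k : ℕ) (b b' : Fin k → (Fin n → K))
    (hb : LinearIndependent K b) (hb' : LinearIndependent K b')
    (hiso : ∀ i j, Cfsg.hermForm n K q (b i) (b j) = 0)
    (hiso' : ∀ i j, Cfsg.hermForm n K q (b' i) (b' j) = 0) :
    ∃ M : GL (Fin n) K, M ∈ Cfsg.GU n K q
      ∧ ∀ i, (M : Matrix (Fin n) (Fin n) K).mulVec (b i) = b' i := by
  obtain ⟨g, hg1, hg2⟩ := herm_frame_transitive hK (hermForm_isHerm hK n) b b' hb hb' hiso hiso'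
  obtain ⟨M, hM, hMv⟩ := gu_of_isometry n q g hg1
  exact ⟨M, hM, fun i => by rw [hMv, hg2]⟩

end Cfsg.Agent.Helper15
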