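import Mathlib
import Cfsg.Agent.Helper15.SUTransv

set_option autoImplicit false

namespace Cfsg.Agent.Helper15

/-- The action of an element of `SU_n(q)` on column vectors. -/
def suAct {K : Type*} [Field K] {n q : ℕ} (A : ↥(Cfsg.SU n K q)) (x : Fin n → K) : Fin n → K :=
  ((A : Matrix.SpecialLinearGroup (Fin n) K) : Matrix (Fin n) (Fin n) K).mulVec x

theorem suAct_def {K : Type*} [Field K] {n q : ℕ} (A : ↥(Cfsg.SU n K q)) (x : Fin n → K) :
    suAct A x
      = ((A : Matrix.SpecialLinearGroup (Fin n) K) : Matrix (Fin n) (Fin n) K).mulVec x := rfl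

theorem suAct_mul {K : Type*} [Field K] {n q : ℕ} (A B : ↥(Cfsg.SU n K q)) (x : Fin n → K) :
    suAct (A * B) x = suAct A (suAct B x) := by
  unfold suAct
  rw [Subgroup.coe_mul, Matrix.SpecialLinearGroup.coe_mul, Matrix.mulVec_mulVec]

theorem suAct_one {K : Type*} [Field K] {n q : ℕ} (x : Fin n → K) :
    suAct (1 : ↥(Cfsg.SU n K q)) x = x := by
  unfold suAct
  rw [Subgroup.coe_one, Matrix.SpecialLinearGroup.coe_one, Matrix.one_mulVec]

theorem suAct_inv_left {K : Type*} [Field K] {n q : ℕ} (A : ↥(Cfsg.SU n K q)) (x : Fin n → K) :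
    suAct A⁻¹ (suAct A x) = x := by
  rw [← suAct_mul, inv_mul_cancel, suAct_one]

theorem suAct_inv_right {K : Type*} [Field K] {n q : ℕ} (A : ↥(Cfsg.SU n K q)) (x : Fin n → K) :
    suAct A (suAct A⁻¹ x) = x := by
  rw [← suAct_mul, mul_inv_cancel, suAct_one]

theorem suAct_add {K : Type*} [Field K] {n q : ℕ} (A : ↥(Cfsg.SU n K q)) (x y : Fin n → K) :
    suAct A (x + y) = suAct A x + suAct A y := by
  unfold suAct
  rw [Matrix.mulVec_add]

theorem suAct_sub {K : Type*} [Field K] {n q : ℕ} (A : ↥(Cfsg.SU n K q)) (x y : Fin n → K) :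
    suAct A (x - y) = suAct A x - suAct A y := by
  unfold suAct
  rw [Matrix.mulVec_sub]

theorem suAct_smul {K : Type*} [Field K] {n q : ℕ} (A : ↥(Cfsg.SU n K q)) (c : K)
    (x : Fin n → K) : suAct A (c • x) = c • suAct A x := by
  unfold suAct
  rw [Matrix.mulVec_smul]

theorem suAct_zero {K : Type*} [Field K] {n q : ℕ} (A : ↥(Cfsg.SU n K q)) :
    suAct A (0 : Fin n → K) = 0 := by
  unfold suAct
  rw [Matrix.mulVec_zero]

theorem suAct_pres {K : Type*} [Field K] {n q : ℕ} (A : ↥(Cfsg.SU n K q)) (x y : Fin n → K) :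
    Cfsg.hermForm n K q (suAct A x) (suAct A y) = Cfsg.hermForm n K q x y :=
  (mem_SU_iff n q A.1).1 A.2 x y

theorem su_ext {K : Type*} [Field K] {n q : ℕ} (A B : ↥(Cfsg.SU n K q))
    (h : ∀ x, suAct A x = suAct B x) : A = B := by
  classical
  apply Subtype.ext
  apply Subtype.ext
  ext i j
  have h3 := congrFun (h (Pi.single j 1)) i
  unfold suAct at h3
  rw [Matrix.mulVec_single_one, Matrix.mulVec_single_one] at h3
  exact h3

theorem utransv_mulVec {K : Type*} [Field K] (n q : ℕ) (v : Fin n → K) (c : K)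
    (x : Fin n → K) :
    (Cfsg.unitaryTransvection n q v c).mulVec x = x + (c * Cfsg.hermForm n K q x v) • v := by
  have hdot : (fun k => v k ^ q) ⬝ᵥ x = Cfsg.hermForm n K q x v := by
    unfold Cfsg.hermForm
    exact Finset.sum_congr rfl (fun k _ => mul_comm _ _)
  unfold Cfsg.unitaryTransvection
  rw [Matrix.add_mulVec, Matrix.one_mulVec, Matrix.smul_mulVec, Matrix.vecMulVec_mulVec, hdot,
    op_smul_eq_smul, smul_smul]

/-- Expansion of the form on `x + a • v`, `y + b • w`. -/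
theorem herm_expand {K : Type*} [Field K] [Fintype K] {q : ℕ} (hK : Fintype.card K = q ^ 2)
    {V : Type*} [AddCommGroup V] [Module K V] {h : V → V → K} (hh : IsHerm q h)
    (x y v w : V) (a b : K) :
    h (x + a • v) (y + b • w) = h x y + b ^ q * h x w + a * h v y + a * b ^ q * h v w := by
  rw [hh.add_left, hh.add_right hK, hh.add_right hK, hh.smul_left, hh.smul_right, hh.smul_left,
    hh.smul_right]
  ring

/-- Existence of the unitary transvection with given isotropic centre and skew parameter. -/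
theorem su_transv_exists {K : Type*} [Field K] [Fintype K] {q : ℕ}
    (hK : Fintype.card K = q ^ 2) (n : ℕ) (a : K) (ha : a ^ q = -a) (v : Fin n → K)
    (hv : Cfsg.hermForm n K q v v = 0) :
    ∃ T : ↥(Cfsg.SU n K q),
      ((T : Matrix.SpecialLinearGroup (Fin n) K) : Matrix (Fin n) (Fin n) K)
        = Cfsg.unitaryTransvection n q v a ∧
      ∀ x, suAct T x = x + (a * Cfsg.hermForm n K q x v) • v := by
  obtain ⟨s, hs, hsm⟩ := su_transv_mem hK n a ha v hv
  refine ⟨⟨s, hs⟩, hsm, ?_⟩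
  intro x
  have h1 : suAct (⟨s, hs⟩ : ↥(Cfsg.SU n K q)) x
      = (Cfsg.unitaryTransvection n q v a).mulVec x := by
    unfold suAct
    rw [show ((⟨s, hs⟩ : ↥(Cfsg.SU n K q)) : Matrix.SpecialLinearGroup (Fin n) K) = s from rfl,
      hsm]
    rfl
  rw [h1, utransv_mulVec]

/-- A unitary matrix of transvection shape with nonzero centre and parameter has skew parameter. -/
theorem utransv_skew {K : Type*} [Field K] [Fintype K] {q : ℕ} (hK : Fintype.card K = q ^ 2)
    (n : ℕ) (A : ↥(Cfsg.SU n K q)) (v : Fin n → K) (c : K)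
    (hv0 : Cfsg.hermForm n K q v v = 0)
    (hA : ((A : Matrix.SpecialLinearGroup (Fin n) K) : Matrix (Fin n) (Fin n) K)
      = Cfsg.unitaryTransvection n q v c) (hv : v ≠ 0) : c ^ q = -c := by
  have hh := hermForm_isHerm hK n
  have hq := two_le_of_card_sq hK
  obtain ⟨x, hx⟩ : ∃ x, Cfsg.hermForm n K q v x ≠ 0 := by
    by_contra hcon
    push Not at hcon
    exact hv (hh.nondeg v hcon)
  have hAx : ∀ y, suAct A y = y + (c * Cfsg.hermForm n K q y v) • v := by
    intro y
    unfold suAct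
    rw [hA, utransv_mulVec]
  have h1 := suAct_pres A x x
  rw [hAx, herm_expand hK hh, hv0, mul_zero, add_zero, mul_pow, ← hh.conj x v] at h1
  have hx' : Cfsg.hermForm n K q x v ≠ 0 := by
    intro h0
    apply hx
    rw [hh.conj x v, h0, zero_pow (by omega)]
  have h2 : (c ^ q + c) * (Cfsg.hermForm n K q v x * Cfsg.hermForm n K q x v) = 0 := by
    linear_combination h1
  rcases mul_eq_zero.1 h2 with h3 | h3
  · linear_combination h3
  · exact absurd h3 (mul_ne_zero hx hx')

/-- The Siegel element attached to a totally isotropic pair. -/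
theorem su_siegel_exists {K : Type*} [Field K] [Fintype K] {q : ℕ}
    (hK : Fintype.card K = q ^ 2) (n : ℕ) (v z : Fin n → K)
    (hvv : Cfsg.hermForm n K q v v = 0) (hzz : Cfsg.hermForm n K q z z = 0)
    (hvz : Cfsg.hermForm n K q v z = 0) (a : K) :
    ∃ E : ↥(Cfsg.SU n K q), ∀ x, suAct E x
      = x + (a * Cfsg.hermForm n K q x z) • v - (a ^ q * Cfsg.hermForm n K q x v) • z := by
  have hh := hermForm_isHerm hK n
  have hq := two_le_of_card_sq hK
  obtain ⟨φ, hφ⟩ := exists_frob hK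
  have hzv : Cfsg.hermForm n K q z v = 0 := by
    rw [hh.conj v z, hvz, zero_pow (by omega)]
  obtain ⟨κ, hκ0, hκ⟩ := exists_skew hK
  obtain ⟨α, hα⟩ : ∃ α : K, a = κ * α := ⟨a / κ, by field_simp⟩
  have haq : a ^ q = -κ * α ^ q := by rw [hα, mul_pow, hκ]
  have h1 : Cfsg.hermForm n K q (z + α • v) (z + α • v) = 0 := by
    rw [herm_expand hK hh, hzz, hzv, hvz, hvv]
    ring
  have h2 : (-(κ * α * α ^ q)) ^ q = -(-(κ * α * α ^ q)) := by
    rw [← hφ, map_neg, map_mul, map_mul, hφ, hφ, hφ, pow_card_sq hK, hκ]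
    ring
  have h3 : (-κ) ^ q = -(-κ) := by
    rw [← hφ, map_neg, hφ, hκ]
  obtain ⟨T₁, -, hT₁⟩ := su_transv_exists hK n κ hκ (z + α • v) h1
  obtain ⟨T₂, -, hT₂⟩ := su_transv_exists hK n (-(κ * α * α ^ q)) h2 v hvv
  obtain ⟨T₃, -, hT₃⟩ := su_transv_exists hK n (-κ) h3 z hzz
  refine ⟨T₁ * T₂ * T₃, ?_⟩
  intro x
  rw [suAct_mul, suAct_mul, hT₃, hT₂, hT₁, haq, hα]
  have e1 : Cfsg.hermForm n K q (x + (-κ * Cfsg.hermForm n K q x z) • z) v
      = Cfsg.hermForm n K q x v := by
    rw [hh.add_left, hh.smul_left, hzv, mul_zero, add_zero]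
  have e2 : Cfsg.hermForm n K q (x + (-κ * Cfsg.hermForm n K q x z) • z
        + (-(κ * α * α ^ q) * Cfsg.hermForm n K q x v) • v) (z + α • v)
      = Cfsg.hermForm n K q x z + α ^ q * Cfsg.hermForm n K q x v := by
    rw [hh.add_left, hh.add_left, hh.smul_left, hh.smul_left, hh.add_right hK,
      hh.add_right hK, hh.add_right hK, hh.smul_right, hh.smul_right, hh.smul_right, hzz, hzv,
      hvz, hvv]
    ring
  rw [e1, e2]
  ext i
  simp only [Pi.add_apply, Pi.sub_apply, Pi.smul_apply, smul_eq_mul]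
  ring

end Cfsg.Agent.Helper15
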