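import Mathlib
import Cfsg.Agent.Helper15.SUAct

set_option autoImplicit false

namespace Cfsg.Agent.Helper15

open scoped commutatorElement

/-- For `q ≥ 3` there is a nonzero element whose norm is not one. -/
theorem exists_norm_ne_one {K : Type*} [Field K] [Fintype K] {q : ℕ}
    (hK : Fintype.card K = q ^ 2) (hq3 : 3 ≤ q) : ∃ l : K, l ≠ 0 ∧ l ^ (q + 1) ≠ 1 := by
  classical
  have h1 := (norm_fiber_card hK).1 1 one_ne_zero (one_pow _)
  have h2 : (insert (0 : K) (Finset.univ.filter (fun x : K => x ^ (q + 1) = 1))).card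
      < (Finset.univ : Finset K).card := by
    calc (insert (0 : K) (Finset.univ.filter (fun x : K => x ^ (q + 1) = 1))).card
        ≤ (Finset.univ.filter (fun x : K => x ^ (q + 1) = 1)).card + 1 :=
          Finset.card_insert_le _ _
      _ = q + 2 := by rw [h1]
      _ < q ^ 2 := by nlinarith
      _ = (Finset.univ : Finset K).card := by rw [Finset.card_univ, hK]
  obtain ⟨l, -, hl2⟩ := Finset.exists_mem_notMem_of_card_lt_card h2
  rw [Finset.mem_insert, Finset.mem_filter, not_or] at hl2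
  exact ⟨l, hl2.1, fun h => hl2.2 ⟨Finset.mem_univ _, h⟩⟩

/-- The form on vectors `e_i + a e_j`. -/
theorem herm_pair {K : Type*} [Field K] [Fintype K] {q : ℕ} (hK : Fintype.card K = q ^ 2)
    (n : ℕ) (i j i' j' : Fin n) (a b : K) :
    Cfsg.hermForm n K q (Pi.single i 1 + a • Pi.single j 1) (Pi.single i' 1 + b • Pi.single j' 1)
      = (if i = i' then 1 else 0) + b ^ q * (if i = j' then 1 else 0)
        + a * (if j = i' then 1 else 0) + a * b ^ q * (if j = j' then 1 else 0) := by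
  have hq := two_le_of_card_sq hK
  rw [herm_expand hK (hermForm_isHerm hK n), hermForm_single (by omega), hermForm_single (by omega),
    hermForm_single (by omega), hermForm_single (by omega)]

/-- A hyperbolic pair orthogonal to a given nonzero isotropic vector, in dimension at least 4. -/
theorem su_hyp_frame {K : Type*} [Field K] [Fintype K] {q : ℕ} (hK : Fintype.card K = q ^ 2)
    (m : ℕ) (v : Fin (m + 1 + 1 + 2) → K) (hv : v ≠ 0)
    (hvv : Cfsg.hermForm (m + 1 + 1 + 2) K q v v = 0) :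
    ∃ w z : Fin (m + 1 + 1 + 2) → K, Cfsg.hermForm (m + 1 + 1 + 2) K q w w = 0 ∧
      Cfsg.hermForm (m + 1 + 1 + 2) K q z z = 0 ∧ Cfsg.hermForm (m + 1 + 1 + 2) K q v w = 0 ∧
      Cfsg.hermForm (m + 1 + 1 + 2) K q v z = 0 ∧ Cfsg.hermForm (m + 1 + 1 + 2) K q w z = 1 := by
  classical
  have hh := hermForm_isHerm hK (m + 1 + 1 + 2)
  have hq := two_le_of_card_sq hK
  obtain ⟨μ, hμ0, hμ⟩ := exists_norm_neg_one hK
  obtain ⟨l, hl1, hl2⟩ := exists_norm_one_sq_ne hK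
  obtain ⟨s, hs, hsv⟩ := su_isotropic_transitive hK (m + 1) μ hμ v hv hvv
  obtain ⟨i2, hi2⟩ : ∃ i : Fin (m + 1 + 1 + 2), i.val = 2 := ⟨⟨2, by omega⟩, rfl⟩
  obtain ⟨i3, hi3⟩ : ∃ i : Fin (m + 1 + 1 + 2), i.val = 3 := ⟨⟨3, by omega⟩, rfl⟩
  have h02 : (0 : Fin (m + 1 + 1 + 2)) ≠ i2 := by
    intro h0
    have := congrArg Fin.val h0
    rw [hi2] at this
    simp at this
  have h03 : (0 : Fin (m + 1 + 1 + 2)) ≠ i3 := by
    intro h0
    have := congrArg Fin.val h0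
    rw [hi3] at this
    simp at this
  have h12 : (1 : Fin (m + 1 + 1 + 2)) ≠ i2 := by
    intro h0
    have := congrArg Fin.val h0
    rw [hi2] at this
    simp at this
  have h13 : (1 : Fin (m + 1 + 1 + 2)) ≠ i3 := by
    intro h0
    have := congrArg Fin.val h0
    rw [hi3] at this
    simp at this
  have h23 : i2 ≠ i3 := by
    intro h0
    have := congrArg Fin.val h0
    rw [hi2, hi3] at this
    omega
  have hμ' : μ * μ ^ q = -1 := by rw [← pow_succ']; exact hμ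
  have hl1' : l * l ^ q = 1 := by rw [← pow_succ']; exact hl1
  have hlq : 1 - l ^ q ≠ 0 := by
    intro h0
    apply hl2
    have h1 : l ^ q = 1 := by linear_combination -h0
    rw [h1, mul_one] at hl1'
    rw [hl1', one_pow]
  -- the standard vectors
  have hA : Cfsg.hermForm (m + 1 + 1 + 2) K q (Pi.single i2 1 + μ • Pi.single i3 1)
      (Pi.single i2 1 + μ • Pi.single i3 1) = 0 := by
    rw [herm_pair hK, if_pos rfl, if_neg h23, if_neg h23.symm, if_pos rfl]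
    linear_combination hμ'
  have hB : Cfsg.hermForm (m + 1 + 1 + 2) K q (Pi.single i2 1 + (μ * l) • Pi.single i3 1)
      (Pi.single i2 1 + (μ * l) • Pi.single i3 1) = 0 := by
    rw [herm_pair hK, if_pos rfl, if_neg h23, if_neg h23.symm, if_pos rfl, mul_pow]
    linear_combination hμ' + (μ * μ ^ q) * hl1'
  have hC : Cfsg.hermForm (m + 1 + 1 + 2) K q (Pi.single i2 1 + μ • Pi.single i3 1)
      (Pi.single i2 1 + (μ * l) • Pi.single i3 1) = 1 - l ^ q := by
    rw [herm_pair hK, if_pos rfl, if_neg h23, if_neg h23.symm, if_pos rfl, mul_pow]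
    linear_combination (l ^ q) * hμ'
  have hD : ∀ b : K, Cfsg.hermForm (m + 1 + 1 + 2) K q (Pi.single 0 1 + μ • Pi.single 1 1)
      (Pi.single i2 1 + b • Pi.single i3 1) = 0 := by
    intro b
    rw [herm_pair hK, if_neg h02, if_neg h03, if_neg h12, if_neg h13]
    ring
  obtain ⟨S, hS⟩ : ∃ S : ↥(Cfsg.SU (m + 1 + 1 + 2) K q), S = ⟨s, hs⟩ := ⟨_, rfl⟩
  have hSv : suAct S (Pi.single 0 1 + μ • Pi.single 1 1) = v := by
    rw [hS]
    exact hsv
  refine ⟨suAct S (Pi.single i2 1 + μ • Pi.single i3 1),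
    suAct S ((((1 - l ^ q)⁻¹) ^ q) • (Pi.single i2 1 + (μ * l) • Pi.single i3 1)), ?_, ?_, ?_, ?_, ?_⟩
  · rw [suAct_pres, hA]
  · rw [suAct_pres, hh.smul_left, hh.smul_right, hB, mul_zero, mul_zero]
  · rw [← hSv, suAct_pres, hD]
  · rw [← hSv, suAct_pres, hh.smul_right, hD, mul_zero]
  · rw [suAct_pres, hh.smul_right, hC, pow_card_sq hK, inv_mul_cancel₀ hlq]

/-- Transvections are commutators: the case `q ≥ 3`. -/
theorem su_transv_comm_q3 {K : Type*} [Field K] [Fintype K] {q : ℕ}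
    (hK : Fintype.card K = q ^ 2) (hq3 : 3 ≤ q) (m : ℕ) (A : ↥(Cfsg.SU (m + 1 + 2) K q))
    (v : Fin (m + 1 + 2) → K) (c : K) (hv : v ≠ 0)
    (hvv : Cfsg.hermForm (m + 1 + 2) K q v v = 0) (hc : c ^ q = -c)
    (hA : ∀ x, suAct A x = x + (c * Cfsg.hermForm (m + 1 + 2) K q x v) • v) :
    A ∈ commutatorSet ↥(Cfsg.SU (m + 1 + 2) K q) := by
  classical
  have hh := hermForm_isHerm hK (m + 1 + 2)
  have hq := two_le_of_card_sq hK
  obtain ⟨φ, hφ⟩ := exists_frob hK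
  obtain ⟨l, hl0, hl⟩ := exists_norm_ne_one hK hq3
  obtain ⟨μ, hμ0, hμ⟩ := exists_norm_neg_one hK
  obtain ⟨s₁, hs₁, hs₁v⟩ := su_isotropic_transitive hK m μ hμ v hv hvv
  obtain ⟨s₂, hs₂, hs₂v⟩ := su_isotropic_transitive hK m μ hμ (l • v) (smul_ne_zero hl0 hv)
    (by rw [hh.smul_left, hh.smul_right, hvv, mul_zero, mul_zero])
  obtain ⟨S₁, hS₁⟩ : ∃ S : ↥(Cfsg.SU (m + 1 + 2) K q), S = ⟨s₁, hs₁⟩ := ⟨_, rfl⟩
  obtain ⟨S₂, hS₂⟩ : ∃ S : ↥(Cfsg.SU (m + 1 + 2) K q), S = ⟨s₂, hs₂⟩ := ⟨_, rfl⟩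
  have hS₁v : suAct S₁ (Pi.single 0 1 + μ • Pi.single 1 1) = v := by
    rw [hS₁]
    exact hs₁v
  have hS₂v : suAct S₂ (Pi.single 0 1 + μ • Pi.single 1 1) = l • v := by
    rw [hS₂]
    exact hs₂v
  obtain ⟨B, hB⟩ : ∃ B : ↥(Cfsg.SU (m + 1 + 2) K q), B = S₂ * S₁⁻¹ := ⟨_, rfl⟩
  have hBv : suAct B v = l • v := by
    rw [hB, suAct_mul]
    nth_rewrite 1 [← hS₁v]
    rw [suAct_inv_left, hS₂v]
  have hN : (l ^ (q + 1)) ^ q = l ^ (q + 1) := norm_pow_fixed hK l
  have hN1 : l ^ (q + 1) - 1 ≠ 0 := fun h => hl (sub_eq_zero.1 h)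
  obtain ⟨c', hc'⟩ : ∃ c' : K, c = c' * (l ^ (q + 1) - 1) := ⟨c / (l ^ (q + 1) - 1), by field_simp⟩
  have hc'q : c' ^ q = -c' := by
    have h1 : (c' * (l ^ (q + 1) - 1)) ^ q = -(c' * (l ^ (q + 1) - 1)) := by rw [← hc', hc]
    rw [mul_pow] at h1
    have h2 : (l ^ (q + 1) - 1) ^ q = l ^ (q + 1) - 1 := by
      rw [← hφ, map_sub, map_one, hφ, hN]
    rw [h2] at h1
    apply mul_right_cancel₀ hN1
    linear_combination h1
  obtain ⟨C, -, hC⟩ := su_transv_exists hK (m + 1 + 2) c' hc'q v hvv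
  have hBxv : ∀ x, Cfsg.hermForm (m + 1 + 2) K q (suAct B x) v
      = (l⁻¹) ^ q * Cfsg.hermForm (m + 1 + 2) K q x v := by
    intro x
    have h1 : v = l⁻¹ • suAct B v := by rw [hBv, smul_smul, inv_mul_cancel₀ hl0, one_smul]
    nth_rewrite 1 [h1]
    rw [hh.smul_right, suAct_pres]
  have hsc : (c' + c) * (l⁻¹) ^ q = c' * l := by
    rw [hc', inv_pow]
    field_simp
    ring
  rw [mem_commutatorSet_iff]
  refine ⟨B, C, ?_⟩
  rw [commutatorElement_def, mul_inv_eq_iff_eq_mul, mul_inv_eq_iff_eq_mul]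
  apply su_ext
  intro x
  rw [suAct_mul, suAct_mul, suAct_mul, hC, hC, hA, suAct_add, suAct_smul, hBv]
  have e1 : Cfsg.hermForm (m + 1 + 2) K q
      (suAct B x + (c' * Cfsg.hermForm (m + 1 + 2) K q (suAct B x) v) • v) v
      = Cfsg.hermForm (m + 1 + 2) K q (suAct B x) v := by
    rw [hh.add_left, hh.smul_left, hvv, mul_zero, add_zero]
  rw [e1, hBxv, smul_smul]
  ext i
  simp only [Pi.add_apply, Pi.smul_apply, smul_eq_mul]
  linear_combination (-Cfsg.hermForm (m + 1 + 2) K q x v * v i) * hsc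

/-- Transvections are commutators: the case `n ≥ 4`. -/
theorem su_transv_comm_n4 {K : Type*} [Field K] [Fintype K] {q : ℕ}
    (hK : Fintype.card K = q ^ 2) (m : ℕ) (A : ↥(Cfsg.SU (m + 1 + 1 + 2) K q))
    (v : Fin (m + 1 + 1 + 2) → K) (c : K) (hv : v ≠ 0)
    (hvv : Cfsg.hermForm (m + 1 + 1 + 2) K q v v = 0) (hc : c ^ q = -c)
    (hA : ∀ x, suAct A x = x + (c * Cfsg.hermForm (m + 1 + 1 + 2) K q x v) • v) :
    A ∈ commutatorSet ↥(Cfsg.SU (m + 1 + 1 + 2) K q) := by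
  classical
  have hh := hermForm_isHerm hK (m + 1 + 1 + 2)
  have hq := two_le_of_card_sq hK
  obtain ⟨φ, hφ⟩ := exists_frob hK
  obtain ⟨w, z, hww, hzz, hvw, hvz, hwz⟩ := su_hyp_frame hK m v hv hvv
  have hwv : Cfsg.hermForm (m + 1 + 1 + 2) K q w v = 0 := by
    rw [hh.conj v w, hvw, zero_pow (by omega)]
  have hzv : Cfsg.hermForm (m + 1 + 1 + 2) K q z v = 0 := by
    rw [hh.conj v z, hvz, zero_pow (by omega)]
  have hzw : Cfsg.hermForm (m + 1 + 1 + 2) K q z w = 1 := by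
    rw [hh.conj w z, hwz, one_pow]
  obtain ⟨θ, hθ⟩ := exists_trace_one hK
  obtain ⟨a, ha⟩ : ∃ a : K, a = -(c * θ) := ⟨_, rfl⟩
  have haq : a ^ q = a + c := by
    rw [ha, ← hφ, map_neg, map_mul, hφ, hφ, hc]
    linear_combination c * hθ
  obtain ⟨B, hB⟩ := su_siegel_exists hK (m + 1 + 1 + 2) v z hvv hzz hvz a
  obtain ⟨C, hC⟩ := su_siegel_exists hK (m + 1 + 1 + 2) v w hvv hww hvw 1
  rw [mem_commutatorSet_iff]
  refine ⟨B, C, ?_⟩
  rw [commutatorElement_def, mul_inv_eq_iff_eq_mul, mul_inv_eq_iff_eq_mul]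
  apply su_ext
  intro x
  rw [suAct_mul, suAct_mul, suAct_mul, hC, hB, hB, hC, hA, haq]
  simp only [hh.add_left, hh.smul_left, sub_eq_add_neg, ← neg_smul, hvv, hzz, hww, hvw, hvz, hwv,
    hzv, hwz, hzw, one_pow]
  ext i
  simp only [Pi.add_apply, Pi.smul_apply, smul_eq_mul]
  ring

/-- Unitary transvections are commutators in `SU_n(q)` for `n ≥ 4`, or `n = 3` and `q ≥ 3`. -/
theorem su_transv_commutator {K : Type*} [Field K] [Fintype K] {q : ℕ}
    (hK : Fintype.card K = q ^ 2) (n : ℕ) (hn : 4 ≤ n ∨ (n = 3 ∧ 3 ≤ q))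
    (A : ↥(Cfsg.SU n K q)) (v : Fin n → K) (c : K)
    (hv0 : Cfsg.hermForm n K q v v = 0)
    (hA : ((A : Matrix.SpecialLinearGroup (Fin n) K) : Matrix (Fin n) (Fin n) K)
      = Cfsg.unitaryTransvection n q v c) :
    A ∈ commutatorSet ↥(Cfsg.SU n K q) := by
  classical
  have hAx : ∀ y, suAct A y = y + (c * Cfsg.hermForm n K q y v) • v := by
    intro y
    unfold suAct
    rw [hA, utransv_mulVec]
  by_cases hv : v = 0
  · have h1 : A = 1 := by
      apply su_ext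
      intro x
      rw [hAx, hv, smul_zero, add_zero, suAct_one]
    rw [h1]
    exact one_mem_commutatorSet _
  by_cases hc0 : c = 0
  · have h1 : A = 1 := by
      apply su_ext
      intro x
      rw [hAx, hc0, zero_mul, zero_smul, add_zero, suAct_one]
    rw [h1]
    exact one_mem_commutatorSet _
  have hc := utransv_skew hK n A v c hv0 hA hv
  by_cases hq3 : 3 ≤ q
  · obtain ⟨m, rfl⟩ : ∃ m, n = m + 1 + 2 := ⟨n - 3, by omega⟩
    exact su_transv_comm_q3 hK hq3 m A v c hv hv0 hc hAx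
  · obtain ⟨m, rfl⟩ : ∃ m, n = m + 1 + 1 + 2 := ⟨n - 4, by omega⟩
    exact su_transv_comm_n4 hK m A v c hv hv0 hc hAx

end Cfsg.Agent.Helper15
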