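import Mathlib

set_option autoImplicit false

namespace Cfsg.Agent.Helper15

theorem su_parab_arith (q n : ℕ) : ∀ k, 2 * k ≤ n →
    (∏ i : Fin k, q ^ (2 * (i : ℕ)) *
        (if Even (n - 2 * (i : ℕ)) then (q ^ (n - 2 * (i : ℕ)) - 1) * (q ^ (n - 2 * (i : ℕ) - 1) + 1)
          else (q ^ (n - 2 * (i : ℕ)) + 1) * (q ^ (n - 2 * (i : ℕ) - 1) - 1)))
      * (q ^ (k * (2 * n - 3 * k)) * (q ^ ((n - 2 * k) * ((n - 2 * k) - 1) / 2)
        * ∏ i ∈ Finset.range (n - 2 * k), (if Even i then q ^ (i + 1) + 1 else q ^ (i + 1) - 1)))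
    = q ^ (n * (n - 1) / 2)
        * ∏ i ∈ Finset.range n, (if Even i then q ^ (i + 1) + 1 else q ^ (i + 1) - 1) := by
  intro k
  induction k with
  | zero =>
    intro _
    simp
  | succ k ih =>
    intro hk
    have ih' := ih (by omega)
    obtain ⟨d, hd⟩ : ∃ d, n = 2 * k + 2 + d := ⟨n - (2 * k + 2), by omega⟩
    subst hd
    have h1 : 2 * k + 2 + d - 2 * (k + 1) = d := by omega
    have h2 : 2 * k + 2 + d - 2 * k = d + 2 := by omega
    have h3 : 2 * (2 * k + 2 + d) - 3 * (k + 1) = k + 1 + 2 * d := by omega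
    have h4 : 2 * (2 * k + 2 + d) - 3 * k = k + 4 + 2 * d := by omega
    rw [h1, h3]
    rw [h2, h4, Finset.prod_range_succ, Finset.prod_range_succ] at ih'
    rw [Fin.prod_univ_castSucc]
    simp only [Fin.val_castSucc, Fin.val_last]
    rw [← ih', h2]
    have he2 : Even (d + 2) ↔ Even d := by
      constructor
      · rintro ⟨r, hr⟩
        exact ⟨r - 1, by omega⟩
      · rintro ⟨r, hr⟩
        exact ⟨r + 1, by omega⟩
    have hJ : (if Even (d + 2) then (q ^ (d + 2) - 1) * (q ^ (d + 2 - 1) + 1)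
          else (q ^ (d + 2) + 1) * (q ^ (d + 2 - 1) - 1))
        = (if Even d then q ^ (d + 1) + 1 else q ^ (d + 1) - 1)
          * (if Even (d + 1) then q ^ (d + 1 + 1) + 1 else q ^ (d + 1 + 1) - 1) := by
      have h5 : d + 2 - 1 = d + 1 := by omega
      rw [h5]
      by_cases hev : Even d
      · rw [if_pos (he2.2 hev), if_pos hev, if_neg (by rw [Nat.even_add_one]; exact not_not.2 hev),
          mul_comm]
      · rw [if_neg (fun h => hev (he2.1 h)), if_neg hev,
          if_pos (by rw [Nat.even_add_one]; exact hev), mul_comm]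
    rw [hJ]
    have h6 : (d + 2) * (d + 2 - 1) / 2 = d * (d - 1) / 2 + (2 * d + 1) := by
      have h : (d + 2) * (d + 2 - 1) = d * (d - 1) + 2 * (2 * d + 1) := by
        rcases d with _ | d
        · rfl
        · simp only [Nat.add_sub_cancel]
          have h7 : d + 1 + 2 - 1 = d + 2 := by omega
          rw [h7]
          ring
      rw [h, Nat.add_mul_div_left _ _ (by norm_num : 0 < 2)]
    rw [h6]
    have h8 : q ^ (2 * k) * q ^ ((k + 1) * (k + 1 + 2 * d))
        = q ^ (k * (k + 4 + 2 * d)) * q ^ (2 * d + 1) := by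
      rw [← pow_add, ← pow_add]
      congr 1
      ring
    have key : ∀ P a b c e X E e1 e2 : ℕ, a * b = c * e →
        P * (a * (e1 * e2)) * (b * (X * E)) = P * (c * (X * e * (E * e1 * e2))) := by
      intro P a b c e X E e1 e2 h
      have l1 : P * (a * (e1 * e2)) * (b * (X * E)) = P * e1 * e2 * X * E * (a * b) := by ring
      have l2 : P * (c * (X * e * (E * e1 * e2))) = P * e1 * e2 * X * E * (c * e) := by ring
      rw [l1, l2, h]
    rw [pow_add (q) (d * (d - 1) / 2) (2 * d + 1)]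
    exact key _ _ _ _ _ _ _ _ _ h8

end Cfsg.Agent.Helper15
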