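import Mathlib
import Cfsg.Prelude.Def_ClassicalGeometry

set_option autoImplicit false

namespace Cfsg.Agent.Helper15

/-- An injective matrix mapping a set of vectors into itself stabilises it (finite field). -/
theorem stab_of_maps {ι : Type} [Fintype ι] [DecidableEq ι] {F : Type*} [Field F] [Finite F]
    (M : Matrix ι ι F) (hM : Function.Injective M.mulVec) (S : Set (ι → F))
    (hS : ∀ v ∈ S, M.mulVec v ∈ S) (v : ι → F) : v ∈ S ↔ M.mulVec v ∈ S := by
  let f : S → S := fun v => ⟨M.mulVec v.1, hS v.1 v.2⟩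
  have hfinj : Function.Injective f := fun a b hab =>
    Subtype.ext (hM (congrArg Subtype.val hab))
  have hfsurj : Function.Surjective f := Finite.injective_iff_surjective.1 hfinj
  constructor
  · exact hS v
  · intro hv
    obtain ⟨s, hs⟩ := hfsurj ⟨_, hv⟩
    have h1 : M.mulVec s.1 = M.mulVec v := congrArg Subtype.val hs
    rw [← hM h1]
    exact s.2

theorem sp_block_iff {F : Type*} [Field F] (m : ℕ) (A B D : Matrix (Fin m) (Fin m) F) :
    Matrix.fromBlocks A B 0 D ∈ Matrix.symplecticGroup (Fin m) F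
      ↔ A.transpose * D = 1 ∧ D.transpose * B = B.transpose * D := by
  rw [SymplecticGroup.mem_iff']
  unfold Matrix.J
  rw [Matrix.fromBlocks_transpose, Matrix.fromBlocks_multiply, Matrix.fromBlocks_multiply,
    Matrix.fromBlocks_inj]
  simp only [Matrix.transpose_zero, Matrix.mul_zero, Matrix.zero_mul, Matrix.mul_one,
    Matrix.mul_neg, zero_add, add_zero, Matrix.neg_mul]
  constructor
  · rintro ⟨-, h1, -, h3⟩
    exact ⟨neg_inj.1 h1, add_neg_eq_zero.1 h3⟩
  · rintro ⟨h1, h2⟩
    refine ⟨trivial, by rw [h1], ?_, by rw [h2, add_neg_cancel]⟩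
    rw [← Matrix.transpose_one, ← h1, Matrix.transpose_mul, Matrix.transpose_transpose]

theorem sp_mulVec_injective {F : Type*} [Field F] (m : ℕ)
    (g : Matrix.symplecticGroup (Fin m) F) :
    Function.Injective (g : Matrix (Fin m ⊕ Fin m) (Fin m ⊕ Fin m) F).mulVec := by
  have h1 : IsUnit (g : Matrix (Fin m ⊕ Fin m) (Fin m ⊕ Fin m) F).det :=
    SymplecticGroup.symplectic_det g.2
  exact Matrix.mulVec_injective_iff_isUnit.2 ((Matrix.isUnit_iff_isUnit_det _).2 h1)

/-- Membership in the standard Borel subgroup of `Sp_{2m}`. -/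
theorem sp_borel_iff {F : Type*} [Field F] [Finite F] (m : ℕ)
    (g : Matrix.symplecticGroup (Fin m) F) :
    g ∈ (⨅ k : Fin m, Cfsg.stabilizing (Cfsg.spToMat m F)
      {v : Fin m ⊕ Fin m → F | (∀ i : Fin m, (k : ℕ) < (i : ℕ) → v (Sum.inl i) = 0)
        ∧ ∀ i : Fin m, v (Sum.inr i) = 0})
    ↔ (∀ i j : Fin m, (g : Matrix (Fin m ⊕ Fin m) (Fin m ⊕ Fin m) F) (Sum.inr i) (Sum.inl j) = 0)
      ∧ ∀ i j : Fin m, (j : ℕ) < (i : ℕ) →
        (g : Matrix (Fin m ⊕ Fin m) (Fin m ⊕ Fin m) F) (Sum.inl i) (Sum.inl j) = 0 := by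
  classical
  rw [Subgroup.mem_iInf]
  constructor
  · intro hg
    have key : ∀ j : Fin m, (g : Matrix (Fin m ⊕ Fin m) (Fin m ⊕ Fin m) F).mulVec
        (Pi.single (Sum.inl j) 1) ∈ {v : Fin m ⊕ Fin m → F |
          (∀ i : Fin m, (j : ℕ) < (i : ℕ) → v (Sum.inl i) = 0)
          ∧ ∀ i : Fin m, v (Sum.inr i) = 0} := by
      intro j
      refine (hg j (Pi.single (Sum.inl j) 1)).1 ⟨?_, ?_⟩
      · intro i hi
        have hne : (Sum.inl i : Fin m ⊕ Fin m) ≠ Sum.inl j := by
          intro h0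
          have := Sum.inl.inj h0
          rw [this] at hi
          omega
        rw [Pi.single_eq_of_ne hne]
      · intro i
        rw [Pi.single_eq_of_ne Sum.inr_ne_inl]
    constructor
    · intro i j
      have h1 := (key j).2 i
      rw [Matrix.mulVec_single_one] at h1
      exact h1
    · intro i j hij
      have h1 := (key j).1 i hij
      rw [Matrix.mulVec_single_one] at h1
      exact h1
  · rintro ⟨h21, h11⟩ k
    intro v
    apply stab_of_maps _ (sp_mulVec_injective m g)
    rintro v ⟨hv1, hv2⟩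
    constructor
    · intro i hi
      show ∑ x, (g : Matrix (Fin m ⊕ Fin m) (Fin m ⊕ Fin m) F) (Sum.inl i) x * v x = 0
      rw [Fintype.sum_sum_type]
      have e1 : ∑ j : Fin m, (g : Matrix (Fin m ⊕ Fin m) (Fin m ⊕ Fin m) F) (Sum.inl i)
          (Sum.inl j) * v (Sum.inl j) = 0 := by
        apply Finset.sum_eq_zero
        intro j _
        by_cases hj : (k : ℕ) < (j : ℕ)
        · rw [hv1 j hj, mul_zero]
        · rw [h11 i j (by omega), zero_mul]
      have e2 : ∑ j : Fin m, (g : Matrix (Fin m ⊕ Fin m) (Fin m ⊕ Fin m) F) (Sum.inl i)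
          (Sum.inr j) * v (Sum.inr j) = 0 := by
        apply Finset.sum_eq_zero
        intro j _
        rw [hv2 j, mul_zero]
      rw [e1, e2, add_zero]
    · intro i
      show ∑ x, (g : Matrix (Fin m ⊕ Fin m) (Fin m ⊕ Fin m) F) (Sum.inr i) x * v x = 0
      rw [Fintype.sum_sum_type]
      have e1 : ∑ j : Fin m, (g : Matrix (Fin m ⊕ Fin m) (Fin m ⊕ Fin m) F) (Sum.inr i)
          (Sum.inl j) * v (Sum.inl j) = 0 := by
        apply Finset.sum_eq_zero
        intro j _
        rw [h21 i j, zero_mul]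
      have e2 : ∑ j : Fin m, (g : Matrix (Fin m ⊕ Fin m) (Fin m ⊕ Fin m) F) (Sum.inr i)
          (Sum.inr j) * v (Sum.inr j) = 0 := by
        apply Finset.sum_eq_zero
        intro j _
        rw [hv2 j, mul_zero]
      rw [e1, e2, add_zero]

/-- The upper triangular matrix with diagonal `d` and strictly upper part from `N`. -/
def utMat {F : Type*} [Field F] {m : ℕ} (d : Fin m → Fˣ) (N : Matrix (Fin m) (Fin m) F) :
    Matrix (Fin m) (Fin m) F :=
  fun i j => if i = j then (d i : F) else if (i : ℕ) < (j : ℕ) then N i j else 0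

/-- The symmetric matrix built from the lower triangle of `N`. -/
def symMat {F : Type*} [Field F] {m : ℕ} (N : Matrix (Fin m) (Fin m) F) :
    Matrix (Fin m) (Fin m) F :=
  fun i j => if (j : ℕ) ≤ (i : ℕ) then N i j else N j i

theorem symMat_transpose {F : Type*} [Field F] {m : ℕ} (N : Matrix (Fin m) (Fin m) F) :
    (symMat N).transpose = symMat N := by
  ext i j
  show symMat N j i = symMat N i j
  unfold symMat
  by_cases h1 : (i : ℕ) ≤ (j : ℕ)
  · by_cases h2 : (j : ℕ) ≤ (i : ℕ)
    · have : i = j := Fin.ext (by omega)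
      rw [this]
    · rw [if_pos h1, if_neg h2]
  · rw [if_neg h1, if_pos (by omega)]

theorem utMat_det {F : Type*} [Field F] {m : ℕ} (d : Fin m → Fˣ)
    (N : Matrix (Fin m) (Fin m) F) : (utMat d N).det = ∏ i, (d i : F) := by
  have h1 : (utMat d N).BlockTriangular id := by
    intro i j hij
    have hij' : (j : ℕ) < (i : ℕ) := hij
    unfold utMat
    rw [if_neg (by
      rintro rfl
      omega), if_neg (by omega)]
  rw [Matrix.det_of_upperTriangular h1]
  apply Finset.prod_congr rfl
  intro i _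
  unfold utMat
  rw [if_pos rfl]

theorem utMat_isUnit_det {F : Type*} [Field F] {m : ℕ} (d : Fin m → Fˣ)
    (N : Matrix (Fin m) (Fin m) F) : IsUnit (utMat d N).det := by
  rw [utMat_det, isUnit_iff_ne_zero, Finset.prod_ne_zero_iff]
  intro i _
  exact (d i).ne_zero

/-- The order of the standard Borel subgroup of `Sp_{2m}(q)`. -/
theorem card_sp_borel {F : Type*} [Field F] [Fintype F] {q : ℕ} (hF : Fintype.card F = q)
    (m : ℕ) :
    Nat.card ↥(⨅ k : Fin m, Cfsg.stabilizing (Cfsg.spToMat m F)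
      {v : Fin m ⊕ Fin m → F | (∀ i : Fin m, (k : ℕ) < (i : ℕ) → v (Sum.inl i) = 0)
        ∧ ∀ i : Fin m, v (Sum.inr i) = 0}) = q ^ (m ^ 2) * (q - 1) ^ m := by
  classical
  have hmem : ∀ (d : Fin m → Fˣ) (N : Matrix (Fin m) (Fin m) F),
      Matrix.fromBlocks (utMat d N) (utMat d N * symMat N) 0 ((utMat d N)⁻¹).transpose
        ∈ Matrix.symplecticGroup (Fin m) F := by
    intro d N
    rw [sp_block_iff]
    constructor
    · rw [← Matrix.transpose_mul, Matrix.nonsing_inv_mul _ (utMat_isUnit_det d N),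
        Matrix.transpose_one]
    · rw [Matrix.transpose_transpose, ← Matrix.mul_assoc,
        Matrix.nonsing_inv_mul _ (utMat_isUnit_det d N), Matrix.one_mul, ← Matrix.transpose_mul,
        ← Matrix.mul_assoc, Matrix.nonsing_inv_mul _ (utMat_isUnit_det d N), Matrix.one_mul,
        symMat_transpose]
  have hmemB : ∀ (d : Fin m → Fˣ) (N : Matrix (Fin m) (Fin m) F),
      (⟨_, hmem d N⟩ : Matrix.symplecticGroup (Fin m) F)
        ∈ (⨅ k : Fin m, Cfsg.stabilizing (Cfsg.spToMat m F)
      {v : Fin m ⊕ Fin m → F | (∀ i : Fin m, (k : ℕ) < (i : ℕ) → v (Sum.inl i) = 0)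
        ∧ ∀ i : Fin m, v (Sum.inr i) = 0}) := by
    intro d N
    rw [sp_borel_iff]
    constructor
    · intro i j
      rfl
    · intro i j hij
      show utMat d N i j = 0
      unfold utMat
      rw [if_neg (by
        rintro rfl
        omega), if_neg (by omega)]
  let Ψ : (Fin m → Fˣ) × Matrix (Fin m) (Fin m) F →
      ↥(⨅ k : Fin m, Cfsg.stabilizing (Cfsg.spToMat m F)
      {v : Fin m ⊕ Fin m → F | (∀ i : Fin m, (k : ℕ) < (i : ℕ) → v (Sum.inl i) = 0)
        ∧ ∀ i : Fin m, v (Sum.inr i) = 0}) :=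
    fun p => ⟨⟨_, hmem p.1 p.2⟩, hmemB p.1 p.2⟩
  have hΨval : ∀ p, (((Ψ p : ↥(⨅ k : Fin m, Cfsg.stabilizing (Cfsg.spToMat m F)
      {v : Fin m ⊕ Fin m → F | (∀ i : Fin m, (k : ℕ) < (i : ℕ) → v (Sum.inl i) = 0)
        ∧ ∀ i : Fin m, v (Sum.inr i) = 0})) : Matrix.symplecticGroup (Fin m) F) :
        Matrix (Fin m ⊕ Fin m) (Fin m ⊕ Fin m) F)
      = Matrix.fromBlocks (utMat p.1 p.2) (utMat p.1 p.2 * symMat p.2) 0
        ((utMat p.1 p.2)⁻¹).transpose := fun p => rfl
  have hinj : Function.Injective Ψ := by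
    rintro ⟨d, N⟩ ⟨d', N'⟩ h
    have h1 := congrArg (fun x : ↥(⨅ k : Fin m, Cfsg.stabilizing (Cfsg.spToMat m F)
      {v : Fin m ⊕ Fin m → F | (∀ i : Fin m, (k : ℕ) < (i : ℕ) → v (Sum.inl i) = 0)
        ∧ ∀ i : Fin m, v (Sum.inr i) = 0}) => ((x : Matrix.symplecticGroup (Fin m) F) :
        Matrix (Fin m ⊕ Fin m) (Fin m ⊕ Fin m) F)) h
    simp only [hΨval] at h1
    rw [Matrix.fromBlocks_inj] at h1
    obtain ⟨hA, hB, -, -⟩ := h1
    have hS : symMat N = symMat N' := by
      have h2 : (utMat d N)⁻¹ * (utMat d N * symMat N)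
          = (utMat d N)⁻¹ * (utMat d' N' * symMat N') := by rw [hB]
      rw [← hA, ← Matrix.mul_assoc, ← Matrix.mul_assoc,
        Matrix.nonsing_inv_mul _ (utMat_isUnit_det d N), Matrix.one_mul, Matrix.one_mul] at h2
      exact h2
    have hd : d = d' := by
      funext i
      apply Units.ext
      have h2 := congrFun (congrFun hA i) i
      unfold utMat at h2
      rw [if_pos rfl, if_pos rfl] at h2
      exact h2
    have hN : N = N' := by
      ext i j
      by_cases hij : (i : ℕ) < (j : ℕ)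
      · have h2 := congrFun (congrFun hA i) j
        unfold utMat at h2
        have hne : i ≠ j := by
          rintro rfl
          omega
        rw [if_neg hne, if_neg hne, if_pos hij, if_pos hij] at h2
        exact h2
      · have h2 := congrFun (congrFun hS i) j
        unfold symMat at h2
        rw [if_pos (by omega), if_pos (by omega)] at h2
        exact h2
    rw [hd, hN]
  have hsurj : Function.Surjective Ψ := by
    intro g
    obtain ⟨h21, h11⟩ := (sp_borel_iff m g.1).1 g.2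
    obtain ⟨A, hA⟩ : ∃ A : Matrix (Fin m) (Fin m) F, A
        = ((g : Matrix.symplecticGroup (Fin m) F) :
          Matrix (Fin m ⊕ Fin m) (Fin m ⊕ Fin m) F).toBlocks₁₁ := ⟨_, rfl⟩
    obtain ⟨B, hB⟩ : ∃ B : Matrix (Fin m) (Fin m) F, B
        = ((g : Matrix.symplecticGroup (Fin m) F) :
          Matrix (Fin m ⊕ Fin m) (Fin m ⊕ Fin m) F).toBlocks₁₂ := ⟨_, rfl⟩
    obtain ⟨D, hD⟩ : ∃ D : Matrix (Fin m) (Fin m) F, D
        = ((g : Matrix.symplecticGroup (Fin m) F) :
          Matrix (Fin m ⊕ Fin m) (Fin m ⊕ Fin m) F).toBlocks₂₂ := ⟨_, rfl⟩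
    have hC : ((g : Matrix.symplecticGroup (Fin m) F) :
          Matrix (Fin m ⊕ Fin m) (Fin m ⊕ Fin m) F).toBlocks₂₁ = 0 := by
      ext i j
      exact h21 i j
    have hg : ((g : Matrix.symplecticGroup (Fin m) F) :
        Matrix (Fin m ⊕ Fin m) (Fin m ⊕ Fin m) F) = Matrix.fromBlocks A B 0 D := by
      rw [hA, hB, hD, ← hC, Matrix.fromBlocks_toBlocks]
    have hsp : Matrix.fromBlocks A B 0 D ∈ Matrix.symplecticGroup (Fin m) F := by
      rw [← hg]
      exact g.1.2
    obtain ⟨hAD, hDB⟩ := (sp_block_iff m A B D).1 hsp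
    have hAut : ∀ i j : Fin m, (j : ℕ) < (i : ℕ) → A i j = 0 := by
      intro i j hij
      rw [hA]
      exact h11 i j hij
    have hAtri : A.BlockTriangular id := fun i j hij => hAut i j hij
    have hdetA : IsUnit A.det := by
      have h1 : IsUnit A.transpose.det :=
        (Matrix.isUnit_iff_isUnit_det _).1 (IsUnit.of_mul_eq_one _ hAD)
      rw [Matrix.det_transpose] at h1
      exact h1
    have hdiag : ∀ i, A i i ≠ 0 := by
      have h1 := hdetA.ne_zero
      rw [Matrix.det_of_upperTriangular hAtri, Finset.prod_ne_zero_iff] at h1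
      exact fun i => h1 i (Finset.mem_univ i)
    obtain ⟨S, hS⟩ : ∃ S : Matrix (Fin m) (Fin m) F, S = D.transpose * B := ⟨_, rfl⟩
    have hSsym : S.transpose = S := by
      rw [hS, Matrix.transpose_mul, Matrix.transpose_transpose, hDB]
    have hADt : A * D.transpose = 1 := by
      have h1 : D.transpose * A = 1 := by
        rw [← Matrix.transpose_one, ← hAD, Matrix.transpose_mul, Matrix.transpose_transpose]
      exact mul_eq_one_comm.1 h1
    have hDinv : D = (A⁻¹).transpose := by
      rw [Matrix.inv_eq_right_inv hADt, Matrix.transpose_transpose]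
    have hBAS : B = A * S := by
      rw [hS, ← Matrix.mul_assoc, hADt, Matrix.one_mul]
    obtain ⟨d, hd⟩ : ∃ d : Fin m → Fˣ, ∀ i, (d i : F) = A i i :=
      ⟨fun i => Units.mk0 (A i i) (hdiag i), fun i => rfl⟩
    obtain ⟨N, hN⟩ : ∃ N : Matrix (Fin m) (Fin m) F,
        ∀ i j, N i j = if (i : ℕ) < (j : ℕ) then A i j else S i j :=
      ⟨fun i j => if (i : ℕ) < (j : ℕ) then A i j else S i j, fun i j => rfl⟩
    refine ⟨(d, N), ?_⟩
    have hut : utMat d N = A := by
      ext i j
      unfold utMat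
      by_cases hij : i = j
      · rw [if_pos hij, hij, hd]
      · rw [if_neg hij]
        by_cases hlt : (i : ℕ) < (j : ℕ)
        · rw [if_pos hlt, hN, if_pos hlt]
        · rw [if_neg hlt]
          have : (j : ℕ) < (i : ℕ) := by
            have := fun h => hij (Fin.ext h)
            omega
          rw [hAut i j this]
    have hsym : symMat N = S := by
      ext i j
      unfold symMat
      by_cases hji : (j : ℕ) ≤ (i : ℕ)
      · rw [if_pos hji, hN, if_neg (by omega)]
      · rw [if_neg hji, hN, if_neg (by omega)]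
        have h1 := congrFun (congrFun hSsym i) j
        exact h1
    apply Subtype.ext
    apply Subtype.ext
    rw [hΨval, hg]
    show Matrix.fromBlocks (utMat d N) (utMat d N * symMat N) 0 ((utMat d N)⁻¹).transpose
      = Matrix.fromBlocks A B 0 D
    rw [hut, hsym, ← hBAS, ← hDinv]
  rw [← Nat.card_eq_of_bijective Ψ ⟨hinj, hsurj⟩, Nat.card_prod]
  have h1 : Nat.card (Fin m → Fˣ) = (q - 1) ^ m := by
    rw [Nat.card_fun, Nat.card_fin, Nat.card_eq_fintype_card, Fintype.card_units, hF]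
  have h2 : Nat.card (Matrix (Fin m) (Fin m) F) = q ^ (m ^ 2) := by
    have h3 : Nat.card (Matrix (Fin m) (Fin m) F) = Nat.card (Fin m × Fin m → F) :=
      Nat.card_congr (Equiv.curry (Fin m) (Fin m) F).symm
    rw [h3, Nat.card_eq_fintype_card, Fintype.card_fun, Fintype.card_prod, Fintype.card_fin, hF,
      pow_two]
  rw [h1, h2, mul_comm]

end Cfsg.Agent.Helper15
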