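import Mathlib
import Cfsg.Agent.Helper15.HermFrames
import Cfsg.Agent.Helper15.SUParabArith
import Cfsg.Agent.Helper15.SUCard
import Cfsg.Agent.Helper15.SUTransv
import Cfsg.Agent.Helper15.SpBorel

set_option autoImplicit false

namespace Cfsg.Agent.Helper15

open scoped MatrixGroups

theorem gl_mulVec_injective {K : Type*} [Field K] {n : ℕ} (g : GL (Fin n) K) :
    Function.Injective (g : Matrix (Fin n) (Fin n) K).mulVec := by
  intro x y hxy
  have h1 : ∀ z, ((g⁻¹ : GL (Fin n) K) : Matrix (Fin n) (Fin n) K).mulVec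
      ((g : Matrix (Fin n) (Fin n) K).mulVec z) = z := by
    intro z
    rw [Matrix.mulVec_mulVec, ← Units.val_mul, inv_mul_cancel, Units.val_one, Matrix.one_mulVec]
  rw [← h1 x, ← h1 y, hxy]

/-- The order of the stabiliser in `GU_n(q)` of a totally isotropic subspace. -/
theorem card_gu_stab_ti {K : Type*} [Field K] [Fintype K] {q : ℕ}
    (hK : Fintype.card K = q ^ 2) (n k : ℕ) (hk : 2 * k ≤ n) (W : Submodule K (Fin n → K))
    (hWk : Module.finrank K W = k)
    (hW : ∀ u ∈ W, ∀ v ∈ W, Cfsg.hermForm n K q u v = 0) :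
    Nat.card ↥((Cfsg.stabilizing (Units.coeHom (Matrix (Fin n) (Fin n) K))
        (W : Set (Fin n → K))).subgroupOf (Cfsg.GU n K q))
      = q ^ (k * (2 * n - 3 * k)) * (∏ i : Fin k, ((q ^ 2) ^ k - (q ^ 2) ^ (i : ℕ)))
        * (q ^ ((n - 2 * k) * ((n - 2 * k) - 1) / 2)
          * ∏ i ∈ Finset.range (n - 2 * k),
              (if Even i then q ^ (i + 1) + 1 else q ^ (i + 1) - 1)) := by
  classical
  have hq := two_le_of_card_sq hK
  have hh := hermForm_isHerm hK n
  obtain ⟨bW⟩ : Nonempty (Module.Basis (Fin k) K W) := ⟨Module.finBasisOfFinrankEq K W hWk⟩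
  obtain ⟨b0, hb0⟩ : ∃ b0 : Fin k → (Fin n → K), ∀ i, b0 i = (bW i : Fin n → K) :=
    ⟨fun i => (bW i : Fin n → K), fun i => rfl⟩
  have hb0W : ∀ i, b0 i ∈ W := by
    intro i
    rw [hb0]
    exact (bW i).2
  have hb0li : LinearIndependent K b0 := by
    have h1 := bW.linearIndependent.map' W.subtype (Submodule.ker_subtype W)
    have h2 : b0 = W.subtype ∘ bW := funext hb0
    rw [h2]
    exact h1
  have hb0iso : ∀ i j, Cfsg.hermForm n K q (b0 i) (b0 j) = 0 := fun i j =>
    hW _ (hb0W i) _ (hb0W j)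
  have hspan : Submodule.span K (Set.range b0) = W := by
    apply Submodule.eq_of_le_of_finrank_eq
    · rw [Submodule.span_le]
      rintro _ ⟨i, rfl⟩
      exact hb0W i
    · rw [finrank_span_eq_card hb0li, Fintype.card_fin, hWk]
  have hstab : ∀ g : ↥(Cfsg.GU n K q),
      (∀ i, ((g : GL (Fin n) K) : Matrix (Fin n) (Fin n) K).mulVec (b0 i) ∈ W) →
      g ∈ (Cfsg.stabilizing (Units.coeHom (Matrix (Fin n) (Fin n) K))
        (W : Set (Fin n → K))).subgroupOf (Cfsg.GU n K q) := by
    intro g hg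
    rw [Subgroup.mem_subgroupOf]
    intro v
    apply stab_of_maps _ (gl_mulVec_injective g.1)
    intro v hv
    have h1 : Submodule.span K (Set.range b0)
        ≤ W.comap (Matrix.mulVecLin ((g : GL (Fin n) K) : Matrix (Fin n) (Fin n) K)) := by
      rw [Submodule.span_le]
      rintro _ ⟨i, rfl⟩
      exact hg i
    rw [hspan] at h1
    exact h1 hv
  have hliG : ∀ g : ↥(Cfsg.GU n K q), LinearIndependent K (g • b0) := by
    intro g
    have h1 := hb0li.map' (Matrix.mulVecLin ((g : GL (Fin n) K) : Matrix (Fin n) (Fin n) K))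
      (LinearMap.ker_eq_bot.2 (gl_mulVec_injective g.1))
    exact h1
  have horbG : MulAction.orbit ↥(Cfsg.GU n K q) b0
      = {b : Fin k → (Fin n → K) | LinearIndependent K b
        ∧ ∀ i j, Cfsg.hermForm n K q (b i) (b j) = 0} := by
    ext b
    rw [MulAction.mem_orbit_iff]
    constructor
    · rintro ⟨g, rfl⟩
      refine ⟨hliG g, ?_⟩
      intro i j
      show Cfsg.hermForm n K q (((g : GL (Fin n) K) : Matrix (Fin n) (Fin n) K).mulVec (b0 i))
        (((g : GL (Fin n) K) : Matrix (Fin n) (Fin n) K).mulVec (b0 j)) = 0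
      rw [(mem_GU_iff n q g.1).1 g.2]
      exact hb0iso i j
    · rintro ⟨hli, hiso⟩
      obtain ⟨M, hM, hMv⟩ := gu_frame_transitive hK n k b0 b hb0li hli hb0iso hiso
      exact ⟨⟨M, hM⟩, funext hMv⟩
  have hG := Subgroup.card_mul_index (MulAction.stabilizer ↥(Cfsg.GU n K q) b0)
  rw [MulAction.index_stabilizer, horbG, ← Nat.card_coe_set_eq, card_GU hK n] at hG
  have hc0 : ∀ m, hcnt K q m 0 - 1
      = (if Even m then (q ^ m - 1) * (q ^ (m - 1) + 1) else (q ^ m + 1) * (q ^ (m - 1) - 1)) := by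
    intro m
    rw [← herm_card_eq_hcnt, herm_isotropic_card hK m, Nat.add_sub_cancel]
  have hfr : Nat.card ↥{b : Fin k → (Fin n → K) | LinearIndependent K b
        ∧ ∀ i j, Cfsg.hermForm n K q (b i) (b j) = 0}
      = ∏ i : Fin k, q ^ (2 * (i : ℕ)) *
        (if Even (n - 2 * (i : ℕ)) then (q ^ (n - 2 * (i : ℕ)) - 1) * (q ^ (n - 2 * (i : ℕ) - 1) + 1)
          else (q ^ (n - 2 * (i : ℕ)) + 1) * (q ^ (n - 2 * (i : ℕ) - 1) - 1)) := by
    have h1 := herm_iso_frames_card hK hh (Module.finrank_fin_fun K) k hk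
    rw [Finset.prod_congr rfl (fun i _ => by rw [hc0])] at h1
    exact h1
  have hXpos : 0 < Nat.card ↥{b : Fin k → (Fin n → K) | LinearIndependent K b
        ∧ ∀ i j, Cfsg.hermForm n K q (b i) (b j) = 0} := by
    haveI : Nonempty ↥{b : Fin k → (Fin n → K) | LinearIndependent K b
        ∧ ∀ i j, Cfsg.hermForm n K q (b i) (b j) = 0} := ⟨⟨b0, hb0li, hb0iso⟩⟩
    exact Nat.card_pos
  have horbH : MulAction.orbit
      ↥((Cfsg.stabilizing (Units.coeHom (Matrix (Fin n) (Fin n) K))
        (W : Set (Fin n → K))).subgroupOf (Cfsg.GU n K q)) b0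
      = {b : Fin k → (Fin n → K) | LinearIndependent K b ∧ ∀ i, b i ∈ W} := by
    ext b
    rw [MulAction.mem_orbit_iff]
    constructor
    · rintro ⟨x, rfl⟩
      refine ⟨hliG x.1, ?_⟩
      intro i
      exact ((Subgroup.mem_subgroupOf.1 x.2) (b0 i)).1 (hb0W i)
    · rintro ⟨hli, hbW⟩
      obtain ⟨M, hM, hMv⟩ := gu_frame_transitive hK n k b0 b hb0li hli hb0iso
        (fun i j => hW _ (hbW i) _ (hbW j))
      refine ⟨⟨⟨M, hM⟩, hstab ⟨M, hM⟩ (fun i => by rw [hMv i]; exact hbW i)⟩, funext hMv⟩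
  have hH := Subgroup.card_mul_index (MulAction.stabilizer
    ↥((Cfsg.stabilizing (Units.coeHom (Matrix (Fin n) (Fin n) K))
        (W : Set (Fin n → K))).subgroupOf (Cfsg.GU n K q)) b0)
  rw [MulAction.index_stabilizer, horbH, ← Nat.card_coe_set_eq] at hH
  have hbases : Nat.card ↥{b : Fin k → (Fin n → K) | LinearIndependent K b
      ∧ ∀ i, b i ∈ W} = ∏ i : Fin k, ((q ^ 2) ^ k - (q ^ 2) ^ (i : ℕ)) := by
    haveI : Finite W := Module.finite_of_finite K
    have h1 : Nat.card ↥{b : Fin k → (Fin n → K) | LinearIndependent K b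
        ∧ ∀ i, b i ∈ W} = Nat.card {s : Fin k → W // LinearIndependent K s} :=
      Nat.card_congr
        { toFun := fun b => ⟨fun i => ⟨b.1 i, b.2.2 i⟩,
            LinearIndependent.of_comp W.subtype (by
              have h2 : (W.subtype ∘ fun i => (⟨b.1 i, b.2.2 i⟩ : W)) = b.1 := rfl
              rw [h2]
              exact b.2.1)⟩
          invFun := fun s => ⟨fun i => (s.1 i : Fin n → K),
            s.2.map' W.subtype (Submodule.ker_subtype W), fun i => (s.1 i).2⟩
          left_inv := fun b => rfl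
          right_inv := fun s => rfl }
    rw [h1, card_linearIndependent (by rw [hWk]), hWk, hK]
  rw [hbases] at hH
  have hstabs : Nat.card (MulAction.stabilizer
      ↥((Cfsg.stabilizing (Units.coeHom (Matrix (Fin n) (Fin n) K))
        (W : Set (Fin n → K))).subgroupOf (Cfsg.GU n K q)) b0)
      = Nat.card (MulAction.stabilizer ↥(Cfsg.GU n K q) b0) :=
    Nat.card_congr
      { toFun := fun x => ⟨x.1.1, x.2⟩
        invFun := fun y => ⟨⟨y.1, hstab y.1 (fun i => by
          have h1 : y.1 • b0 = b0 := y.2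
          have h2 : ((y.1 : GL (Fin n) K) : Matrix (Fin n) (Fin n) K).mulVec (b0 i) = b0 i :=
            congrFun h1 i
          rw [h2]
          exact hb0W i)⟩, y.2⟩
        left_inv := fun x => rfl
        right_inv := fun y => rfl }
  rw [hstabs] at hH
  have harith := su_parab_arith q n k hk
  have hc : Nat.card (MulAction.stabilizer ↥(Cfsg.GU n K q) b0)
      = q ^ (k * (2 * n - 3 * k)) * (q ^ ((n - 2 * k) * ((n - 2 * k) - 1) / 2)
          * ∏ i ∈ Finset.range (n - 2 * k),
              (if Even i then q ^ (i + 1) + 1 else q ^ (i + 1) - 1)) := by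
    apply Nat.eq_of_mul_eq_mul_left hXpos
    rw [hfr, harith, ← hG, hfr, mul_comm]
  rw [← hH, hc]
  ring

end Cfsg.Agent.Helper15
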