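import Mathlib
import Cfsg.Agent.Helper15.SUAct
import Cfsg.Agent.Helper15.SUParab

set_option autoImplicit false

namespace Cfsg.Agent.Helper15

open scoped MatrixGroups

/-- The action of an invertible matrix on vectors. -/
def glAct {K : Type*} [Field K] {n : ℕ} (g : GL (Fin n) K) (x : Fin n → K) : Fin n → K :=
  (g : Matrix (Fin n) (Fin n) K).mulVec x

theorem glAct_def {K : Type*} [Field K] {n : ℕ} (g : GL (Fin n) K) (x : Fin n → K) :
    glAct g x = (g : Matrix (Fin n) (Fin n) K).mulVec x := rfl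

theorem glAct_mul {K : Type*} [Field K] {n : ℕ} (g g' : GL (Fin n) K) (x : Fin n → K) :
    glAct (g * g') x = glAct g (glAct g' x) := by
  unfold glAct
  rw [Units.val_mul, Matrix.mulVec_mulVec]

theorem glAct_one {K : Type*} [Field K] {n : ℕ} (x : Fin n → K) :
    glAct (1 : GL (Fin n) K) x = x := by
  unfold glAct
  rw [Units.val_one, Matrix.one_mulVec]

theorem glAct_inv_left {K : Type*} [Field K] {n : ℕ} (g : GL (Fin n) K) (x : Fin n → K) :
    glAct g⁻¹ (glAct g x) = x := by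
  rw [← glAct_mul, inv_mul_cancel, glAct_one]

theorem glAct_inv_right {K : Type*} [Field K] {n : ℕ} (g : GL (Fin n) K) (x : Fin n → K) :
    glAct g (glAct g⁻¹ x) = x := by
  rw [← glAct_mul, mul_inv_cancel, glAct_one]

theorem glAct_add {K : Type*} [Field K] {n : ℕ} (g : GL (Fin n) K) (x y : Fin n → K) :
    glAct g (x + y) = glAct g x + glAct g y := by
  unfold glAct
  rw [Matrix.mulVec_add]

theorem glAct_sub {K : Type*} [Field K] {n : ℕ} (g : GL (Fin n) K) (x y : Fin n → K) :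
    glAct g (x - y) = glAct g x - glAct g y := by
  unfold glAct
  rw [Matrix.mulVec_sub]

theorem glAct_smul {K : Type*} [Field K] {n : ℕ} (g : GL (Fin n) K) (c : K)
    (x : Fin n → K) : glAct g (c • x) = c • glAct g x := by
  unfold glAct
  rw [Matrix.mulVec_smul]

theorem glAct_zero {K : Type*} [Field K] {n : ℕ} (g : GL (Fin n) K) :
    glAct g (0 : Fin n → K) = 0 := by
  unfold glAct
  rw [Matrix.mulVec_zero]

theorem glAct_pres {K : Type*} [Field K] {n q : ℕ} (g : GL (Fin n) K)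
    (hg : g ∈ Cfsg.GU n K q) (x y : Fin n → K) :
    Cfsg.hermForm n K q (glAct g x) (glAct g y) = Cfsg.hermForm n K q x y :=
  (mem_GU_iff n q g).1 hg x y

theorem glAct_pres_inv {K : Type*} [Field K] {n q : ℕ} (g : GL (Fin n) K)
    (hg : g ∈ Cfsg.GU n K q) (x y : Fin n → K) :
    Cfsg.hermForm n K q (glAct g⁻¹ x) y = Cfsg.hermForm n K q x (glAct g y) := by
  rw [← glAct_pres g hg, glAct_inv_right]

theorem glAct_ne_zero {K : Type*} [Field K] {n : ℕ} (g : GL (Fin n) K) (x : Fin n → K)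
    (hx : x ≠ 0) : glAct g x ≠ 0 := by
  intro h
  apply hx
  rw [← glAct_inv_left g x, h, glAct_zero]

theorem mat_ext_mulVec {K : Type*} [Field K] {n : ℕ} (M N : Matrix (Fin n) (Fin n) K)
    (h : ∀ x, M.mulVec x = N.mulVec x) : M = N := by
  classical
  ext i j
  have h3 := congrFun (h (Pi.single j 1)) i
  rw [Matrix.mulVec_single_one, Matrix.mulVec_single_one] at h3
  exact h3

theorem gl_ext {K : Type*} [Field K] {n : ℕ} (g g' : GL (Fin n) K)
    (h : ∀ x, glAct g x = glAct g' x) : g = g' :=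
  Units.ext (mat_ext_mulVec _ _ h)

/-- The subgroup of `GL_n` generated by the unitary transvections. -/
def suTr (n : ℕ) (K : Type*) [Field K] (q : ℕ) : Subgroup (GL (Fin n) K) :=
  Subgroup.closure {g | g ∈ Cfsg.GU n K q ∧ ∃ (v : Fin n → K) (c : K),
    Cfsg.hermForm n K q v v = 0
      ∧ (g : Matrix (Fin n) (Fin n) K) = Cfsg.unitaryTransvection n q v c}

theorem suTr_le_GU (n : ℕ) (K : Type*) [Field K] (q : ℕ) : suTr n K q ≤ Cfsg.GU n K q := by
  unfold suTr
  rw [Subgroup.closure_le]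
  intro g hg
  exact hg.1

theorem suTr_transv {K : Type*} [Field K] [Fintype K] {q : ℕ} (hK : Fintype.card K = q ^ 2)
    (n : ℕ) (a : K) (ha : a ^ q = -a) (v : Fin n → K) (hv : Cfsg.hermForm n K q v v = 0) :
    ∃ t : GL (Fin n) K, t ∈ suTr n K q
      ∧ ∀ x, glAct t x = x + (a * Cfsg.hermForm n K q x v) • v := by
  obtain ⟨T, hT, hTx⟩ := su_transv_exists hK n a ha v hv
  refine ⟨Matrix.SpecialLinearGroup.toGL T.1, ?_, hTx⟩
  apply Subgroup.subset_closure
  exact ⟨(mem_GU_iff n q _).2 ((mem_SU_iff n q T.1).1 T.2), v, a, hv, hT⟩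

theorem suTr_conj {K : Type*} [Field K] {n q : ℕ} (g : GL (Fin n) K)
    (hg : g ∈ Cfsg.GU n K q) (t : GL (Fin n) K) (ht : t ∈ suTr n K q) :
    g * t * g⁻¹ ∈ suTr n K q := by
  unfold suTr at ht
  refine Subgroup.closure_induction (p := fun t _ => g * t * g⁻¹ ∈ suTr n K q) ?_ ?_ ?_ ?_ ht
  · rintro t ⟨htG, v, c, hv, htm⟩
    apply Subgroup.subset_closure
    refine ⟨(Cfsg.GU n K q).mul_mem ((Cfsg.GU n K q).mul_mem hg htG)
      ((Cfsg.GU n K q).inv_mem hg), glAct g v, c, ?_, ?_⟩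
    · rw [glAct_pres g hg]
      exact hv
    · apply mat_ext_mulVec
      intro x
      have h1 : (g * t * g⁻¹ : GL (Fin n) K).val.mulVec x = glAct (g * t * g⁻¹) x := rfl
      have h2 : glAct t (glAct g⁻¹ x)
          = glAct g⁻¹ x + (c * Cfsg.hermForm n K q (glAct g⁻¹ x) v) • v := by
        unfold glAct
        rw [htm, utransv_mulVec]
      rw [h1, utransv_mulVec, glAct_mul, glAct_mul, h2, glAct_add, glAct_inv_right, glAct_smul,
        glAct_pres_inv g hg]
  · rw [mul_one, mul_inv_cancel]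
    exact Subgroup.one_mem _
  · intro x y _ _ hx hy
    have h1 : g * (x * y) * g⁻¹ = (g * x * g⁻¹) * (g * y * g⁻¹) := by group
    rw [h1]
    exact Subgroup.mul_mem _ hx hy
  · intro x _ hx
    have h1 : g * x⁻¹ * g⁻¹ = (g * x * g⁻¹)⁻¹ := by group
    rw [h1]
    exact Subgroup.inv_mem _ hx

theorem suTr_siegel {K : Type*} [Field K] [Fintype K] {q : ℕ}
    (hK : Fintype.card K = q ^ 2) (n : ℕ) (v z : Fin n → K)
    (hvv : Cfsg.hermForm n K q v v = 0) (hzz : Cfsg.hermForm n K q z z = 0)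
    (hvz : Cfsg.hermForm n K q v z = 0) (a : K) :
    ∃ E : GL (Fin n) K, E ∈ suTr n K q ∧ ∀ x, glAct E x
      = x + (a * Cfsg.hermForm n K q x z) • v - (a ^ q * Cfsg.hermForm n K q x v) • z := by
  have hh := hermForm_isHerm hK n
  have hq := two_le_of_card_sq hK
  obtain ⟨φ, hφ⟩ := exists_frob hK
  have hzv : Cfsg.hermForm n K q z v = 0 := by
    rw [hh.conj v z, hvz, zero_pow (by omega)]
  obtain ⟨κ, hκ0, hκ⟩ := exists_skew hK
  obtain ⟨α, hα⟩ : ∃ α : K, a = κ * α := ⟨a / κ, by field_simp⟩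
  have haq : a ^ q = -κ * α ^ q := by rw [hα, mul_pow, hκ]
  have h1 : Cfsg.hermForm n K q (z + α • v) (z + α • v) = 0 := by
    rw [herm_expand hK hh, hzz, hzv, hvz, hvv]
    ring
  have h2 : (-(κ * α * α ^ q)) ^ q = -(-(κ * α * α ^ q)) := by
    rw [← hφ, map_neg, map_mul, map_mul, hφ, hφ, hφ, pow_card_sq hK, hκ]
    ring
  have h3 : (-κ) ^ q = -(-κ) := by
    rw [← hφ, map_neg, hφ, hκ]
  obtain ⟨T₁, hT₁m, hT₁⟩ := suTr_transv hK n κ hκ (z + α • v) h1
  obtain ⟨T₂, hT₂m, hT₂⟩ := suTr_transv hK n (-(κ * α * α ^ q)) h2 v hvv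
  obtain ⟨T₃, hT₃m, hT₃⟩ := suTr_transv hK n (-κ) h3 z hzz
  refine ⟨T₁ * T₂ * T₃, Subgroup.mul_mem _ (Subgroup.mul_mem _ hT₁m hT₂m) hT₃m, ?_⟩
  intro x
  rw [glAct_mul, glAct_mul, hT₃, hT₂, hT₁, haq, hα]
  have e1 : Cfsg.hermForm n K q (x + (-κ * Cfsg.hermForm n K q x z) • z) v
      = Cfsg.hermForm n K q x v := by
    rw [hh.add_left, hh.smul_left, hzv, mul_zero, add_zero]
  have e2 : Cfsg.hermForm n K q (x + (-κ * Cfsg.hermForm n K q x z) • z
        + (-(κ * α * α ^ q) * Cfsg.hermForm n K q x v) • v) (z + α • v)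
      = Cfsg.hermForm n K q x z + α ^ q * Cfsg.hermForm n K q x v := by
    rw [hh.add_left, hh.add_left, hh.smul_left, hh.smul_left, hh.add_right hK,
      hh.add_right hK, hh.add_right hK, hh.smul_right, hh.smul_right, hh.smul_right, hzz, hzv,
      hvz, hvv]
    ring
  rw [e1, e2]
  ext i
  simp only [Pi.add_apply, Pi.sub_apply, Pi.smul_apply, smul_eq_mul]
  ring

/-- Transfer: elements of `SU_n` whose matrix lies in `suTr` lie in the closure of the
transvections of `SU_n`. -/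
theorem suTr_transfer {K : Type*} [Field K] [Fintype K] {q : ℕ} (hK : Fintype.card K = q ^ 2)
    (n : ℕ) (A : ↥(Cfsg.SU n K q))
    (hA : Matrix.SpecialLinearGroup.toGL (A : Matrix.SpecialLinearGroup (Fin n) K) ∈ suTr n K q) :
    A ∈ Subgroup.closure {A : ↥(Cfsg.SU n K q) | ∃ (v : Fin n → K) (c : K),
      Cfsg.hermForm n K q v v = 0
        ∧ ((A : Matrix.SpecialLinearGroup (Fin n) K) : Matrix (Fin n) (Fin n) K)
          = Cfsg.unitaryTransvection n q v c} := by
  classical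
  have key : ∀ g : GL (Fin n) K, g ∈ suTr n K q →
      ∃ B : ↥(Cfsg.SU n K q), B ∈ Subgroup.closure {A : ↥(Cfsg.SU n K q) |
        ∃ (v : Fin n → K) (c : K), Cfsg.hermForm n K q v v = 0
        ∧ ((A : Matrix.SpecialLinearGroup (Fin n) K) : Matrix (Fin n) (Fin n) K)
          = Cfsg.unitaryTransvection n q v c}
        ∧ Matrix.SpecialLinearGroup.toGL (B : Matrix.SpecialLinearGroup (Fin n) K) = g := by
    intro g hg
    unfold suTr at hg
    refine Subgroup.closure_induction (p := fun g _ => ∃ B : ↥(Cfsg.SU n K q),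
      B ∈ Subgroup.closure {A : ↥(Cfsg.SU n K q) |
        ∃ (v : Fin n → K) (c : K), Cfsg.hermForm n K q v v = 0
        ∧ ((A : Matrix.SpecialLinearGroup (Fin n) K) : Matrix (Fin n) (Fin n) K)
          = Cfsg.unitaryTransvection n q v c}
        ∧ Matrix.SpecialLinearGroup.toGL (B : Matrix.SpecialLinearGroup (Fin n) K) = g)
      ?_ ?_ ?_ ?_ hg
    · rintro t ⟨htG, v, c, hv, htm⟩
      have hdet : (t : Matrix (Fin n) (Fin n) K).det = 1 := by
        rw [htm]
        unfold Cfsg.unitaryTransvection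
        have hdot : (fun k => v k ^ q) ⬝ᵥ v = Cfsg.hermForm n K q v v := by
          unfold Cfsg.hermForm
          exact Finset.sum_congr rfl (fun k _ => mul_comm _ _)
        rw [← Matrix.smul_vecMulVec, Matrix.vecMulVec_eq (Fin 1),
          Matrix.det_one_add_replicateCol_mul_replicateRow, dotProduct_smul, hdot, hv, smul_zero,
          add_zero]
      refine ⟨⟨⟨(t : Matrix (Fin n) (Fin n) K), hdet⟩,
        (mem_SU_iff n q _).2 ((mem_GU_iff n q _).1 htG)⟩, ?_, ?_⟩
      · apply Subgroup.subset_closure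
        exact ⟨v, c, hv, htm⟩
      · exact Units.ext rfl
    · exact ⟨1, Subgroup.one_mem _, by simp⟩
    · rintro x y _ _ ⟨B₁, hB₁, rfl⟩ ⟨B₂, hB₂, rfl⟩
      exact ⟨B₁ * B₂, Subgroup.mul_mem _ hB₁ hB₂, by simp⟩
    · rintro x _ ⟨B, hB, rfl⟩
      exact ⟨B⁻¹, Subgroup.inv_mem _ hB, by simp⟩
  obtain ⟨B, hB, hBA⟩ := key _ hA
  have hBA' : B = A := by
    apply Subtype.ext
    apply Subtype.ext
    have := congrArg (fun g : GL (Fin n) K => (g : Matrix (Fin n) (Fin n) K)) hBA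
    exact this
  rw [← hBA']
  exact hB

end Cfsg.Agent.Helper15
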