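import Mathlib
import Cfsg.Agent.Helper15.SUGen1
import Cfsg.Agent.Helper15.SUCenter

set_option autoImplicit false

namespace Cfsg.Agent.Helper15

open scoped MatrixGroups

theorem utransv_det {K : Type*} [Field K] (n q : ℕ) (v : Fin n → K) (c : K)
    (hv : Cfsg.hermForm n K q v v = 0) : (Cfsg.unitaryTransvection n q v c).det = 1 := by
  unfold Cfsg.unitaryTransvection
  have hdot : (fun k => v k ^ q) ⬝ᵥ v = Cfsg.hermForm n K q v v := by
    unfold Cfsg.hermForm
    exact Finset.sum_congr rfl (fun k _ => mul_comm _ _)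
  rw [← Matrix.smul_vecMulVec, Matrix.vecMulVec_eq (Fin 1),
    Matrix.det_one_add_replicateCol_mul_replicateRow, dotProduct_smul, hdot, hv, smul_zero,
    add_zero]

theorem suTr_det {K : Type*} [Field K] {n q : ℕ} (t : GL (Fin n) K) (ht : t ∈ suTr n K q) :
    (t : Matrix (Fin n) (Fin n) K).det = 1 := by
  unfold suTr at ht
  refine Subgroup.closure_induction
    (p := fun (t : GL (Fin n) K) _ => t.val.det = 1) ?_ ?_ ?_ ?_ ht
  · rintro t ⟨-, v, c, hv, htm⟩
    rw [htm]
    exact utransv_det n q v c hv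
  · rw [Units.val_one, Matrix.det_one]
  · intro x y _ _ hx hy
    rw [Units.val_mul, Matrix.det_mul, hx, hy, mul_one]
  · intro x _ hx
    have h1 : (x⁻¹ : GL (Fin n) K).val.det * (x : Matrix (Fin n) (Fin n) K).det = 1 := by
      rw [← Matrix.det_mul, ← Units.val_mul, inv_mul_cancel, Units.val_one, Matrix.det_one]
    rw [hx, mul_one] at h1
    exact h1

theorem IsHerm.sub_left {K : Type*} [Field K] {q : ℕ} {V : Type*} [AddCommGroup V]
    [Module K V] {h : V → V → K} (hh : IsHerm q h) (u u' v : V) :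
    h (u - u') v = h u v - h u' v := by
  have h1 := hh.add_left (u - u') u' v
  rw [sub_add_cancel] at h1
  rw [h1]
  ring

theorem IsHerm.sub_right {K : Type*} [Field K] [Fintype K] {q : ℕ}
    (hK : Fintype.card K = q ^ 2) {V : Type*} [AddCommGroup V]
    [Module K V] {h : V → V → K} (hh : IsHerm q h) (u v v' : V) :
    h u (v - v') = h u v - h u v' := by
  have h1 := hh.add_right hK u (v - v') v'
  rw [sub_add_cancel] at h1
  rw [h1]
  ring

theorem herm2 {K : Type*} [Field K] (q : ℕ) (x y : Fin 2 → K) :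
    Cfsg.hermForm 2 K q x y = x 0 * y 0 ^ q + x 1 * y 1 ^ q := by
  unfold Cfsg.hermForm
  rw [Fin.sum_univ_two]

/-- `SU_2(q)` is generated by unitary transvections. -/
theorem suTr_two {K : Type*} [Field K] [Fintype K] {q : ℕ} (hK : Fintype.card K = q ^ 2)
    (g : GL (Fin 2) K) (hg : g ∈ Cfsg.GU 2 K q)
    (hdet : (g : Matrix (Fin 2) (Fin 2) K).det = 1) : g ∈ suTr 2 K q := by
  classical
  have hh := hermForm_isHerm hK 2
  have hq := two_le_of_card_sq hK
  obtain ⟨φ, hφ⟩ := exists_frob hK
  obtain ⟨μ, hμ0, hμ⟩ := exists_norm_neg_one hK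
  obtain ⟨l, hl1, hl2⟩ := exists_norm_one_sq_ne hK
  have hlq : 1 - l ^ q ≠ 0 := by
    intro h
    apply hl2
    have h1 : l ^ q = 1 := by linear_combination -h
    rw [pow_succ, h1, one_mul] at hl1
    rw [hl1, one_pow]
  have hl0 : 1 - l ≠ 0 := by
    intro h
    apply hl2
    have h1 : l = 1 := by linear_combination -h
    rw [h1, one_pow]
  have hμq : μ ^ q ≠ 0 := pow_ne_zero _ hμ0
  have hμ' : μ * μ ^ q = -1 := by rw [← pow_succ']; exact hμ
  obtain ⟨u, hu0, hu1⟩ : ∃ u : Fin 2 → K, u 0 = 1 ∧ u 1 = μ := ⟨![1, μ], rfl, rfl⟩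
  obtain ⟨u2, hu20, hu21⟩ : ∃ u2 : Fin 2 → K, u2 0 = 1 ∧ u2 1 = μ * l := ⟨![1, μ * l], rfl, rfl⟩
  have huu : Cfsg.hermForm 2 K q u u = 0 := by
    rw [herm2, hu0, hu1, one_pow, mul_one, hμ']
    ring
  have hu2u2 : Cfsg.hermForm 2 K q u2 u2 = 0 := by
    have e : (μ * l) * (μ * l) ^ q = -1 := by
      rw [← pow_succ', mul_pow, hμ, hl1]
      ring
    rw [herm2, hu20, hu21, one_pow, mul_one, e]
    ring
  have hu2u : Cfsg.hermForm 2 K q u2 u = 1 - l := by
    rw [herm2, hu20, hu21, hu0, hu1, one_pow, mul_one]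
    linear_combination l * hμ'
  have huu2 : Cfsg.hermForm 2 K q u u2 = 1 - l ^ q := by
    rw [herm2, hu20, hu21, hu0, hu1, one_pow, mul_one, mul_pow]
    linear_combination l ^ q * hμ'
  have hu_ne : u ≠ 0 := by
    intro h
    have := congrFun h 0
    rw [hu0] at this
    exact one_ne_zero this
  -- separation
  have factA : ∀ x : Fin 2 → K, Cfsg.hermForm 2 K q x u = 0 → Cfsg.hermForm 2 K q x u2 = 0 →
      x = 0 := by
    intro x h1 h2
    rw [herm2, hu0, hu1, one_pow, mul_one] at h1
    rw [herm2, hu20, hu21, one_pow, mul_one, mul_pow] at h2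
    have h3 : x 1 * (μ ^ q * (1 - l ^ q)) = 0 := by linear_combination h1 - h2
    have h4 : x 1 = 0 := by
      rcases mul_eq_zero.1 h3 with h | h
      · exact h
      · exact absurd h (mul_ne_zero hμq hlq)
    have h5 : x 0 = 0 := by
      rw [h4, zero_mul, add_zero] at h1
      exact h1
    funext i
    fin_cases i
    · exact h5
    · exact h4
  have factB : ∀ x : Fin 2 → K, Cfsg.hermForm 2 K q x u = 0 → x = x 0 • u := by
    intro x h1
    rw [herm2, hu0, hu1, one_pow, mul_one] at h1
    funext i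
    fin_cases i
    · show x 0 = x 0 * u 0
      rw [hu0, mul_one]
    · show x 1 = x 0 * u 1
      rw [hu1]
      linear_combination (-μ) * h1 + x 1 * hμ'
  -- elements of GU fixing u and u2 are trivial
  have hfix : ∀ f : GL (Fin 2) K, f ∈ Cfsg.GU 2 K q → glAct f u = u → glAct f u2 = u2 →
      f = 1 := by
    intro f hf h1 h2
    apply gl_ext
    intro x
    rw [glAct_one]
    have h3 : glAct f x - x = 0 := by
      apply factA
      · rw [hh.sub_left, ← h1, glAct_pres f hf, h1, sub_self]
      · rw [hh.sub_left, ← h2, glAct_pres f hf, h2, sub_self]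
    exact sub_eq_zero.1 h3
  -- stabiliser of u
  have hE2 : ∀ f : GL (Fin 2) K, f ∈ Cfsg.GU 2 K q → glAct f u = u → f ∈ suTr 2 K q := by
    intro f hf h1
    have h2 : Cfsg.hermForm 2 K q (glAct f u2 - u2) u = 0 := by
      rw [hh.sub_left]
      nth_rewrite 1 [← h1]
      rw [glAct_pres f hf, sub_self]
    obtain ⟨c, hc⟩ : ∃ c : K, glAct f u2 = u2 + c • u := by
      refine ⟨(glAct f u2 - u2) 0, ?_⟩
      rw [← factB _ h2]
      abel
    have h3 : Cfsg.hermForm 2 K q (u2 + c • u) (u2 + c • u) = 0 := by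
      rw [← hc, glAct_pres f hf]
      exact hu2u2
    rw [hh.add_left, hh.add_right hK, hh.add_right hK, hh.smul_left, hh.smul_left, hh.smul_right,
      hh.smul_right, hu2u2, huu, hu2u, huu2] at h3
    have ha : (c / (1 - l)) ^ q = -(c / (1 - l)) := by
      have e1 : (1 - l) ^ q = 1 - l ^ q := by
        rw [← hφ (1 - l), map_sub, map_one, hφ]
      rw [div_pow, e1]
      field_simp
      linear_combination h3
    obtain ⟨t, htm, ht⟩ := suTr_transv hK 2 (c / (1 - l)) ha u huu
    have h4 : t⁻¹ * f = 1 := by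
      apply hfix _ (Subgroup.mul_mem _ (Subgroup.inv_mem _ (suTr_le_GU 2 K q htm)) hf)
      · rw [glAct_mul, h1]
        have h5 : glAct t u = u := by
          rw [ht, huu, mul_zero, zero_smul, add_zero]
        nth_rewrite 1 [← h5]
        rw [glAct_inv_left]
      · rw [glAct_mul, hc]
        have h5 : glAct t u2 = u2 + c • u := by
          rw [ht, hu2u]
          congr 2
          field_simp
        rw [← h5, glAct_inv_left]
    have h5 : f = t := by
      have := congrArg (fun z => t * z) h4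
      simp only [mul_inv_cancel_left, mul_one] at this
      exact this
    rw [h5]
    exact htm
  -- the main case
  have key : ∀ f : GL (Fin 2) K, f ∈ Cfsg.GU 2 K q → (f : Matrix (Fin 2) (Fin 2) K).det = 1 →
      Cfsg.hermForm 2 K q (glAct f u) u ≠ 0 → f ∈ suTr 2 K q := by
    intro f hf hfdet hγ
    obtain ⟨γ, hγdef⟩ : ∃ γ : K, γ = Cfsg.hermForm 2 K q (glAct f u) u := ⟨_, rfl⟩
    rw [← hγdef] at hγ
    have hyy : Cfsg.hermForm 2 K q (glAct f u) (glAct f u) = 0 := by
      rw [glAct_pres f hf]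
      exact huu
    have huy : Cfsg.hermForm 2 K q u (glAct f u) = γ ^ q := by
      rw [hγdef]
      exact hh.conj _ _
    have hskew : γ ^ q = -γ := by
      have hCH : (f : Matrix (Fin 2) (Fin 2) K) + Matrix.adjugate (f : Matrix (Fin 2) (Fin 2) K)
          = Matrix.trace (f : Matrix (Fin 2) (Fin 2) K) • (1 : Matrix (Fin 2) (Fin 2) K) := by
        rw [Matrix.adjugate_fin_two, Matrix.trace_fin_two]
        ext i j
        fin_cases i <;> fin_cases j <;> simp <;> ring
      have h1 : (f : Matrix (Fin 2) (Fin 2) K).mulVec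
          ((Matrix.adjugate (f : Matrix (Fin 2) (Fin 2) K)).mulVec u) = u := by
        rw [Matrix.mulVec_mulVec, Matrix.mul_adjugate, hfdet, one_smul, Matrix.one_mulVec]
      have h2 : Cfsg.hermForm 2 K q
          ((Matrix.adjugate (f : Matrix (Fin 2) (Fin 2) K)).mulVec u) u = γ ^ q := by
        rw [← huy]
        have h3 := glAct_pres f hf ((Matrix.adjugate (f : Matrix (Fin 2) (Fin 2) K)).mulVec u) u
        rw [← h3]
        unfold glAct
        rw [h1]
      have h4 : glAct f u + (Matrix.adjugate (f : Matrix (Fin 2) (Fin 2) K)).mulVec u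
          = Matrix.trace (f : Matrix (Fin 2) (Fin 2) K) • u := by
        unfold glAct
        rw [← Matrix.add_mulVec, hCH, Matrix.smul_mulVec, Matrix.one_mulVec]
      have h5 := congrArg (fun z => Cfsg.hermForm 2 K q z u) h4
      rw [hh.add_left, hh.smul_left, huu, mul_zero, h2, ← hγdef] at h5
      linear_combination h5
    have hd : Cfsg.hermForm 2 K q (glAct f u - u) (glAct f u - u) = 0 := by
      rw [hh.sub_left, hh.sub_right hK, hh.sub_right hK, hyy, huu, huy, ← hγdef, hskew]
      ring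
    have ha : (-γ⁻¹) ^ q = -(-γ⁻¹) := by
      rw [neg_pow, inv_pow, hskew]
      rcases Nat.even_or_odd q with he | ho
      · rw [he.neg_one_pow]
        have h2 : (2 : K) = 0 := by
          have h3 : (-1 : K) ^ q = -1 := by
            rw [← hφ, map_neg, map_one]
          rw [he.neg_one_pow] at h3
          linear_combination h3
        field_simp
        linear_combination (-1 : K) * h2
      · rw [ho.neg_one_pow]
        field_simp
    obtain ⟨t, htm, ht⟩ := suTr_transv hK 2 (-γ⁻¹) ha (glAct f u - u) hd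
    have h1 : glAct t u = glAct f u := by
      rw [ht, hh.sub_right hK, huy, huu, hskew]
      have h2 : -γ⁻¹ * (-γ - 0) = 1 := by
        rw [sub_zero, neg_mul_neg, inv_mul_cancel₀ hγ]
      rw [h2, one_smul]
      abel
    have h2 : t⁻¹ * f ∈ suTr 2 K q := by
      apply hE2 _ (Subgroup.mul_mem _ (Subgroup.inv_mem _ (suTr_le_GU 2 K q htm)) hf)
      rw [glAct_mul, ← h1, glAct_inv_left]
    have h3 : f = t * (t⁻¹ * f) := by group
    rw [h3]
    exact Subgroup.mul_mem _ htm h2
  by_cases hγ : Cfsg.hermForm 2 K q (glAct g u) u = 0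
  · obtain ⟨b, hb0, hb⟩ := exists_skew hK
    obtain ⟨t₀, ht₀m, ht₀⟩ := suTr_transv hK 2 b hb u2 hu2u2
    have hy2 : Cfsg.hermForm 2 K q (glAct g u) u2 ≠ 0 := by
      intro h
      exact glAct_ne_zero g u hu_ne (factA _ hγ h)
    have h1 : t₀ * g ∈ suTr 2 K q := by
      apply key _ (Subgroup.mul_mem _ (suTr_le_GU 2 K q ht₀m) hg)
      · rw [Units.val_mul, Matrix.det_mul, suTr_det t₀ ht₀m, hdet, mul_one]
      · rw [glAct_mul, ht₀, hh.add_left, hh.smul_left, hγ, zero_add, hu2u]
        exact mul_ne_zero (mul_ne_zero hb0 hy2) hl0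
    have h2 : g = t₀⁻¹ * (t₀ * g) := by group
    rw [h2]
    exact Subgroup.mul_mem _ (Subgroup.inv_mem _ ht₀m) h1
  · exact key g hg hdet hγ

end Cfsg.Agent.Helper15
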