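import Mathlib
import Cfsg.Agent.Helper15.SUGen2

set_option autoImplicit false

namespace Cfsg.Agent.Helper15

open scoped MatrixGroups

/-- The block matrix `diag(1, M)`. -/
def blk {K : Type*} [Field K] {n : ℕ} (M : Matrix (Fin n) (Fin n) K) :
    Matrix (Fin (n + 1)) (Fin (n + 1)) K :=
  Matrix.of (fun i j => Fin.cases (Fin.cases 1 (fun _ => 0) j)
    (fun i' => Fin.cases 0 (fun j' => M i' j') j) i)

theorem blk_zero_zero {K : Type*} [Field K] {n : ℕ} (M : Matrix (Fin n) (Fin n) K) :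
    blk M 0 0 = 1 := rfl

theorem blk_zero_succ {K : Type*} [Field K] {n : ℕ} (M : Matrix (Fin n) (Fin n) K)
    (j : Fin n) : blk M 0 j.succ = 0 := by
  simp [blk]

theorem blk_succ_zero {K : Type*} [Field K] {n : ℕ} (M : Matrix (Fin n) (Fin n) K)
    (i : Fin n) : blk M i.succ 0 = 0 := by
  simp [blk]

theorem blk_succ_succ {K : Type*} [Field K] {n : ℕ} (M : Matrix (Fin n) (Fin n) K)
    (i j : Fin n) : blk M i.succ j.succ = M i j := by
  simp [blk]

theorem blk_mulVec {K : Type*} [Field K] {n : ℕ} (M : Matrix (Fin n) (Fin n) K)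
    (x : Fin (n + 1) → K) :
    (blk M).mulVec x = Fin.cons (x 0) (M.mulVec (Fin.tail x)) := by
  funext i
  refine Fin.cases ?_ ?_ i
  · show ∑ j, blk M 0 j * x j = _
    rw [Fin.sum_univ_succ, blk_zero_zero, one_mul, Fin.cons_zero]
    have h1 : ∑ j : Fin n, blk M 0 j.succ * x j.succ = 0 :=
      Finset.sum_eq_zero (fun j _ => by rw [blk_zero_succ, zero_mul])
    rw [h1, add_zero]
  · intro i'
    show ∑ j, blk M i'.succ j * x j = _
    rw [Fin.sum_univ_succ, blk_succ_zero, zero_mul, zero_add, Fin.cons_succ]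
    show _ = ∑ j, M i' j * Fin.tail x j
    exact Finset.sum_congr rfl (fun j _ => by rw [blk_succ_succ]; rfl)

theorem blk_one {K : Type*} [Field K] {n : ℕ} :
    blk (1 : Matrix (Fin n) (Fin n) K) = 1 := by
  apply mat_ext_mulVec
  intro x
  rw [blk_mulVec, Matrix.one_mulVec, Matrix.one_mulVec, Fin.cons_self_tail]

theorem blk_mul {K : Type*} [Field K] {n : ℕ} (M N : Matrix (Fin n) (Fin n) K) :
    blk (M * N) = blk M * blk N := by
  apply mat_ext_mulVec
  intro x
  rw [blk_mulVec]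
  conv_rhs => rw [← Matrix.mulVec_mulVec, blk_mulVec, blk_mulVec, Fin.cons_zero, Fin.tail_cons]
  rw [Matrix.mulVec_mulVec]

theorem det_blk {K : Type*} [Field K] {n : ℕ} (M : Matrix (Fin n) (Fin n) K) :
    (blk M).det = M.det := by
  rw [Matrix.det_succ_row_zero, Fin.sum_univ_succ]
  have h1 : ∑ j : Fin n, (-1 : K) ^ (j.succ : ℕ) * blk M 0 j.succ
      * ((blk M).submatrix Fin.succ j.succ.succAbove).det = 0 :=
    Finset.sum_eq_zero (fun j _ => by rw [blk_zero_succ, mul_zero, zero_mul])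
  rw [h1, add_zero, blk_zero_zero, Fin.val_zero, pow_zero, one_mul, one_mul, Fin.succAbove_zero]
  have h2 : (blk M).submatrix Fin.succ Fin.succ = M :=
    Matrix.ext (fun i j => blk_succ_succ M i j)
  rw [h2]

/-- The embedding `GL_n → GL_{n+1}`, `g ↦ diag(1, g)`. -/
def glBlk {K : Type*} [Field K] {n : ℕ} (g : GL (Fin n) K) : GL (Fin (n + 1)) K :=
  ⟨blk (g : Matrix (Fin n) (Fin n) K), blk ((g⁻¹ : GL (Fin n) K) : Matrix (Fin n) (Fin n) K),
    by rw [← blk_mul, Units.mul_inv, blk_one], by rw [← blk_mul, Units.inv_mul, blk_one]⟩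

theorem glBlk_val {K : Type*} [Field K] {n : ℕ} (g : GL (Fin n) K) :
    ((glBlk g : GL (Fin (n + 1)) K) : Matrix (Fin (n + 1)) (Fin (n + 1)) K)
      = blk (g : Matrix (Fin n) (Fin n) K) := rfl

theorem glBlk_act {K : Type*} [Field K] {n : ℕ} (g : GL (Fin n) K) (x : Fin (n + 1) → K) :
    glAct (glBlk g) x = Fin.cons (x 0) (glAct g (Fin.tail x)) := by
  unfold glAct
  rw [glBlk_val, blk_mulVec]

theorem glBlk_act_cons {K : Type*} [Field K] {n : ℕ} (g : GL (Fin n) K) (a : K)
    (x : Fin n → K) :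
    glAct (glBlk g) (Fin.cons a x) = Fin.cons a (glAct g x) := by
  rw [glBlk_act, Fin.cons_zero, Fin.tail_cons]

theorem glBlk_mul {K : Type*} [Field K] {n : ℕ} (g g' : GL (Fin n) K) :
    glBlk (g * g') = glBlk g * glBlk g' := by
  apply Units.ext
  rw [Units.val_mul, glBlk_val, glBlk_val, glBlk_val, Units.val_mul, blk_mul]

theorem glBlk_one {K : Type*} [Field K] {n : ℕ} : glBlk (1 : GL (Fin n) K) = 1 := by
  apply Units.ext
  rw [glBlk_val, Units.val_one, blk_one, Units.val_one]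

theorem glBlk_inv {K : Type*} [Field K] {n : ℕ} (g : GL (Fin n) K) :
    glBlk g⁻¹ = (glBlk g)⁻¹ := by
  apply eq_inv_of_mul_eq_one_left
  rw [← glBlk_mul, inv_mul_cancel, glBlk_one]

theorem herm_succ {K : Type*} [Field K] (n q : ℕ) (x y : Fin (n + 1) → K) :
    Cfsg.hermForm (n + 1) K q x y
      = x 0 * y 0 ^ q + Cfsg.hermForm n K q (Fin.tail x) (Fin.tail y) := by
  unfold Cfsg.hermForm
  rw [Fin.sum_univ_succ]
  rfl

theorem herm_cons {K : Type*} [Field K] (n q : ℕ) (a b : K) (x y : Fin n → K) :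
    Cfsg.hermForm (n + 1) K q (Fin.cons a x) (Fin.cons b y)
      = a * b ^ q + Cfsg.hermForm n K q x y := by
  rw [herm_succ, Fin.cons_zero, Fin.cons_zero, Fin.tail_cons, Fin.tail_cons]

theorem glBlk_mem_GU {K : Type*} [Field K] {n q : ℕ} (g : GL (Fin n) K)
    (hg : g ∈ Cfsg.GU n K q) : glBlk g ∈ Cfsg.GU (n + 1) K q := by
  rw [mem_GU_iff]
  intro x y
  have h1 := glBlk_act g x
  have h2 := glBlk_act g y
  unfold glAct at h1 h2
  rw [h1, h2, herm_cons, herm_succ]
  congr 1
  exact (mem_GU_iff n q g).1 hg _ _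

theorem glBlk_mem_suTr {K : Type*} [Field K] {n q : ℕ} (hq : 1 ≤ q) (g : GL (Fin n) K)
    (hg : g ∈ suTr n K q) : glBlk g ∈ suTr (n + 1) K q := by
  unfold suTr at hg
  refine Subgroup.closure_induction
    (p := fun (g : GL (Fin n) K) _ => glBlk g ∈ suTr (n + 1) K q) ?_ ?_ ?_ ?_ hg
  · rintro t ⟨htG, v, c, hv, htm⟩
    apply Subgroup.subset_closure
    refine ⟨glBlk_mem_GU t htG, Fin.cons 0 v, c, ?_, ?_⟩
    · rw [herm_cons, hv, zero_mul, zero_add]
    · apply mat_ext_mulVec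
      intro x
      rw [glBlk_val, blk_mulVec, htm, utransv_mulVec, utransv_mulVec, herm_succ, Fin.cons_zero,
        Fin.tail_cons, zero_pow (by omega), mul_zero, zero_add]
      funext i
      refine Fin.cases ?_ ?_ i
      · simp
      · intro i'
        simp [Fin.tail]
  · rw [glBlk_one]
    exact Subgroup.one_mem _
  · intro x y _ _ hx hy
    rw [glBlk_mul]
    exact Subgroup.mul_mem _ hx hy
  · intro x _ hx
    rw [glBlk_inv]
    exact Subgroup.inv_mem _ hx

theorem herm_single_right {K : Type*} [Field K] {q : ℕ} (hq : 1 ≤ q) (n : ℕ)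
    (x : Fin n → K) (j : Fin n) :
    Cfsg.hermForm n K q x (Pi.single j 1) = x j := by
  classical
  unfold Cfsg.hermForm
  rw [Finset.sum_eq_single j]
  · rw [Pi.single_eq_same, one_pow, mul_one]
  · intro i _ hij
    rw [Pi.single_eq_of_ne hij, zero_pow (by omega), mul_zero]
  · intro hj
    exact absurd (Finset.mem_univ j) hj

/-- The stabiliser of the first basis vector in `GU_{n+1}` is `diag(1, GU_n)`. -/
theorem gu_fix_zero {K : Type*} [Field K] {n q : ℕ} (hq : 1 ≤ q) (g : GL (Fin (n + 1)) K)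
    (hg : g ∈ Cfsg.GU (n + 1) K q)
    (hfix : glAct g (Pi.single 0 1) = Pi.single 0 1) :
    ∃ g' : GL (Fin n) K, g' ∈ Cfsg.GU n K q ∧ g = glBlk g'
      ∧ (g' : Matrix (Fin n) (Fin n) K).det = (g : Matrix (Fin (n + 1)) (Fin (n + 1)) K).det := by
  classical
  have hcol : ∀ i, (g : Matrix (Fin (n + 1)) (Fin (n + 1)) K) i 0
      = (Pi.single 0 1 : Fin (n + 1) → K) i := by
    intro i
    have h1 := congrFun hfix i
    unfold glAct at h1
    rw [Matrix.mulVec_single_one] at h1
    exact h1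
  have hrow : ∀ j, (g : Matrix (Fin (n + 1)) (Fin (n + 1)) K) 0 j
      = if j = 0 then 1 else 0 := by
    intro j
    have h1 := glAct_pres g hg (Pi.single j 1) (Pi.single 0 1)
    rw [hfix, herm_single_right hq, hermForm_single hq] at h1
    unfold glAct at h1
    rw [Matrix.mulVec_single_one] at h1
    exact h1
  have hM : (g : Matrix (Fin (n + 1)) (Fin (n + 1)) K)
      = blk ((g : Matrix (Fin (n + 1)) (Fin (n + 1)) K).submatrix Fin.succ Fin.succ) := by
    ext i j
    refine Fin.cases ?_ ?_ i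
    · refine Fin.cases ?_ ?_ j
      · rw [hrow, if_pos rfl, blk_zero_zero]
      · intro j'
        rw [hrow, if_neg (Fin.succ_ne_zero j'), blk_zero_succ]
    · intro i'
      refine Fin.cases ?_ ?_ j
      · rw [hcol, Pi.single_eq_of_ne (Fin.succ_ne_zero i'), blk_succ_zero]
      · intro j'
        rw [blk_succ_succ]
        rfl
  have hdet : ((g : Matrix (Fin (n + 1)) (Fin (n + 1)) K).submatrix Fin.succ Fin.succ).det
      = (g : Matrix (Fin (n + 1)) (Fin (n + 1)) K).det := by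
    conv_rhs => rw [hM]
    rw [det_blk]
  have hdet0 : ((g : Matrix (Fin (n + 1)) (Fin (n + 1)) K).submatrix Fin.succ Fin.succ).det
      ≠ 0 := by
    rw [hdet]
    exact (Matrix.isUnit_iff_isUnit_det _).1 g.isUnit |>.ne_zero
  refine ⟨Matrix.GeneralLinearGroup.mkOfDetNeZero _ hdet0, ?_, Units.ext hM, hdet⟩
  rw [mem_GU_iff]
  intro x y
  show Cfsg.hermForm n K q
    (((g : Matrix (Fin (n + 1)) (Fin (n + 1)) K).submatrix Fin.succ Fin.succ).mulVec x)
    (((g : Matrix (Fin (n + 1)) (Fin (n + 1)) K).submatrix Fin.succ Fin.succ).mulVec y) = _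
  have h1 := glAct_pres g hg (Fin.cons 0 x) (Fin.cons 0 y)
  unfold glAct at h1
  rw [hM, blk_mulVec, blk_mulVec, herm_cons, herm_cons, Fin.cons_zero, Fin.cons_zero,
    Fin.tail_cons, Fin.tail_cons] at h1
  linear_combination h1

end Cfsg.Agent.Helper15
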