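import Mathlib
import Cfsg.Agent.Helper15.SUGen3
import Cfsg.Agent.Helper15.HermFrames

set_option autoImplicit false

namespace Cfsg.Agent.Helper15

open scoped MatrixGroups

/-- Witt: frames with the same Gram matrix are conjugate under the isometry group. -/
theorem herm_gram_transitive {K : Type*} [Field K] [Fintype K] {q : ℕ}
    (hK : Fintype.card K = q ^ 2) {V : Type*} [AddCommGroup V] [Module K V]
    [FiniteDimensional K V] {h : V → V → K} (hh : IsHerm q h) {k : ℕ} (b b' : Fin k → V)
    (hb : LinearIndependent K b) (hb' : LinearIndependent K b')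
    (hgram : ∀ i j, h (b i) (b j) = h (b' i) (b' j)) :
    ∃ g : V ≃ₗ[K] V, (∀ u v, h (g u) (g v) = h u v) ∧ ∀ i, g (b i) = b' i := by
  classical
  have hq := two_le_of_card_sq hK
  obtain ⟨σ, hσ⟩ := exists_frob hK
  have hσne : σ ≠ RingHom.id K := by
    intro hid
    obtain ⟨c, hc⟩ := exists_not_fixed hK
    apply hc
    rw [← hσ, hid]
    rfl
  have hσ2 : ∀ a : K, σ (σ a) = a := by
    intro a
    rw [hσ, hσ, pow_card_sq hK]
  let B : V →ₛₗ[σ] V →ₗ[K] K := LinearMap.mk₂'ₛₗ σ (RingHom.id K) (fun u v => h v u)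
    (fun m₁ m₂ n => hh.add_right hK n m₁ m₂)
    (fun c m n => by
      show h n (c • m) = σ c • h n m
      rw [hh.smul_right, hσ, smul_eq_mul])
    (fun m n₁ n₂ => hh.add_left n₁ n₂ m)
    (fun c m n => by
      show h (c • n) m = (RingHom.id K) c • h n m
      rw [hh.smul_left, RingHom.id_apply, smul_eq_mul])
  have hBapp : ∀ u v, B u v = h v u := fun u v => rfl
  have hBS : B.IsSymm := by
    refine ⟨fun x y => ?_⟩
    rw [hBapp, hBapp, hσ]
    exact (hh.conj y x).symm
  have hBnd : B.Nondegenerate := by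
    constructor
    · intro x hx
      exact hh.right_nondeg (by omega) x hx
    · intro y hy
      exact hh.nondeg y hy
  have e1 : ∀ i, ((Module.Basis.span hb i : Submodule.span K (Set.range b)) : V)
      = b i := fun i => congrArg Subtype.val (Module.Basis.span_apply hb i)
  have e2 : ∀ i, ((Module.Basis.span hb' i : Submodule.span K (Set.range b')) : V)
      = b' i := fun i => congrArg Subtype.val (Module.Basis.span_apply hb' i)
  let φ : Submodule.span K (Set.range b) ≃ₗ[K] Submodule.span K (Set.range b') :=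
    (Module.Basis.span hb).equiv (Module.Basis.span hb') (Equiv.refl _)
  have h3 : ∀ i, φ (Module.Basis.span hb i) = Module.Basis.span hb' i := by
    intro i
    show (Module.Basis.span hb).equiv (Module.Basis.span hb') (Equiv.refl _)
      (Module.Basis.span hb i) = _
    rw [Module.Basis.equiv_apply, Equiv.refl_apply]
  have hrep : ∀ x : Submodule.span K (Set.range b),
      (x : V) = ∑ i, ((Module.Basis.span hb).repr x i) • b i := by
    intro x
    have h1 := congrArg Subtype.val ((Module.Basis.span hb).sum_repr x)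
    rw [← h1, Submodule.coe_sum]
    refine Finset.sum_congr rfl (fun i _ => ?_)
    rw [Submodule.coe_smul, e1 i]
  have hrep' : ∀ x : Submodule.span K (Set.range b),
      (φ x : V) = ∑ i, ((Module.Basis.span hb).repr x i) • b' i := by
    intro x
    have h1 : φ x = ∑ i, (Module.Basis.span hb).repr x i • Module.Basis.span hb' i := by
      conv_lhs => rw [← (Module.Basis.span hb).sum_repr x]
      rw [map_sum]
      refine Finset.sum_congr rfl (fun i _ => ?_)
      rw [map_smul, h3]
    rw [h1, Submodule.coe_sum]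
    refine Finset.sum_congr rfl (fun i _ => ?_)
    rw [Submodule.coe_smul, e2 i]
  have hφ : ∀ x x' : Submodule.span K (Set.range b),
      B (φ x : V) (φ x' : V) = B (x : V) (x' : V) := by
    intro x x'
    rw [hBapp, hBapp, hrep' x, hrep' x', hrep x, hrep x', hh.sum_left, hh.sum_left]
    refine Finset.sum_congr rfl (fun i _ => ?_)
    rw [hh.sum_right hK, hh.sum_right hK]
    congr 1
    refine Finset.sum_congr rfl (fun j _ => ?_)
    rw [hgram]
  obtain ⟨g, hg1, hg2⟩ := Cfsg.Agent.S0751.result σ hσne hσ2 B hBS hBnd _ _ φ hφ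
  refine ⟨g, fun u v => hg1 v u, ?_⟩
  intro i
  have h2 := hg2 (Module.Basis.span hb i)
  rw [h3, e1, e2] at h2
  exact h2

theorem gu_gram_transitive {K : Type*} [Field K] [Fintype K] {q : ℕ}
    (hK : Fintype.card K = q ^ 2) (n k : ℕ) (b b' : Fin k → (Fin n → K))
    (hb : LinearIndependent K b) (hb' : LinearIndependent K b')
    (hgram : ∀ i j, Cfsg.hermForm n K q (b i) (b j) = Cfsg.hermForm n K q (b' i) (b' j)) :
    ∃ M : GL (Fin n) K, M ∈ Cfsg.GU n K q ∧ ∀ i, glAct M (b i) = b' i := by
  obtain ⟨g, hg1, hg2⟩ := herm_gram_transitive hK (hermForm_isHerm hK n) b b' hb hb' hgram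
  obtain ⟨M, hM, hMv⟩ := gu_of_isometry n q g hg1
  exact ⟨M, hM, fun i => by unfold glAct; rw [hMv, hg2]⟩

/-- Transitivity on pairs of vectors with the same Gram matrix. -/
theorem gu_pair_transitive {K : Type*} [Field K] [Fintype K] {q : ℕ}
    (hK : Fintype.card K = q ^ 2) (n : ℕ) (a₁ a₂ p₁ p₂ : Fin n → K)
    (ha : LinearIndependent K ![a₁, a₂]) (hp : LinearIndependent K ![p₁, p₂])
    (h11 : Cfsg.hermForm n K q a₁ a₁ = Cfsg.hermForm n K q p₁ p₁)
    (h12 : Cfsg.hermForm n K q a₁ a₂ = Cfsg.hermForm n K q p₁ p₂)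
    (h22 : Cfsg.hermForm n K q a₂ a₂ = Cfsg.hermForm n K q p₂ p₂) :
    ∃ M : GL (Fin n) K, M ∈ Cfsg.GU n K q ∧ glAct M a₁ = p₁ ∧ glAct M a₂ = p₂ := by
  have hh := hermForm_isHerm hK n
  have h21 : Cfsg.hermForm n K q a₂ a₁ = Cfsg.hermForm n K q p₂ p₁ := by
    rw [hh.conj a₁ a₂, hh.conj p₁ p₂, h12]
  obtain ⟨M, hM, hMv⟩ := gu_gram_transitive hK n 2 ![a₁, a₂] ![p₁, p₂] ha hp (by
    intro i j
    fin_cases i <;> fin_cases j
    · exact h11
    · exact h12
    · exact h21
    · exact h22)
  exact ⟨M, hM, hMv 0, hMv 1⟩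

theorem orthonormal_pair_li {K : Type*} [Field K] [Fintype K] {q : ℕ}
    (hK : Fintype.card K = q ^ 2) (n : ℕ) (p₁ p₂ : Fin n → K)
    (h11 : Cfsg.hermForm n K q p₁ p₁ = 1) (h22 : Cfsg.hermForm n K q p₂ p₂ = 1)
    (h12 : Cfsg.hermForm n K q p₁ p₂ = 0) : LinearIndependent K ![p₁, p₂] := by
  have hh := hermForm_isHerm hK n
  have hq := two_le_of_card_sq hK
  rw [LinearIndependent.pair_iff]
  intro s t hst
  have h1 := congrArg (fun z => Cfsg.hermForm n K q z p₁) hst
  have h2 := congrArg (fun z => Cfsg.hermForm n K q z p₂) hst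
  simp only [hh.add_left, hh.smul_left, hh.zero_left] at h1 h2
  rw [h11, hh.swap_zero (by omega) _ _ h12] at h1
  rw [h12, h22] at h2
  constructor
  · linear_combination h1
  · linear_combination h2

end Cfsg.Agent.Helper15
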