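import Mathlib
import Cfsg.Agent.Helper15.SUGen4

set_option autoImplicit false

namespace Cfsg.Agent.Helper15

open scoped MatrixGroups

/-- The first standard vector of the last two coordinates. -/
def stdA (K : Type*) [Field K] : ∀ n : ℕ, Fin (n + 2) → K
  | 0 => Pi.single 0 1
  | n + 1 => Fin.cons 0 (stdA K n)

/-- The second standard vector of the last two coordinates. -/
def stdB (K : Type*) [Field K] : ∀ n : ℕ, Fin (n + 2) → K
  | 0 => Pi.single 1 1
  | n + 1 => Fin.cons 0 (stdB K n)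

/-- The iterated block embedding `GL_2 → GL_{n+2}`. -/
def glBlkPow {K : Type*} [Field K] : ∀ n : ℕ, GL (Fin 2) K → GL (Fin (n + 2)) K
  | 0, s => s
  | n + 1, s => glBlk (glBlkPow n s)

theorem stdA_succ (K : Type*) [Field K] (n : ℕ) : stdA K (n + 1) = Fin.cons 0 (stdA K n) := rfl
theorem stdB_succ (K : Type*) [Field K] (n : ℕ) : stdB K (n + 1) = Fin.cons 0 (stdB K n) := rfl
theorem glBlkPow_succ {K : Type*} [Field K] (n : ℕ) (s : GL (Fin 2) K) :
    glBlkPow (n + 1) s = glBlk (glBlkPow n s) := rfl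

theorem std_gram {K : Type*} [Field K] {q : ℕ} (hq : 1 ≤ q) (n : ℕ) :
    Cfsg.hermForm (n + 2) K q (stdA K n) (stdA K n) = 1
      ∧ Cfsg.hermForm (n + 2) K q (stdB K n) (stdB K n) = 1
      ∧ Cfsg.hermForm (n + 2) K q (stdA K n) (stdB K n) = 0 := by
  induction n with
  | zero =>
    refine ⟨?_, ?_, ?_⟩
    · show Cfsg.hermForm 2 K q (Pi.single 0 1) (Pi.single 0 1) = 1
      rw [hermForm_single hq, if_pos rfl]
    · show Cfsg.hermForm 2 K q (Pi.single 1 1) (Pi.single 1 1) = 1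
      rw [hermForm_single hq, if_pos rfl]
    · show Cfsg.hermForm 2 K q (Pi.single 0 1) (Pi.single 1 1) = 0
      rw [hermForm_single hq, if_neg (by decide)]
  | succ n ih =>
    refine ⟨?_, ?_, ?_⟩
    · rw [stdA_succ]
      show Cfsg.hermForm (n + 2 + 1) K q _ _ = 1
      rw [herm_cons, ih.1, zero_mul, zero_add]
    · rw [stdB_succ]
      show Cfsg.hermForm (n + 2 + 1) K q _ _ = 1
      rw [herm_cons, ih.2.1, zero_mul, zero_add]
    · rw [stdA_succ, stdB_succ]
      show Cfsg.hermForm (n + 2 + 1) K q _ _ = 0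
      rw [herm_cons, ih.2.2, zero_mul, zero_add]

theorem glBlkPow_mem_suTr {K : Type*} [Field K] {q : ℕ} (hq : 1 ≤ q) (n : ℕ)
    (s : GL (Fin 2) K) (hs : s ∈ suTr 2 K q) : glBlkPow n s ∈ suTr (n + 2) K q := by
  induction n with
  | zero => exact hs
  | succ n ih =>
    rw [glBlkPow_succ]
    exact glBlk_mem_suTr hq _ ih

theorem glBlkPow_act {K : Type*} [Field K] (n : ℕ) (s : GL (Fin 2) K) :
    glAct (glBlkPow n s) (stdA K n)
        = (s : Matrix (Fin 2) (Fin 2) K) 0 0 • stdA K n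
          + (s : Matrix (Fin 2) (Fin 2) K) 1 0 • stdB K n
      ∧ glAct (glBlkPow n s) (stdB K n)
        = (s : Matrix (Fin 2) (Fin 2) K) 0 1 • stdA K n
          + (s : Matrix (Fin 2) (Fin 2) K) 1 1 • stdB K n := by
  induction n with
  | zero =>
    constructor
    · show (s : Matrix (Fin 2) (Fin 2) K).mulVec (Pi.single 0 1) = _
      rw [Matrix.mulVec_single_one]
      funext i
      fin_cases i <;> simp [stdA, stdB]
    · show (s : Matrix (Fin 2) (Fin 2) K).mulVec (Pi.single 1 1) = _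
      rw [Matrix.mulVec_single_one]
      funext i
      fin_cases i <;> simp [stdA, stdB]
  | succ n ih =>
    constructor
    · rw [glBlkPow_succ, stdA_succ, stdB_succ, glBlk_act_cons, ih.1]
      funext i
      refine Fin.cases ?_ ?_ i
      · simp
      · intro i'
        simp
    · rw [glBlkPow_succ, stdA_succ, stdB_succ, glBlk_act_cons, ih.2]
      funext i
      refine Fin.cases ?_ ?_ i
      · simp
      · intro i'
        simp

theorem glBlkPow_fix {K : Type*} [Field K] {q : ℕ} (hq : 1 ≤ q) (n : ℕ) (s : GL (Fin 2) K)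
    (x : Fin (n + 2) → K) (hxa : Cfsg.hermForm (n + 2) K q x (stdA K n) = 0)
    (hxb : Cfsg.hermForm (n + 2) K q x (stdB K n) = 0) : glAct (glBlkPow n s) x = x := by
  induction n with
  | zero =>
    have h0 : x 0 = 0 := by
      rw [← herm_single_right hq 2 x 0]
      exact hxa
    have h1 : x 1 = 0 := by
      rw [← herm_single_right hq 2 x 1]
      exact hxb
    have hx : x = 0 := by
      funext i
      fin_cases i
      · exact h0
      · exact h1
    rw [hx, glAct_zero]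
  | succ n ih =>
    rw [glBlkPow_succ, glBlk_act]
    have h1 : Cfsg.hermForm (n + 2) K q (Fin.tail x) (stdA K n) = 0 := by
      rw [stdA_succ] at hxa
      have h2 := herm_succ (n + 2) q x (Fin.cons 0 (stdA K n))
      rw [Fin.cons_zero, Fin.tail_cons, zero_pow (by omega), mul_zero, zero_add] at h2
      rw [← h2]
      exact hxa
    have h1' : Cfsg.hermForm (n + 2) K q (Fin.tail x) (stdB K n) = 0 := by
      rw [stdB_succ] at hxb
      have h2 := herm_succ (n + 2) q x (Fin.cons 0 (stdB K n))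
      rw [Fin.cons_zero, Fin.tail_cons, zero_pow (by omega), mul_zero, zero_add] at h2
      rw [← h2]
      exact hxb
    rw [ih (Fin.tail x) h1 h1', Fin.cons_self_tail]

/-- Transport of an element of `suTr 2` to the plane spanned by an orthonormal pair. -/
theorem plane_transport {K : Type*} [Field K] [Fintype K] {q : ℕ}
    (hK : Fintype.card K = q ^ 2) (n : ℕ) (s : GL (Fin 2) K) (hs : s ∈ suTr 2 K q)
    (p₁ p₂ : Fin (n + 2) → K) (h11 : Cfsg.hermForm (n + 2) K q p₁ p₁ = 1)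
    (h22 : Cfsg.hermForm (n + 2) K q p₂ p₂ = 1) (h12 : Cfsg.hermForm (n + 2) K q p₁ p₂ = 0) :
    ∃ t : GL (Fin (n + 2)) K, t ∈ suTr (n + 2) K q
      ∧ glAct t p₁ = (s : Matrix (Fin 2) (Fin 2) K) 0 0 • p₁
          + (s : Matrix (Fin 2) (Fin 2) K) 1 0 • p₂
      ∧ glAct t p₂ = (s : Matrix (Fin 2) (Fin 2) K) 0 1 • p₁
          + (s : Matrix (Fin 2) (Fin 2) K) 1 1 • p₂
      ∧ ∀ x, Cfsg.hermForm (n + 2) K q x p₁ = 0 → Cfsg.hermForm (n + 2) K q x p₂ = 0 →
          glAct t x = x := by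
  have hq := two_le_of_card_sq hK
  have hq1 : 1 ≤ q := by omega
  obtain ⟨ha11, ha22, ha12⟩ := std_gram (K := K) hq1 n
  obtain ⟨M, hM, hMa, hMb⟩ := gu_pair_transitive hK (n + 2) (stdA K n) (stdB K n) p₁ p₂
    (orthonormal_pair_li hK _ _ _ ha11 ha22 ha12) (orthonormal_pair_li hK _ _ _ h11 h22 h12)
    (by rw [ha11, h11]) (by rw [ha12, h12]) (by rw [ha22, h22])
  have hia : glAct M⁻¹ p₁ = stdA K n := by rw [← hMa, glAct_inv_left]
  have hib : glAct M⁻¹ p₂ = stdB K n := by rw [← hMb, glAct_inv_left]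
  refine ⟨M * glBlkPow n s * M⁻¹, suTr_conj M hM _ (glBlkPow_mem_suTr hq1 n s hs), ?_, ?_, ?_⟩
  · rw [glAct_mul, glAct_mul, hia, (glBlkPow_act n s).1, glAct_add, glAct_smul, glAct_smul, hMa,
      hMb]
  · rw [glAct_mul, glAct_mul, hib, (glBlkPow_act n s).2, glAct_add, glAct_smul, glAct_smul, hMa,
      hMb]
  · intro x hx1 hx2
    rw [glAct_mul, glAct_mul, glBlkPow_fix hq1 n s, glAct_inv_right]
    · rw [glAct_pres_inv M hM, hMa]
      exact hx1
    · rw [glAct_pres_inv M hM, hMb]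
      exact hx2

/-- An explicit element of `SU_2`. -/
theorem su2_explicit {K : Type*} [Field K] [Fintype K] {q : ℕ}
    (hK : Fintype.card K = q ^ 2) (α c : K) (hαc : α ^ (q + 1) + c ^ (q + 1) = 1) :
    ∃ s : GL (Fin 2) K, s ∈ suTr 2 K q ∧ (s : Matrix (Fin 2) (Fin 2) K) 0 0 = α
      ∧ (s : Matrix (Fin 2) (Fin 2) K) 1 0 = c := by
  classical
  obtain ⟨φ, hφ⟩ := exists_frob hK
  obtain ⟨S, hS00, hS01, hS10, hS11⟩ : ∃ S : Matrix (Fin 2) (Fin 2) K,
      S 0 0 = α ∧ S 0 1 = -c ^ q ∧ S 1 0 = c ∧ S 1 1 = α ^ q :=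
    ⟨!![α, -c ^ q; c, α ^ q], rfl, rfl, rfl, rfl⟩
  have hdet : S.det = 1 := by
    rw [Matrix.det_fin_two, hS00, hS01, hS10, hS11]
    rw [pow_succ, pow_succ] at hαc
    linear_combination hαc
  have hdet0 : S.det ≠ 0 := by
    rw [hdet]
    exact one_ne_zero
  have hmv : ∀ x : Fin 2 → K, S.mulVec x 0 = α * x 0 + -c ^ q * x 1
      ∧ S.mulVec x 1 = c * x 0 + α ^ q * x 1 := by
    intro x
    constructor
    · show ∑ j, S 0 j * x j = _
      rw [Fin.sum_univ_two, hS00, hS01]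
    · show ∑ j, S 1 j * x j = _
      rw [Fin.sum_univ_two, hS10, hS11]
  refine ⟨Matrix.GeneralLinearGroup.mkOfDetNeZero S hdet0, ?_, hS00, hS10⟩
  apply suTr_two hK _ _ hdet
  rw [mem_GU_iff]
  intro x y
  show Cfsg.hermForm 2 K q (S.mulVec x) (S.mulVec y) = _
  rw [herm2, herm2, (hmv x).1, (hmv x).2, (hmv y).1, (hmv y).2]
  have e1 : (α * y 0 + -c ^ q * y 1) ^ q = α ^ q * y 0 ^ q - c * y 1 ^ q := by
    rw [← hφ (α * y 0 + -c ^ q * y 1), map_add, map_mul, map_mul, map_neg, hφ, hφ, hφ, hφ,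
      pow_card_sq hK]
    ring
  have e2 : (c * y 0 + α ^ q * y 1) ^ q = c ^ q * y 0 ^ q + α * y 1 ^ q := by
    rw [← hφ (c * y 0 + α ^ q * y 1), map_add, map_mul, map_mul, hφ, hφ, hφ, hφ,
      pow_card_sq hK]
  rw [e1, e2]
  rw [pow_succ, pow_succ] at hαc
  linear_combination (x 0 * y 0 ^ q + x 1 * y 1 ^ q) * hαc

/-- Moving a vector of norm one to another inside a nondegenerate plane. -/
theorem suTr_plane_move {K : Type*} [Field K] [Fintype K] {q : ℕ}
    (hK : Fintype.card K = q ^ 2) (n : ℕ) (u v : Fin (n + 2) → K)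
    (huu : Cfsg.hermForm (n + 2) K q u u = 1) (hvv : Cfsg.hermForm (n + 2) K q v v = 1)
    (hne : Cfsg.hermForm (n + 2) K q v u ^ (q + 1) ≠ 1) :
    ∃ t : GL (Fin (n + 2)) K, t ∈ suTr (n + 2) K q ∧ glAct t u = v := by
  have hh := hermForm_isHerm hK (n + 2)
  have hq := two_le_of_card_sq hK
  obtain ⟨φ, hφ⟩ := exists_frob hK
  obtain ⟨α, hα⟩ : ∃ α : K, α = Cfsg.hermForm (n + 2) K q v u := ⟨_, rfl⟩
  rw [← hα] at hne
  have huv : Cfsg.hermForm (n + 2) K q u v = α ^ q := by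
    rw [hα]
    exact hh.conj v u
  have hδ0 : 1 - α ^ (q + 1) ≠ 0 := fun h => hne (by linear_combination -h)
  have hδfix : (1 - α ^ (q + 1)) ^ q = 1 - α ^ (q + 1) := by
    rw [← hφ (1 - α ^ (q + 1)), map_sub, map_one, hφ, norm_pow_fixed hK]
  obtain ⟨c, hc0, hc⟩ := norm_exists hK _ hδ0 hδfix
  have hcq : c ^ q ≠ 0 := pow_ne_zero _ hc0
  have hcc : c * c ^ q = 1 - α * α ^ q := by
    rw [← pow_succ', ← pow_succ', hc]
  have hp22 : Cfsg.hermForm (n + 2) K q (c⁻¹ • (v - α • u)) (c⁻¹ • (v - α • u)) = 1 := by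
    rw [hh.smul_left, hh.smul_right, hh.sub_left, hh.sub_right hK, hh.sub_right hK, hh.smul_left,
      hh.smul_left, hh.smul_right, hh.smul_right, hvv, huu, huv, ← hα, inv_pow]
    field_simp
    linear_combination -hcc
  have hp12 : Cfsg.hermForm (n + 2) K q u (c⁻¹ • (v - α • u)) = 0 := by
    rw [hh.smul_right, hh.sub_right hK, hh.smul_right, huu, huv]
    ring
  obtain ⟨s, hs, hs00, hs10⟩ := su2_explicit hK α c (by rw [hc]; ring)
  obtain ⟨t, ht, ht1, -, -⟩ := plane_transport hK n s hs u (c⁻¹ • (v - α • u)) huu hp22 hp12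
  refine ⟨t, ht, ?_⟩
  rw [ht1, hs00, hs10, smul_smul, mul_inv_cancel₀ hc0, one_smul]
  abel

end Cfsg.Agent.Helper15
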