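import Mathlib
import Cfsg.Agent.Helper15.SUGen5
import Cfsg.Agent.Helper15.SUComm

set_option autoImplicit false

namespace Cfsg.Agent.Helper15

open scoped MatrixGroups

theorem suTr_two_step {K : Type*} [Field K] [Fintype K] {q : ℕ}
    (hK : Fintype.card K = q ^ 2) (n : ℕ) (u w v : Fin (n + 2) → K)
    (huu : Cfsg.hermForm (n + 2) K q u u = 1) (hww : Cfsg.hermForm (n + 2) K q w w = 1)
    (hvv : Cfsg.hermForm (n + 2) K q v v = 1)
    (h1 : Cfsg.hermForm (n + 2) K q w u ^ (q + 1) ≠ 1)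
    (h2 : Cfsg.hermForm (n + 2) K q v w ^ (q + 1) ≠ 1) :
    ∃ t : GL (Fin (n + 2)) K, t ∈ suTr (n + 2) K q ∧ glAct t u = v := by
  obtain ⟨t₁, ht₁, ht₁u⟩ := suTr_plane_move hK n u w huu hww h1
  obtain ⟨t₂, ht₂, ht₂w⟩ := suTr_plane_move hK n w v hww hvv h2
  exact ⟨t₂ * t₁, Subgroup.mul_mem _ ht₂ ht₁, by rw [glAct_mul, ht₁u, ht₂w]⟩

/-- Existence of the intermediate vector in dimension at least three. -/
theorem exists_mid_big {K : Type*} [Field K] [Fintype K] {q : ℕ}
    (hK : Fintype.card K = q ^ 2) (k : ℕ) (v' : Fin (k + 1 + 2) → K)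
    (hv' : Cfsg.hermForm (k + 1 + 2) K q v' v' = 0) :
    ∃ w' : Fin (k + 1 + 2) → K, Cfsg.hermForm (k + 1 + 2) K q w' w' = 1
      ∧ Cfsg.hermForm (k + 1 + 2) K q v' w' = 0 := by
  classical
  have hh := hermForm_isHerm hK (k + 1 + 2)
  have hq := two_le_of_card_sq hK
  by_cases h0 : v' = 0
  · refine ⟨Pi.single 0 1, ?_, ?_⟩
    · rw [hermForm_single (by omega), if_pos rfl]
    · rw [h0, hh.zero_left]
  · obtain ⟨μ, hμ0, hμ⟩ := exists_norm_neg_one hK
    obtain ⟨s, hs, hsv⟩ := su_isotropic_transitive hK k μ hμ v' h0 hv'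
    have h20 : (⟨2, by omega⟩ : Fin (k + 1 + 2)) ≠ 0 := by
      intro h
      have h' := congrArg Fin.val h
      simp at h'
    have h21 : (⟨2, by omega⟩ : Fin (k + 1 + 2)) ≠ 1 := by
      intro h
      have h' := congrArg Fin.val h
      simp at h'
    refine ⟨(s : Matrix (Fin (k + 1 + 2)) (Fin (k + 1 + 2)) K).mulVec
      (Pi.single (⟨2, by omega⟩ : Fin (k + 1 + 2)) 1), ?_, ?_⟩
    · rw [(mem_SU_iff (k + 1 + 2) q s).1 hs, hermForm_single (by omega), if_pos rfl]
    · rw [← hsv, (mem_SU_iff (k + 1 + 2) q s).1 hs, herm_single_right (by omega), Pi.add_apply,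
        Pi.smul_apply, Pi.single_eq_of_ne h20, Pi.single_eq_of_ne h21, smul_zero, add_zero]

/-- Existence of the intermediate vector in dimension two, `q ≥ 3`. -/
theorem exists_mid_small {K : Type*} [Field K] [Fintype K] {q : ℕ}
    (hK : Fintype.card K = q ^ 2) (hq3 : 3 ≤ q) (v' : Fin 2 → K)
    (hv' : Cfsg.hermForm 2 K q v' v' = 0) :
    ∃ w' : Fin 2 → K, Cfsg.hermForm 2 K q w' w' = 1
      ∧ Cfsg.hermForm 2 K q v' w' ^ (q + 1) ≠ 1 := by
  classical
  have hh := hermForm_isHerm hK 2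
  obtain ⟨φ, hφ⟩ := exists_frob hK
  have hiso : v' 0 * v' 0 ^ q + v' 1 * v' 1 ^ q = 0 := by
    rw [← herm2]
    exact hv'
  by_cases ha : v' 0 ^ (q + 1) ≠ 1
  · refine ⟨Pi.single 0 1, ?_, ?_⟩
    · rw [hermForm_single (by omega), if_pos rfl]
    · rw [herm_single_right (by omega)]
      exact ha
  · rw [not_not] at ha
    have ha' : v' 0 * v' 0 ^ q = 1 := by rw [← pow_succ']; exact ha
    have hb' : v' 1 * v' 1 ^ q = -1 := by linear_combination hiso - ha'
    by_cases h2 : (-1 : K) ≠ 1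
    · refine ⟨Pi.single 1 1, ?_, ?_⟩
      · rw [hermForm_single (by omega), if_pos rfl]
      · rw [herm_single_right (by omega), pow_succ', hb']
        exact h2
    · rw [not_not] at h2
      have ha0 : v' 0 ≠ 0 := by
        intro h
        rw [h, zero_mul] at ha'
        exact zero_ne_one ha'
      have hb0 : v' 1 ≠ 0 := by
        intro h
        rw [h, zero_mul] at hb'
        have : (0 : K) = 1 := by rw [hb', h2]
        exact zero_ne_one this
      obtain ⟨α, hα0, hα1⟩ := exists_norm_ne_one hK hq3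
      have hδ0 : 1 - α ^ (q + 1) ≠ 0 := fun h => hα1 (by linear_combination -h)
      have hδfix : (1 - α ^ (q + 1)) ^ q = 1 - α ^ (q + 1) := by
        rw [← hφ (1 - α ^ (q + 1)), map_sub, map_one, hφ, norm_pow_fixed hK]
      obtain ⟨β, hβ0, hβ⟩ := norm_exists hK _ hδ0 hδfix
      obtain ⟨l, hl1, hl2⟩ := exists_norm_one_sq_ne hK
      have hαα : α * α ^ q = α ^ (q + 1) := by rw [← pow_succ']
      have hββ : β * β ^ q = 1 - α ^ (q + 1) := by rw [← pow_succ', hβ]
      obtain ⟨γ, hγ⟩ : ∃ γ : K, γ = v' 0 * α ^ q * (v' 1 ^ q * β) := ⟨_, rfl⟩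
      have hγ0 : γ ≠ 0 := by
        rw [hγ]
        exact mul_ne_zero (mul_ne_zero ha0 (pow_ne_zero _ hα0))
          (mul_ne_zero (pow_ne_zero _ hb0) hβ0)
      have hγq : γ ^ q = v' 0 ^ q * α * (v' 1 * β ^ q) := by
        rw [hγ, ← hφ, map_mul, map_mul, map_mul, hφ, hφ, hφ, hφ, pow_card_sq hK,
          pow_card_sq hK]
      have hval : ∀ ζ : K, ζ * ζ ^ q = 1 → ∃ w' : Fin 2 → K,
          Cfsg.hermForm 2 K q w' w' = 1
          ∧ Cfsg.hermForm 2 K q v' w' ^ (q + 1) = 1 + (γ * ζ + γ ^ q * ζ ^ q) := by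
        intro ζ hζ
        obtain ⟨w', hw0, hw1⟩ : ∃ w' : Fin 2 → K, w' 0 = α ∧ w' 1 = β * ζ :=
          ⟨![α, β * ζ], rfl, rfl⟩
        refine ⟨w', ?_, ?_⟩
        · rw [herm2, hw0, hw1, mul_pow]
          linear_combination hαα + (ζ * ζ ^ q) * hββ + (1 - α ^ (q + 1)) * hζ
        · rw [herm2, hw0, hw1, pow_succ']
          have e1 : (v' 0 * α ^ q + v' 1 * (β * ζ) ^ q) ^ q
              = v' 0 ^ q * α + v' 1 ^ q * (β * ζ) := by
            rw [← hφ (v' 0 * α ^ q + v' 1 * (β * ζ) ^ q), map_add, map_mul, map_mul, hφ, hφ, hφ,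
              hφ, pow_card_sq hK, pow_card_sq hK]
          rw [e1, hγq, hγ, mul_pow]
          linear_combination (α * α ^ q) * ha' + (β * β ^ q * ζ * ζ ^ q) * hb'
            + hαα - (ζ * ζ ^ q) * hββ - (1 - α ^ (q + 1)) * hζ + (1 - α ^ (q + 1)) * h2
      by_cases hc1 : γ * 1 + γ ^ q * 1 ^ q = 0
      · have hc2 : γ * l + γ ^ q * l ^ q ≠ 0 := by
          intro hc2
          apply hl2
          have h3 : γ ^ q = -γ := by
            rw [one_pow, mul_one, mul_one] at hc1
            linear_combination hc1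
          rw [h3] at hc2
          have h4 : γ * (l - l ^ q) = 0 := by linear_combination hc2
          have h5 : l ^ q = l := by
            rcases mul_eq_zero.1 h4 with h | h
            · exact absurd h hγ0
            · linear_combination -h
          rw [pow_succ, h5] at hl1
          rw [pow_two]
          exact hl1
        obtain ⟨w', hw1, hw2⟩ := hval l (by rw [← pow_succ']; exact hl1)
        refine ⟨w', hw1, ?_⟩
        rw [hw2]
        intro h
        apply hc2
        linear_combination h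
      · obtain ⟨w', hw1, hw2⟩ := hval 1 (by rw [one_pow, mul_one])
        refine ⟨w', hw1, ?_⟩
        rw [hw2]
        intro h
        apply hc1
        linear_combination h

end Cfsg.Agent.Helper15
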