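import Mathlib
import Cfsg.Agent.Helper15.SUGen6

set_option autoImplicit false

namespace Cfsg.Agent.Helper15

open scoped MatrixGroups

/-- `suTr` is transitive on vectors of norm one (dimension at least three, not `(3, 2)`). -/
theorem suTr_norm_one_transitive {K : Type*} [Field K] [Fintype K] {q : ℕ}
    (hK : Fintype.card K = q ^ 2) (m : ℕ) (hmq : ¬ (m = 0 ∧ q = 2))
    (v : Fin (m + 1 + 2) → K) (hv : Cfsg.hermForm (m + 1 + 2) K q v v = 1) :
    ∃ t : GL (Fin (m + 1 + 2)) K, t ∈ suTr (m + 1 + 2) K q ∧ glAct t (Pi.single 0 1) = v := by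
  classical
  have hh := hermForm_isHerm hK (m + 1 + 2)
  have hq := two_le_of_card_sq hK
  have he : Cfsg.hermForm (m + 1 + 2) K q (Pi.single 0 1) (Pi.single 0 1) = 1 := by
    rw [hermForm_single (by omega), if_pos rfl]
  by_cases hA : Cfsg.hermForm (m + 1 + 2) K q v (Pi.single 0 1) ^ (q + 1) ≠ 1
  · exact suTr_plane_move hK (m + 1) _ v he hv hA
  · rw [not_not, herm_single_right (by omega)] at hA
    have hv3 : Cfsg.hermForm (m + 2 + 1) K q v v = 1 := hv
    rw [herm_succ, ← pow_succ', hA] at hv3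
    have hv' : Cfsg.hermForm (m + 2) K q (Fin.tail v) (Fin.tail v) = 0 := by
      linear_combination hv3
    have hex : ∃ w' : Fin (m + 2) → K, Cfsg.hermForm (m + 2) K q w' w' = 1
        ∧ Cfsg.hermForm (m + 2) K q (Fin.tail v) w' ^ (q + 1) ≠ 1 := by
      rcases m with _ | k
      · have hq3 : 3 ≤ q := by
          rcases Nat.lt_or_ge q 3 with h | h
          · exact absurd ⟨rfl, by omega⟩ hmq
          · exact h
        exact exists_mid_small hK hq3 (Fin.tail v) hv'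
      · obtain ⟨w', hw1, hw2⟩ := exists_mid_big hK k (Fin.tail v) hv'
        refine ⟨w', hw1, ?_⟩
        rw [hw2, zero_pow (by omega)]
        exact zero_ne_one
    obtain ⟨w', hw1, hw2⟩ := hex
    have hww : Cfsg.hermForm (m + 2 + 1) K q (Fin.cons 0 w') (Fin.cons 0 w') = 1 := by
      rw [herm_cons, hw1, zero_mul, zero_add]
    have h1 : Cfsg.hermForm (m + 2 + 1) K q (Fin.cons 0 w') (Pi.single 0 1) ^ (q + 1) ≠ 1 := by
      rw [herm_single_right (by omega), Fin.cons_zero, zero_pow (by omega)]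
      exact zero_ne_one
    have h2 : Cfsg.hermForm (m + 2 + 1) K q v (Fin.cons 0 w') ^ (q + 1) ≠ 1 := by
      rw [herm_succ, Fin.cons_zero, Fin.tail_cons, zero_pow (by omega), mul_zero, zero_add]
      exact hw2
    exact suTr_two_step hK (m + 1) (Pi.single 0 1) (Fin.cons 0 w') v he hww hv h1 h2

/-- The inductive step: from dimension `m + 2` to dimension `m + 3`. -/
theorem suTr_step {K : Type*} [Field K] [Fintype K] {q : ℕ}
    (hK : Fintype.card K = q ^ 2) (m : ℕ) (hmq : ¬ (m = 0 ∧ q = 2))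
    (ih : ∀ g : GL (Fin (m + 2)) K, g ∈ Cfsg.GU (m + 2) K q →
      (g : Matrix (Fin (m + 2)) (Fin (m + 2)) K).det = 1 → g ∈ suTr (m + 2) K q)
    (g : GL (Fin (m + 1 + 2)) K) (hg : g ∈ Cfsg.GU (m + 1 + 2) K q)
    (hdet : (g : Matrix (Fin (m + 1 + 2)) (Fin (m + 1 + 2)) K).det = 1) :
    g ∈ suTr (m + 1 + 2) K q := by
  classical
  have hq := two_le_of_card_sq hK
  have hv : Cfsg.hermForm (m + 1 + 2) K q (glAct g (Pi.single 0 1)) (glAct g (Pi.single 0 1))
      = 1 := by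
    rw [glAct_pres g hg, hermForm_single (by omega), if_pos rfl]
  obtain ⟨t, ht, htv⟩ := suTr_norm_one_transitive hK m hmq _ hv
  have hfG : t⁻¹ * g ∈ Cfsg.GU (m + 1 + 2) K q :=
    Subgroup.mul_mem _ (Subgroup.inv_mem _ (suTr_le_GU _ K q ht)) hg
  have hfix : glAct (t⁻¹ * g) (Pi.single 0 1) = Pi.single 0 1 := by
    rw [glAct_mul, ← htv, glAct_inv_left]
  have hfdet : ((t⁻¹ * g : GL (Fin (m + 1 + 2)) K) :
      Matrix (Fin (m + 1 + 2)) (Fin (m + 1 + 2)) K).det = 1 := by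
    rw [Units.val_mul, Matrix.det_mul, suTr_det _ (Subgroup.inv_mem _ ht), hdet, mul_one]
  obtain ⟨g', hg', hgg', hdet'⟩ := gu_fix_zero (n := m + 2) (by omega) (t⁻¹ * g) hfG hfix
  have h1 : g' ∈ suTr (m + 2) K q := ih g' hg' (by rw [hdet', hfdet])
  have h2 : t⁻¹ * g ∈ suTr (m + 1 + 2) K q := by
    rw [hgg']
    exact glBlk_mem_suTr (by omega) g' h1
  have h3 : g = t * (t⁻¹ * g) := by group
  rw [h3]
  exact Subgroup.mul_mem _ ht h2

theorem skew_neg_inv {K : Type*} [Field K] [Fintype K] {q : ℕ}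
    (hK : Fintype.card K = q ^ 2) (κ : K) (hκ : κ ^ q = -κ) : (-κ⁻¹) ^ q = -(-κ⁻¹) := by
  obtain ⟨φ, hφ⟩ := exists_frob hK
  rw [← hφ, map_neg, map_inv₀, hφ, hκ, inv_neg]

/-- Moving an isotropic vector to a multiple of a non-orthogonal isotropic vector. -/
theorem suTr_iso_move {K : Type*} [Field K] [Fintype K] {q : ℕ}
    (hK : Fintype.card K = q ^ 2) (n : ℕ) (x y : Fin n → K)
    (hxx : Cfsg.hermForm n K q x x = 0) (hyy : Cfsg.hermForm n K q y y = 0)
    (hyx : Cfsg.hermForm n K q y x ≠ 0) :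
    ∃ t : GL (Fin n) K, t ∈ suTr n K q ∧ ∃ c : K, c ≠ 0 ∧ glAct t x = c • y := by
  have hh := hermForm_isHerm hK n
  obtain ⟨φ, hφ⟩ := exists_frob hK
  obtain ⟨κ, hκ0, hκ⟩ := exists_skew hK
  obtain ⟨lam, hlam⟩ : ∃ lam : K, lam = κ / Cfsg.hermForm n K q y x := ⟨_, rfl⟩
  have hlam0 : lam ≠ 0 := by
    rw [hlam]
    exact div_ne_zero hκ0 hyx
  have h1 : lam * Cfsg.hermForm n K q y x = κ := by
    rw [hlam]
    field_simp
  have h2 : lam ^ q * Cfsg.hermForm n K q x y = -κ := by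
    rw [hh.conj y x, ← mul_pow, h1, hκ]
  have hd : Cfsg.hermForm n K q (lam • y - x) (lam • y - x) = 0 := by
    rw [hh.sub_left, hh.sub_right hK, hh.sub_right hK, hh.smul_left, hh.smul_left, hh.smul_right,
      hh.smul_right, hyy, hxx]
    linear_combination (-1 : K) * h1 - h2 + (0 : K)
  obtain ⟨t, ht, htx⟩ := suTr_transv hK n (-κ⁻¹) (skew_neg_inv hK κ hκ) (lam • y - x) hd
  refine ⟨t, ht, lam, hlam0, ?_⟩
  rw [htx, hh.sub_right hK, hh.smul_right, hxx, h2]
  have h3 : -κ⁻¹ * (-κ - 0) = 1 := by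
    rw [sub_zero, neg_mul_neg, inv_mul_cancel₀ hκ0]
  rw [h3, one_smul]
  abel

/-- Eichler elements: the stabiliser of an isotropic vector in `suTr` moves the hyperbolic
partners. -/
theorem suTr_eichler {K : Type*} [Field K] [Fintype K] {q : ℕ}
    (hK : Fintype.card K = q ^ 2) (n : ℕ) (u u' z z' : Fin n → K)
    (huu : Cfsg.hermForm n K q u u = 0) (hu'u' : Cfsg.hermForm n K q u' u' = 0)
    (hzz : Cfsg.hermForm n K q z z = 0) (hz'z' : Cfsg.hermForm n K q z' z' = 0)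
    (huu' : Cfsg.hermForm n K q u u' = 1) (hzz' : Cfsg.hermForm n K q z z' = 1)
    (huz : Cfsg.hermForm n K q u z = 0) (huz' : Cfsg.hermForm n K q u z' = 0)
    (hu'z : Cfsg.hermForm n K q u' z = 0) (hu'z' : Cfsg.hermForm n K q u' z' = 0)
    (hsep : ∀ x, Cfsg.hermForm n K q x u = 0 → Cfsg.hermForm n K q x u' = 0 →
      Cfsg.hermForm n K q x z = 0 → Cfsg.hermForm n K q x z' = 0 → x = 0)
    (y : Fin n → K) (hyy : Cfsg.hermForm n K q y y = 0) (hyu : Cfsg.hermForm n K q y u = 1) :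
    ∃ e : GL (Fin n) K, e ∈ suTr n K q ∧ glAct e u = u ∧ glAct e u' = y := by
  have hh := hermForm_isHerm hK n
  have hq := two_le_of_card_sq hK
  have hq1 : 1 ≤ q := by omega
  obtain ⟨φ, hφ⟩ := exists_frob hK
  have hu'u : Cfsg.hermForm n K q u' u = 1 := by rw [hh.conj u u', huu', one_pow]
  have hz'z : Cfsg.hermForm n K q z' z = 1 := by rw [hh.conj z z', hzz', one_pow]
  have hzu := hh.swap_zero hq1 _ _ huz
  have hz'u := hh.swap_zero hq1 _ _ huz'
  have hzu' := hh.swap_zero hq1 _ _ hu'z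
  have hz'u' := hh.swap_zero hq1 _ _ hu'z'
  obtain ⟨α, hα⟩ : ∃ α : K, α = Cfsg.hermForm n K q y z' := ⟨_, rfl⟩
  obtain ⟨α', hα'⟩ : ∃ α' : K, α' = Cfsg.hermForm n K q y z := ⟨_, rfl⟩
  obtain ⟨β, hβ⟩ : ∃ β : K, β = Cfsg.hermForm n K q y u' := ⟨_, rfl⟩
  have hexp : y = u' + β • u + α • z + α' • z' := by
    have h0 : y - (u' + β • u + α • z + α' • z') = 0 := by
      apply hsep
      · simp only [hh.sub_left, hh.add_left, hh.smul_left]
        rw [hyu, hu'u, huu, hzu, hz'u]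
        ring
      · simp only [hh.sub_left, hh.add_left, hh.smul_left]
        rw [← hβ, hu'u', huu', hzu', hz'u']
        ring
      · simp only [hh.sub_left, hh.add_left, hh.smul_left]
        rw [← hα', hu'z, huz, hzz, hz'z]
        ring
      · simp only [hh.sub_left, hh.add_left, hh.smul_left]
        rw [← hα, hu'z', huz', hzz', hz'z']
        ring
    exact sub_eq_zero.1 h0
  have hiso : β + β ^ q + α * α' ^ q + α' * α ^ q = 0 := by
    have h1 := hyy
    rw [hexp] at h1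
    simp only [hh.add_left, hh.smul_left, hh.add_right hK, hh.smul_right] at h1
    rw [hu'u', huu, hzz, hz'z', huu', hu'u, hzz', hz'z, huz, huz', hu'z, hu'z', hzu, hz'u, hzu',
      hz'u'] at h1
    linear_combination h1
  have hβ'' : (β + α ^ q * α') ^ q = -(β + α ^ q * α') := by
    rw [← hφ (β + α ^ q * α'), map_add, map_mul, hφ, hφ, hφ, pow_card_sq hK]
    linear_combination hiso
  have ha1 : (-α ^ q) ^ q = -α := by
    rw [← hφ (-α ^ q), map_neg, hφ, pow_card_sq hK]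
  have ha2 : (-α' ^ q) ^ q = -α' := by
    rw [← hφ (-α' ^ q), map_neg, hφ, pow_card_sq hK]
  obtain ⟨S₁, hS₁m, hS₁⟩ := suTr_siegel hK n u z huu hzz huz (-α ^ q)
  obtain ⟨S₂, hS₂m, hS₂⟩ := suTr_siegel hK n u z' huu hz'z' huz' (-α' ^ q)
  obtain ⟨t, htm, ht⟩ := suTr_transv hK n (β + α ^ q * α') hβ'' u huu
  refine ⟨S₁ * S₂ * t, Subgroup.mul_mem _ (Subgroup.mul_mem _ hS₁m hS₂m) htm, ?_, ?_⟩
  · rw [glAct_mul, glAct_mul, ht, huu, mul_zero, zero_smul, add_zero, hS₂, huu, huz', mul_zero,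
      mul_zero, zero_smul, zero_smul, add_zero, sub_zero, hS₁, huu, huz, mul_zero, mul_zero,
      zero_smul, zero_smul, add_zero, sub_zero]
  · rw [glAct_mul, glAct_mul, ht, hu'u, mul_one, hS₂, ha2]
    have e1 : Cfsg.hermForm n K q (u' + (β + α ^ q * α') • u) z' = 0 := by
      rw [hh.add_left, hh.smul_left, hu'z', huz', mul_zero, add_zero]
    have e2 : Cfsg.hermForm n K q (u' + (β + α ^ q * α') • u) u = 1 := by
      rw [hh.add_left, hh.smul_left, hu'u, huu, mul_zero, add_zero]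
    rw [e1, e2, hS₁, ha1]
    have e3 : Cfsg.hermForm n K q (u' + (β + α ^ q * α') • u + (-α' ^ q * 0) • u
        - (-α' * 1) • z') z = α' := by
      simp only [hh.sub_left, hh.add_left, hh.smul_left]
      rw [hu'z, huz, hz'z]
      ring
    have e4 : Cfsg.hermForm n K q (u' + (β + α ^ q * α') • u + (-α' ^ q * 0) • u
        - (-α' * 1) • z') u = 1 := by
      simp only [hh.sub_left, hh.add_left, hh.smul_left]
      rw [hu'u, huu, hz'u]
      ring
    rw [e3, e4]
    conv_rhs => rw [hexp]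
    funext i
    simp only [Pi.add_apply, Pi.sub_apply, Pi.smul_apply, smul_eq_mul]
    ring

end Cfsg.Agent.Helper15
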