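import Mathlib
import Cfsg.Agent.Helper15.SUGen7

set_option autoImplicit false

namespace Cfsg.Agent.Helper15

open scoped MatrixGroups

theorem herm4 {K : Type*} [Field K] (q : ℕ) (x y : Fin 4 → K) :
    Cfsg.hermForm 4 K q x y
      = x 0 * y 0 ^ q + x 1 * y 1 ^ q + x 2 * y 2 ^ q + x 3 * y 3 ^ q := by
  unfold Cfsg.hermForm
  rw [Fin.sum_univ_four]

set_option maxHeartbeats 1600000 in
/-- `SU_4(2)` is generated by unitary transvections. -/
theorem suTr_four_two {K : Type*} [Field K] [Fintype K] {q : ℕ} (hK : Fintype.card K = q ^ 2)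
    (hq2 : q = 2) (g : GL (Fin 4) K) (hg : g ∈ Cfsg.GU 4 K q)
    (hdet : (g : Matrix (Fin 4) (Fin 4) K).det = 1) : g ∈ suTr 4 K q := by
  classical
  have hh := hermForm_isHerm hK 4
  have hq := two_le_of_card_sq hK
  have hq0 : q ≠ 0 := by omega
  have hq1 : 1 ≤ q := by omega
  obtain ⟨φ, hφ⟩ := exists_frob hK
  obtain ⟨μ, hμ0, hμ⟩ := exists_norm_neg_one hK
  obtain ⟨l, hl1, hl2⟩ := exists_norm_one_sq_ne hK
  have hlq : 1 - l ^ q ≠ 0 := by
    intro h
    apply hl2
    have h1 : l ^ q = 1 := by linear_combination -h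
    rw [pow_succ, h1, one_mul] at hl1
    rw [hl1, one_pow]
  have hl0 : 1 - l ≠ 0 := by
    intro h
    apply hl2
    have h1 : l = 1 := by linear_combination -h
    rw [h1, one_pow]
  have hμq : μ ^ q ≠ 0 := pow_ne_zero _ hμ0
  have hμ' : μ * μ ^ q = -1 := by rw [← pow_succ']; exact hμ
  obtain ⟨u, hu0, hu1, hu2, hu3⟩ : ∃ u : Fin 4 → K, u 0 = 1 ∧ u 1 = μ ∧ u 2 = 0 ∧ u 3 = 0 :=
    ⟨![1, μ, 0, 0], rfl, rfl, rfl, rfl⟩
  obtain ⟨u2, hv0, hv1, hv2, hv3⟩ : ∃ u2 : Fin 4 → K,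
      u2 0 = 1 ∧ u2 1 = μ * l ∧ u2 2 = 0 ∧ u2 3 = 0 := ⟨![1, μ * l, 0, 0], rfl, rfl, rfl, rfl⟩
  obtain ⟨z, hz0, hz1, hz2, hz3⟩ : ∃ z : Fin 4 → K, z 0 = 0 ∧ z 1 = 0 ∧ z 2 = 1 ∧ z 3 = μ :=
    ⟨![0, 0, 1, μ], rfl, rfl, rfl, rfl⟩
  obtain ⟨z2, hw0, hw1, hw2, hw3⟩ : ∃ z2 : Fin 4 → K,
      z2 0 = 0 ∧ z2 1 = 0 ∧ z2 2 = 1 ∧ z2 3 = μ * l := ⟨![0, 0, 1, μ * l], rfl, rfl, rfl, rfl⟩
  have huu : Cfsg.hermForm 4 K q u u = 0 := by
    rw [herm4]
    simp only [hu0, hu1, hu2, hu3, one_pow, zero_pow hq0, mul_zero, add_zero, mul_one]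
    linear_combination hμ'
  have hu2u2 : Cfsg.hermForm 4 K q u2 u2 = 0 := by
    rw [herm4]
    simp only [hv0, hv1, hv2, hv3, one_pow, zero_pow hq0, mul_zero, add_zero, mul_one, mul_pow]
    rw [pow_succ'] at hl1
    linear_combination (l * l ^ q) * hμ' - hl1
  have huu2 : Cfsg.hermForm 4 K q u u2 = 1 - l ^ q := by
    rw [herm4]
    simp only [hu0, hu1, hu2, hu3, hv0, hv1, hv2, hv3, one_pow, zero_pow hq0, mul_zero, add_zero,
      mul_one, mul_pow, zero_mul]
    linear_combination l ^ q * hμ'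
  have hzz : Cfsg.hermForm 4 K q z z = 0 := by
    rw [herm4]
    simp only [hz0, hz1, hz2, hz3, one_pow, zero_pow hq0, mul_zero, zero_add, mul_one]
    linear_combination hμ'
  have hz2z2 : Cfsg.hermForm 4 K q z2 z2 = 0 := by
    rw [herm4]
    simp only [hw0, hw1, hw2, hw3, one_pow, zero_pow hq0, mul_zero, zero_add, mul_one, mul_pow]
    rw [pow_succ'] at hl1
    linear_combination (l * l ^ q) * hμ' - hl1
  have hzz2 : Cfsg.hermForm 4 K q z z2 = 1 - l ^ q := by
    rw [herm4]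
    simp only [hz0, hz1, hz2, hz3, hw0, hw1, hw2, hw3, one_pow, zero_pow hq0, mul_zero, zero_add,
      mul_one, mul_pow, zero_mul]
    linear_combination l ^ q * hμ'
  have huz : Cfsg.hermForm 4 K q u z = 0 := by
    rw [herm4]
    simp only [hu0, hu1, hu2, hu3, hz0, hz1, hz2, hz3, zero_pow hq0, mul_zero, zero_mul, add_zero]
  have huz2 : Cfsg.hermForm 4 K q u z2 = 0 := by
    rw [herm4]
    simp only [hu0, hu1, hu2, hu3, hw0, hw1, hw2, hw3, zero_pow hq0, mul_zero, zero_mul, add_zero]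
  have hu2z : Cfsg.hermForm 4 K q u2 z = 0 := by
    rw [herm4]
    simp only [hv0, hv1, hv2, hv3, hz0, hz1, hz2, hz3, zero_pow hq0, mul_zero, zero_mul, add_zero]
  have hu2z2 : Cfsg.hermForm 4 K q u2 z2 = 0 := by
    rw [herm4]
    simp only [hv0, hv1, hv2, hv3, hw0, hw1, hw2, hw3, zero_pow hq0, mul_zero, zero_mul, add_zero]
  have hu2u : Cfsg.hermForm 4 K q u2 u = 1 - l := by
    rw [herm4]
    simp only [hu0, hu1, hu2, hu3, hv0, hv1, hv2, hv3, one_pow, zero_pow hq0, mul_zero, add_zero,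
      mul_one]
    linear_combination l * hμ'
  have hz2z : Cfsg.hermForm 4 K q z2 z = 1 - l := by
    rw [herm4]
    simp only [hz0, hz1, hz2, hz3, hw0, hw1, hw2, hw3, one_pow, zero_pow hq0, mul_zero, zero_add,
      mul_one, zero_mul]
    linear_combination l * hμ'
  have hu_ne : u ≠ 0 := by
    intro h
    have := congrFun h 0
    rw [hu0] at this
    exact one_ne_zero this
  -- normalisation
  obtain ⟨c, hc⟩ : ∃ c : K, c = ((1 - l ^ q)⁻¹) ^ q := ⟨_, rfl⟩
  have hcq : c ^ q = (1 - l ^ q)⁻¹ := by rw [hc, pow_card_sq hK]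
  have hc0 : c ≠ 0 := by
    rw [hc]
    exact pow_ne_zero _ (inv_ne_zero hlq)
  have hcq0 : c ^ q ≠ 0 := pow_ne_zero _ hc0
  have huu' : Cfsg.hermForm 4 K q u (c • u2) = 1 := by
    rw [hh.smul_right, huu2, hcq, inv_mul_cancel₀ hlq]
  have hzz' : Cfsg.hermForm 4 K q z (c • z2) = 1 := by
    rw [hh.smul_right, hzz2, hcq, inv_mul_cancel₀ hlq]
  have hu'u' : Cfsg.hermForm 4 K q (c • u2) (c • u2) = 0 := by
    rw [hh.smul_right, hh.smul_left, hu2u2, mul_zero, mul_zero]
  have hz'z' : Cfsg.hermForm 4 K q (c • z2) (c • z2) = 0 := by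
    rw [hh.smul_right, hh.smul_left, hz2z2, mul_zero, mul_zero]
  have huz' : Cfsg.hermForm 4 K q u (c • z2) = 0 := by
    rw [hh.smul_right, huz2, mul_zero]
  have hu'z : Cfsg.hermForm 4 K q (c • u2) z = 0 := by
    rw [hh.smul_left, hu2z, mul_zero]
  have hu'z' : Cfsg.hermForm 4 K q (c • u2) (c • z2) = 0 := by
    rw [hh.smul_right, hh.smul_left, hu2z2, mul_zero, mul_zero]
  have hu'u : Cfsg.hermForm 4 K q (c • u2) u = 1 := by rw [hh.conj u (c • u2), huu', one_pow]
  -- separation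
  have hsep2 : ∀ a b : K, a + b * μ ^ q = 0 → a + b * (μ ^ q * l ^ q) = 0 → a = 0 ∧ b = 0 := by
    intro a b h1 h2
    have h3 : b * (μ ^ q * (1 - l ^ q)) = 0 := by linear_combination h1 - h2
    have h4 : b = 0 := by
      rcases mul_eq_zero.1 h3 with h | h
      · exact h
      · exact absurd h (mul_ne_zero hμq hlq)
    refine ⟨?_, h4⟩
    rw [h4, zero_mul, add_zero] at h1
    exact h1
  have hsep : ∀ x, Cfsg.hermForm 4 K q x u = 0 → Cfsg.hermForm 4 K q x (c • u2) = 0 →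
      Cfsg.hermForm 4 K q x z = 0 → Cfsg.hermForm 4 K q x (c • z2) = 0 → x = 0 := by
    intro x h1 h2 h3 h4
    rw [hh.smul_right] at h2 h4
    have h2' := (mul_eq_zero.1 h2).resolve_left hcq0
    have h4' := (mul_eq_zero.1 h4).resolve_left hcq0
    rw [herm4] at h1 h2' h3 h4'
    simp only [hu0, hu1, hu2, hu3, hv0, hv1, hv2, hv3, hz0, hz1, hz2, hz3, hw0, hw1, hw2, hw3,
      one_pow, zero_pow hq0, mul_zero, add_zero, zero_add, mul_one, mul_pow] at h1 h2' h3 h4'
    obtain ⟨e0, e1⟩ := hsep2 _ _ h1 h2'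
    obtain ⟨e2, e3⟩ := hsep2 _ _ h3 h4'
    funext i
    fin_cases i
    · exact e0
    · exact e1
    · exact e2
    · exact e3
  -- coordinate vectors
  have hue : u = Pi.single 0 1 + μ • Pi.single 1 1 := by
    funext i
    fin_cases i <;> simp [hu0, hu1, hu2, hu3]
  have hu2e : u2 = Pi.single 0 1 + (μ * l) • Pi.single 1 1 := by
    funext i
    fin_cases i <;> simp [hv0, hv1, hv2, hv3]
  have he1 : (Pi.single 1 1 : Fin 4 → K) = (μ * (1 - l))⁻¹ • (u - u2) := by
    rw [hue, hu2e]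
    have h1 : μ * (1 - l) ≠ 0 := mul_ne_zero hμ0 hl0
    funext i
    simp only [Pi.smul_apply, Pi.sub_apply, Pi.add_apply, smul_eq_mul]
    field_simp
    ring
  have he0 : (Pi.single 0 1 : Fin 4 → K) = u - μ • Pi.single 1 1 := by
    rw [hue]
    abel
  -- elements fixing the hyperbolic pair
  have hfixpair : ∀ f : GL (Fin 4) K, f ∈ Cfsg.GU 4 K q →
      (f : Matrix (Fin 4) (Fin 4) K).det = 1 → glAct f u = u → glAct f (c • u2) = c • u2 →
      f ∈ suTr 4 K q := by
    intro f hf hfdet hfu hfu'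
    have hfu2 : glAct f u2 = u2 := by
      rw [glAct_smul] at hfu'
      have := congrArg (fun x => c⁻¹ • x) hfu'
      simp only [smul_smul, inv_mul_cancel₀ hc0, one_smul] at this
      exact this
    have hfe1 : glAct f (Pi.single 1 1) = Pi.single 1 1 := by
      rw [he1, glAct_smul, glAct_sub, hfu, hfu2]
    have hfe0 : glAct f (Pi.single 0 1) = Pi.single 0 1 := by
      rw [he0, glAct_sub, glAct_smul, hfu, hfe1]
    obtain ⟨g₁, hg₁, hfg₁, hdet₁⟩ := gu_fix_zero (n := 3) hq1 f hf hfe0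
    have hcons : (Pi.single 1 1 : Fin 4 → K) = Fin.cons 0 (Pi.single 0 1 : Fin 3 → K) := by
      funext i
      refine Fin.cases ?_ (fun j => ?_) i
      · rw [Fin.cons_zero]
        exact Pi.single_eq_of_ne (by decide) _
      · rw [Fin.cons_succ]
        by_cases hj : j = 0
        · subst hj
          show (Pi.single 1 1 : Fin 4 → K) 1 = (Pi.single 0 1 : Fin 3 → K) 0
          rw [Pi.single_eq_same, Pi.single_eq_same]
        · have hj1 : j.succ ≠ 1 := fun h => hj (Fin.succ_injective _ h)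
          rw [Pi.single_eq_of_ne hj1, Pi.single_eq_of_ne hj]
    have hg₁e : glAct g₁ (Pi.single 0 1) = Pi.single 0 1 := by
      have h1 := hfe1
      rw [hfg₁, hcons] at h1
      have h2 : glAct (glBlk g₁) (Fin.cons 0 (Pi.single 0 1 : Fin 3 → K))
          = Fin.cons 0 (glAct g₁ (Pi.single 0 1)) := glBlk_act_cons g₁ 0 _
      rw [h2] at h1
      have h3 := congrArg Fin.tail h1
      rw [Fin.tail_cons, Fin.tail_cons] at h3
      exact h3
    obtain ⟨g₂, hg₂, hgg₂, hdet₂⟩ := gu_fix_zero (n := 2) hq1 g₁ hg₁ hg₁e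
    have h1 : g₂ ∈ suTr 2 K q := suTr_two hK g₂ hg₂ (by rw [hdet₂, hdet₁, hfdet])
    rw [hfg₁, hgg₂]
    exact glBlk_mem_suTr hq1 _ (glBlk_mem_suTr hq1 _ h1)
  -- scalars
  have hscal : ∀ lam : K, lam ≠ 0 → ∃ d : GL (Fin 4) K, d ∈ suTr 4 K q
      ∧ glAct d u = lam • u := by
    intro lam hlam
    have hlam1 : lam ^ (q + 1) = 1 := by
      have h1 := FiniteField.pow_card_sub_one_eq_one lam hlam
      have h2 : Fintype.card K - 1 = q + 1 := by
        rw [hK, hq2]
        norm_num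
      rw [h2] at h1
      exact h1
    obtain ⟨s, hs, hs00, hs10⟩ := su2_explicit hK lam 0 (by
      rw [hlam1, zero_pow (by omega), add_zero])
    have e00 : Cfsg.hermForm 4 K q (Pi.single 0 1) (Pi.single 0 1) = 1 := by
      rw [hermForm_single hq1, if_pos rfl]
    have e22 : Cfsg.hermForm 4 K q (Pi.single 2 1) (Pi.single 2 1) = 1 := by
      rw [hermForm_single hq1, if_pos rfl]
    have e02 : Cfsg.hermForm 4 K q (Pi.single 0 1) (Pi.single 2 1) = 0 := by
      rw [hermForm_single hq1, if_neg (by decide)]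
    have e11 : Cfsg.hermForm 4 K q (Pi.single 1 1) (Pi.single 1 1) = 1 := by
      rw [hermForm_single hq1, if_pos rfl]
    have e33 : Cfsg.hermForm 4 K q (Pi.single 3 1) (Pi.single 3 1) = 1 := by
      rw [hermForm_single hq1, if_pos rfl]
    have e13 : Cfsg.hermForm 4 K q (Pi.single 1 1) (Pi.single 3 1) = 0 := by
      rw [hermForm_single hq1, if_neg (by decide)]
    obtain ⟨t₁, ht₁, ht₁a, -, ht₁f⟩ := plane_transport hK 2 s hs (Pi.single 0 1) (Pi.single 2 1)
      e00 e22 e02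
    obtain ⟨t₂, ht₂, ht₂a, -, ht₂f⟩ := plane_transport hK 2 s hs (Pi.single 1 1) (Pi.single 3 1)
      e11 e33 e13
    rw [hs00, hs10, zero_smul, add_zero] at ht₁a ht₂a
    have h1 : glAct t₂ (Pi.single 0 1) = Pi.single 0 1 := by
      apply ht₂f
      · rw [hermForm_single hq1, if_neg (by decide)]
      · rw [hermForm_single hq1, if_neg (by decide)]
    have h2 : glAct t₁ (Pi.single 1 1) = Pi.single 1 1 := by
      apply ht₁f
      · rw [hermForm_single hq1, if_neg (by decide)]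
      · rw [hermForm_single hq1, if_neg (by decide)]
    refine ⟨t₁ * t₂, Subgroup.mul_mem _ ht₁ ht₂, ?_⟩
    rw [glAct_mul, hue, glAct_add, glAct_smul, h1, ht₂a, glAct_add, glAct_smul, glAct_smul, ht₁a,
      h2, smul_add, smul_comm μ lam]
  -- the orbit of u
  have hOscal : ∀ x : Fin 4 → K, (∃ t : GL (Fin 4) K, t ∈ suTr 4 K q ∧ glAct t u = x) →
      ∀ lam : K, lam ≠ 0 → ∃ t : GL (Fin 4) K, t ∈ suTr 4 K q ∧ glAct t u = lam • x := by
    rintro x ⟨t, ht, rfl⟩ lam hlam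
    obtain ⟨d, hd, hdu⟩ := hscal lam hlam
    exact ⟨t * d, Subgroup.mul_mem _ ht hd, by rw [glAct_mul, hdu, glAct_smul]⟩
  have hO1 : ∀ y : Fin 4 → K, Cfsg.hermForm 4 K q y y = 0 → Cfsg.hermForm 4 K q y u ≠ 0 →
      ∃ t : GL (Fin 4) K, t ∈ suTr 4 K q ∧ glAct t u = y := by
    intro y hyy hyu
    obtain ⟨t, ht, c', hc'0, htu⟩ := suTr_iso_move hK 4 u y huu hyy hyu
    have h1 := hOscal (c' • y) ⟨t, ht, htu⟩ c'⁻¹ (inv_ne_zero hc'0)
    rw [smul_smul, inv_mul_cancel₀ hc'0, one_smul] at h1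
    exact h1
  have hO : ∀ y : Fin 4 → K, y ≠ 0 → Cfsg.hermForm 4 K q y y = 0 →
      ∃ t : GL (Fin 4) K, t ∈ suTr 4 K q ∧ glAct t u = y := by
    intro y hy0 hyy
    by_cases hyu : Cfsg.hermForm 4 K q y u = 0
    · by_cases hdep : ∃ lam : K, y = lam • u
      · obtain ⟨lam, rfl⟩ := hdep
        have hlam : lam ≠ 0 := by
          rintro rfl
          exact hy0 (zero_smul _ _)
        exact hOscal u ⟨1, Subgroup.one_mem _, glAct_one u⟩ lam hlam
      · have hli1 : LinearIndependent K ![u, z] := by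
          rw [LinearIndependent.pair_iff]
          intro s t hst
          have h0 := congrFun hst 0
          have h2 := congrFun hst 2
          simp only [Pi.add_apply, Pi.smul_apply, smul_eq_mul, hu0, hz0, hu2, hz2, Pi.zero_apply,
            mul_one, mul_zero, add_zero, zero_add] at h0 h2
          exact ⟨h0, h2⟩
        have hli2 : LinearIndependent K ![u, y] := by
          rw [LinearIndependent.pair_iff]
          intro s t hst
          have ht0 : t = 0 := by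
            by_contra ht0
            apply hdep
            refine ⟨-(s / t), ?_⟩
            have h1 : t • y = -(s • u) := by
              rw [eq_neg_iff_add_eq_zero, add_comm]
              exact hst
            have h2 := congrArg (fun x => t⁻¹ • x) h1
            simp only [smul_smul, inv_mul_cancel₀ ht0, one_smul, smul_neg] at h2
            rw [h2, neg_smul]
            congr 2
            field_simp
          refine ⟨?_, ht0⟩
          rw [ht0, zero_smul, add_zero] at hst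
          rcases smul_eq_zero.1 hst with h | h
          · exact h
          · exact absurd h hu_ne
        have huy : Cfsg.hermForm 4 K q u y = 0 := hh.swap_zero hq1 _ _ hyu
        obtain ⟨M, hM, hMu, hMz⟩ := gu_pair_transitive hK 4 u z u y hli1 hli2 rfl
          (by rw [huz, huy]) (by rw [hzz, hyy])
        have hzzz : Cfsg.hermForm 4 K q (glAct M (u2 + z2)) (glAct M (u2 + z2)) = 0 := by
          rw [glAct_pres M hM, hh.add_left, hh.add_right hK, hh.add_right hK, hu2u2, hz2z2, hu2z2,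
            hh.swap_zero hq1 _ _ hu2z2]
          ring
        have hzu : Cfsg.hermForm 4 K q (glAct M (u2 + z2)) u ≠ 0 := by
          rw [← hMu, glAct_pres M hM, hh.add_left, hu2u, hh.swap_zero hq1 _ _ huz2, add_zero]
          exact hl0
        have hyz : Cfsg.hermForm 4 K q y (glAct M (u2 + z2)) ≠ 0 := by
          rw [← hMz, glAct_pres M hM, hh.add_right hK, hh.swap_zero hq1 _ _ hu2z, hzz2, zero_add]
          exact hlq
        obtain ⟨t, ht, htu⟩ := hO1 _ hzzz hzu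
        obtain ⟨t', ht', c', hc'0, ht'z⟩ := suTr_iso_move hK 4 (glAct M (u2 + z2)) y hzzz hyy hyz
        have h1 := hOscal (c' • y) ⟨t' * t, Subgroup.mul_mem _ ht' ht, by
          rw [glAct_mul, htu, ht'z]⟩ c'⁻¹ (inv_ne_zero hc'0)
        rw [smul_smul, inv_mul_cancel₀ hc'0, one_smul] at h1
        exact h1
    · exact hO1 y hyy hyu
  -- assembly
  have hgu_iso : Cfsg.hermForm 4 K q (glAct g u) (glAct g u) = 0 := by
    rw [glAct_pres g hg]
    exact huu
  obtain ⟨t₁, ht₁, ht₁u⟩ := hO (glAct g u) (glAct_ne_zero g u hu_ne) hgu_iso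
  have hg₁G : t₁⁻¹ * g ∈ Cfsg.GU 4 K q :=
    Subgroup.mul_mem _ (Subgroup.inv_mem _ (suTr_le_GU _ K q ht₁)) hg
  have hg₁u : glAct (t₁⁻¹ * g) u = u := by
    rw [glAct_mul, ← ht₁u, glAct_inv_left]
  have hyy : Cfsg.hermForm 4 K q (glAct (t₁⁻¹ * g) (c • u2)) (glAct (t₁⁻¹ * g) (c • u2)) = 0 := by
    rw [glAct_pres _ hg₁G]
    exact hu'u'
  have hyu : Cfsg.hermForm 4 K q (glAct (t₁⁻¹ * g) (c • u2)) u = 1 := by
    rw [← hg₁u, glAct_pres _ hg₁G]
    exact hu'u
  obtain ⟨e, he, heu, heu'⟩ := suTr_eichler hK 4 u (c • u2) z (c • z2) huu hu'u' hzz hz'z' huu'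
    hzz' huz huz' hu'z hu'z' hsep _ hyy hyu
  have hg₂ : e⁻¹ * (t₁⁻¹ * g) ∈ suTr 4 K q := by
    apply hfixpair
    · exact Subgroup.mul_mem _ (Subgroup.inv_mem _ (suTr_le_GU _ K q he)) hg₁G
    · rw [Units.val_mul, Units.val_mul, Matrix.det_mul, Matrix.det_mul,
        suTr_det _ (Subgroup.inv_mem _ he), suTr_det _ (Subgroup.inv_mem _ ht₁), hdet]
      ring
    · rw [glAct_mul, hg₁u]
      nth_rewrite 1 [← heu]
      rw [glAct_inv_left]
    · rw [glAct_mul, ← heu', glAct_inv_left]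
  have h3 : g = t₁ * (e * (e⁻¹ * (t₁⁻¹ * g))) := by group
  rw [h3]
  exact Subgroup.mul_mem _ ht₁ (Subgroup.mul_mem _ he hg₂)

end Cfsg.Agent.Helper15
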