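import Mathlib
import Cfsg.Agent.Helper15.SUGen8

set_option autoImplicit false

namespace Cfsg.Agent.Helper15

open scoped MatrixGroups

/-- Every element of `GU_n(q)` of determinant one is a product of unitary transvections,
for `n ≥ 2`, `(n, q) ≠ (3, 2)`. -/
theorem suTr_all {K : Type*} [Field K] [Fintype K] {q : ℕ} (hK : Fintype.card K = q ^ 2) :
    ∀ m : ℕ, ¬(m = 1 ∧ q = 2) → ∀ g : GL (Fin (m + 2)) K, g ∈ Cfsg.GU (m + 2) K q →
      (g : Matrix (Fin (m + 2)) (Fin (m + 2)) K).det = 1 → g ∈ suTr (m + 2) K q := by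
  intro m
  induction m with
  | zero =>
    intro _ g hg hdet
    exact suTr_two hK g hg hdet
  | succ k ih =>
    intro hkq g hg hdet
    by_cases hk2 : k = 1 ∧ q = 2
    · obtain ⟨rfl, hq2⟩ := hk2
      exact suTr_four_two hK hq2 g hg hdet
    · by_cases hk0 : k = 0
      · subst hk0
        have hq2 : q ≠ 2 := fun h => hkq ⟨rfl, h⟩
        exact suTr_step hK 0 (fun h => hq2 h.2) (ih (fun h => by omega)) g hg hdet
      · by_cases hk1 : k = 1
        · subst hk1
          have hq2 : q ≠ 2 := fun h => hk2 ⟨rfl, h⟩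
          exact suTr_step hK 1 (fun h => hq2 h.2) (ih (fun h => hq2 h.2)) g hg hdet
        · exact suTr_step hK k (fun h => hk0 h.1) (ih (fun h => hk1 h.1)) g hg hdet

theorem su_gen_transv {F : Type*} [Field F] [Fintype F] {q : ℕ} (hF : Fintype.card F = q ^ 2)
    (n : ℕ) (hn : 3 ≤ n) (h32 : ¬(n = 3 ∧ q = 2)) :
    Subgroup.closure {g : Cfsg.SU n F q | ∃ (v : Fin n → F) (c : F),
      Cfsg.hermForm n F q v v = 0 ∧ g.1.1 = Cfsg.unitaryTransvection n q v c} = ⊤ := by
  rw [eq_top_iff]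
  intro A _
  obtain ⟨m, rfl⟩ : ∃ m, n = m + 2 := ⟨n - 2, by omega⟩
  apply suTr_transfer hF (m + 2) A
  apply suTr_all hF m (fun h => h32 ⟨by omega, h.2⟩)
  · exact (mem_GU_iff _ _ _).2 ((mem_SU_iff _ _ _).1 A.2)
  · exact A.1.2

end Cfsg.Agent.Helper15
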