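import Mathlib
import Cfsg.Agent.Helper15.SUParab

set_option autoImplicit false

namespace Cfsg.Agent.Helper15

open scoped MatrixGroups

theorem herm_hyp_partner {K : Type*} [Field K] [Fintype K] {q : ℕ}
    (hK : Fintype.card K = q ^ 2) {V : Type*} [AddCommGroup V] [Module K V]
    {h : V → V → K} (hh : IsHerm q h) (w : V) (hw0 : w ≠ 0) (hww : h w w = 0) :
    ∃ w', h w' w' = 0 ∧ h w w' = 1 := by
  obtain ⟨φ, hφ⟩ := exists_frob hK
  have hq := two_le_of_card_sq hK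
  have hex : ∃ y, h w y ≠ 0 := by
    by_contra hcon
    push Not at hcon
    exact hw0 (hh.nondeg w hcon)
  obtain ⟨y0, hy0⟩ := hex
  obtain ⟨y, hy⟩ : ∃ y, h w y = 1 := by
    refine ⟨((h w y0)⁻¹ ^ q) • y0, ?_⟩
    rw [hh.smul_right, pow_card_sq hK, inv_mul_cancel₀ hy0]
  obtain ⟨θ, hθ⟩ := exists_trace_one hK
  have hyw : h y w = 1 := by rw [hh.conj w y, hy, one_pow]
  have hyy : (h y y) ^ q = h y y := (hh.conj y y).symm
  refine ⟨y + (-(h y y) * θ) • w, ?_, ?_⟩
  · rw [hh.add_left, hh.add_right hK, hh.add_right hK, hh.smul_left, hh.smul_left,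
      hh.smul_right, hh.smul_right, hww, hyw, hy]
    have h1 : (-(h y y) * θ) ^ q = -(h y y) * θ ^ q := by
      rw [← hφ, map_mul, map_neg, hφ, hφ, hyy]
    rw [h1]
    linear_combination (-(h y y)) * hθ
  · rw [hh.add_right hK, hh.smul_right, hww, hy, mul_zero, add_zero]

theorem herm_hyp_rot_iso {K : Type*} [Field K] [Fintype K] {q : ℕ}
    (hK : Fintype.card K = q ^ 2) {V : Type*} [AddCommGroup V] [Module K V]
    {h : V → V → K} (hh : IsHerm q h) (w w' : V) (hww : h w w = 0) (hw'w' : h w' w' = 0)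
    (hww' : h w w' = 1) (a : K) (ha : a ≠ 0) (x y : V) :
    h (x + ((a - 1) * h x w') • w + ((a⁻¹ ^ q - 1) * h x w) • w')
      (y + ((a - 1) * h y w') • w + ((a⁻¹ ^ q - 1) * h y w) • w') = h x y := by
  obtain ⟨φ, hφ⟩ := exists_frob hK
  have hq := two_le_of_card_sq hK
  have hw'w : h w' w = 1 := by rw [hh.conj w w', hww', one_pow]
  have hwy : h w y = (h y w) ^ q := hh.conj y w
  have hw'y : h w' y = (h y w') ^ q := hh.conj y w'
  have hC : ((a - 1) * h y w') ^ q = (a ^ q - 1) * (h y w') ^ q := by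
    rw [← hφ, map_mul, map_sub, map_one, hφ, hφ]
  have hD : ((a⁻¹ ^ q - 1) * h y w) ^ q = (a⁻¹ - 1) * (h y w) ^ q := by
    rw [← hφ, map_mul, map_sub, map_one, hφ, hφ, pow_card_sq hK]
  have hab : a * a⁻¹ = 1 := mul_inv_cancel₀ ha
  have hab' : a ^ q * a⁻¹ ^ q = 1 := by rw [← mul_pow, hab, one_pow]
  simp only [hh.add_left, hh.smul_left, hh.add_right hK, hh.smul_right]
  rw [hC, hD, hww, hw'w', hww', hw'w, hwy, hw'y]
  linear_combination (h x w * (h y w') ^ q) * hab' + (h x w' * (h y w) ^ q) * hab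

theorem norm_one_quot {K : Type*} [Field K] [Fintype K] {q : ℕ}
    (hK : Fintype.card K = q ^ 2) (x : K) (hx : x ^ (q + 1) = 1) :
    ∃ a : K, a ≠ 0 ∧ a * a⁻¹ ^ q = x := by
  obtain ⟨φ, hφ⟩ := exists_frob hK
  have key : ∀ a : K, a ≠ 0 → a = x * a ^ q → a * a⁻¹ ^ q = x := by
    intro a ha hax
    have h1 : a ^ q ≠ 0 := pow_ne_zero _ ha
    rw [inv_pow]
    field_simp
    linear_combination hax
  by_cases h1 : 1 + x = 0
  · obtain ⟨c, hc⟩ := exists_not_fixed hK
    have hx' : x = -1 := by linear_combination h1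
    refine ⟨c - c ^ q, sub_ne_zero.2 (Ne.symm hc), ?_⟩
    apply key _ (sub_ne_zero.2 (Ne.symm hc))
    have e : (c - c ^ q) ^ q = c ^ q - c := by
      rw [← hφ (c - c ^ q), map_sub, hφ, hφ, pow_card_sq hK]
    rw [e, hx']
    ring
  · refine ⟨1 + x, h1, ?_⟩
    apply key _ h1
    have e : (1 + x) ^ q = 1 + x ^ q := by
      rw [← hφ (1 + x), map_add, map_one, hφ]
    rw [e]
    rw [pow_succ] at hx
    linear_combination -hx

theorem gu_hyp_rot {K : Type*} [Field K] [Fintype K] {q : ℕ}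
    (hK : Fintype.card K = q ^ 2) (n : ℕ) (w w' : Fin n → K)
    (hww : Cfsg.hermForm n K q w w = 0) (hw'w' : Cfsg.hermForm n K q w' w' = 0)
    (hww' : Cfsg.hermForm n K q w w' = 1) (a : K) (ha : a ≠ 0) :
    ∃ M : GL (Fin n) K, M ∈ Cfsg.GU n K q ∧ (M : Matrix (Fin n) (Fin n) K).det = a * a⁻¹ ^ q
      ∧ ∀ x, (M : Matrix (Fin n) (Fin n) K).mulVec x
        = x + ((a - 1) * Cfsg.hermForm n K q x w') • w
          + ((a⁻¹ ^ q - 1) * Cfsg.hermForm n K q x w) • w' := by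
  classical
  have hh := hermForm_isHerm hK n
  have hw'w : Cfsg.hermForm n K q w' w = 1 := by rw [hh.conj w w', hww', one_pow]
  obtain ⟨A, hA⟩ : ∃ A : Matrix (Fin n) (Fin 2) K,
      (∀ i, A i 0 = (a - 1) * w i) ∧ (∀ i, A i 1 = (a⁻¹ ^ q - 1) * w' i) :=
    ⟨Matrix.of (fun i j => if j = 0 then (a - 1) * w i else (a⁻¹ ^ q - 1) * w' i),
      fun i => rfl, fun i => rfl⟩
  obtain ⟨B, hB⟩ : ∃ B : Matrix (Fin 2) (Fin n) K,
      (∀ i, B 0 i = w' i ^ q) ∧ (∀ i, B 1 i = w i ^ q) :=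
    ⟨Matrix.of (fun j i => if j = 0 then w' i ^ q else w i ^ q), fun i => rfl, fun i => rfl⟩
  have hBx : ∀ x : Fin n → K, B.mulVec x 0 = Cfsg.hermForm n K q x w'
      ∧ B.mulVec x 1 = Cfsg.hermForm n K q x w := by
    intro x
    constructor
    · show ∑ i, B 0 i * x i = ∑ i, x i * w' i ^ q
      exact Finset.sum_congr rfl (fun i _ => by rw [hB.1, mul_comm])
    · show ∑ i, B 1 i * x i = ∑ i, x i * w i ^ q
      exact Finset.sum_congr rfl (fun i _ => by rw [hB.2, mul_comm])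
  have hAy : ∀ y : Fin 2 → K, A.mulVec y = (((a - 1) * y 0) • w) + (((a⁻¹ ^ q - 1) * y 1) • w') := by
    intro y
    funext i
    show ∑ j, A i j * y j = _
    rw [Fin.sum_univ_two, hA.1, hA.2]
    simp only [Pi.add_apply, Pi.smul_apply, smul_eq_mul]
    ring
  have hmv : ∀ x, (1 + A * B).mulVec x = x + ((a - 1) * Cfsg.hermForm n K q x w') • w
          + ((a⁻¹ ^ q - 1) * Cfsg.hermForm n K q x w) • w' := by
    intro x
    rw [Matrix.add_mulVec, Matrix.one_mulVec, ← Matrix.mulVec_mulVec, hAy, (hBx x).1, (hBx x).2,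
      add_assoc]
  have hBA : B * A = Matrix.of ![![a - 1, 0], ![0, a⁻¹ ^ q - 1]] := by
    have e00 : (B * A) 0 0 = a - 1 := by
      show ∑ i, B 0 i * A i 0 = _
      have h1 : ∑ i, B 0 i * A i 0 = (a - 1) * Cfsg.hermForm n K q w w' := by
        unfold Cfsg.hermForm
        rw [Finset.mul_sum]
        exact Finset.sum_congr rfl (fun i _ => by rw [hB.1, hA.1]; ring)
      rw [h1, hww', mul_one]
    have e01 : (B * A) 0 1 = 0 := by
      show ∑ i, B 0 i * A i 1 = _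
      have h1 : ∑ i, B 0 i * A i 1 = (a⁻¹ ^ q - 1) * Cfsg.hermForm n K q w' w' := by
        unfold Cfsg.hermForm
        rw [Finset.mul_sum]
        exact Finset.sum_congr rfl (fun i _ => by rw [hB.1, hA.2]; ring)
      rw [h1, hw'w', mul_zero]
    have e10 : (B * A) 1 0 = 0 := by
      show ∑ i, B 1 i * A i 0 = _
      have h1 : ∑ i, B 1 i * A i 0 = (a - 1) * Cfsg.hermForm n K q w w := by
        unfold Cfsg.hermForm
        rw [Finset.mul_sum]
        exact Finset.sum_congr rfl (fun i _ => by rw [hB.2, hA.1]; ring)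
      rw [h1, hww, mul_zero]
    have e11 : (B * A) 1 1 = a⁻¹ ^ q - 1 := by
      show ∑ i, B 1 i * A i 1 = _
      have h1 : ∑ i, B 1 i * A i 1 = (a⁻¹ ^ q - 1) * Cfsg.hermForm n K q w' w := by
        unfold Cfsg.hermForm
        rw [Finset.mul_sum]
        exact Finset.sum_congr rfl (fun i _ => by rw [hB.2, hA.2]; ring)
      rw [h1, hw'w, mul_one]
    ext i j
    fin_cases i <;> fin_cases j
    · exact e00
    · exact e01
    · exact e10
    · exact e11
  have hdet : (1 + A * B).det = a * a⁻¹ ^ q := by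
    rw [Matrix.det_one_add_mul_comm, hBA, Matrix.det_fin_two]
    simp
  have hdet0 : (1 + A * B).det ≠ 0 := by
    rw [hdet]
    exact mul_ne_zero ha (pow_ne_zero _ (inv_ne_zero ha))
  refine ⟨Matrix.GeneralLinearGroup.mkOfDetNeZero (1 + A * B) hdet0, ?_, hdet, hmv⟩
  rw [mem_GU_iff]
  intro u v
  show Cfsg.hermForm n K q ((1 + A * B).mulVec u) ((1 + A * B).mulVec v) = _
  rw [hmv, hmv]
  exact herm_hyp_rot_iso hK hh w w' hww hw'w' hww' a ha u v

end Cfsg.Agent.Helper15
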