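import Mathlib
import Cfsg.Agent.Helper15.SUGen9
import Cfsg.Agent.Helper15.SUParab2
import Cfsg.Agent.Helper15.SUComm

set_option autoImplicit false

namespace Cfsg.Agent.Helper15

open scoped MatrixGroups

theorem iso_pair_li {K : Type*} [Field K] [Fintype K] {q : ℕ} (hK : Fintype.card K = q ^ 2)
    {V : Type*} [AddCommGroup V] [Module K V] {h : V → V → K} (hh : IsHerm q h) (u v : V)
    (huu : h u u = 0) (huv : h u v ≠ 0) : LinearIndependent K ![u, v] := by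
  have hq := two_le_of_card_sq hK
  rw [LinearIndependent.pair_iff]
  intro s t hst
  have h1 : h u (s • u + t • v) = 0 := by rw [hst, hh.zero_right (by omega)]
  rw [hh.add_right hK, hh.smul_right, hh.smul_right, huu, mul_zero, zero_add] at h1
  have ht : t = 0 := by
    rcases mul_eq_zero.1 h1 with h2 | h2
    · exact (pow_eq_zero_iff (by omega)).1 h2
    · exact absurd h2 huv
  refine ⟨?_, ht⟩
  rw [ht, zero_smul, add_zero] at hst
  rcases smul_eq_zero.1 hst with h2 | h2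
  · exact h2
  · exfalso
    apply huv
    rw [h2, hh.zero_left]

/-- A hyperbolic partner of `u` with prescribed product against an orthogonal vector `v`. -/
theorem herm_partner {K : Type*} [Field K] [Fintype K] {q : ℕ} (hK : Fintype.card K = q ^ 2)
    {V : Type*} [AddCommGroup V] [Module K V] {h : V → V → K} (hh : IsHerm q h) (u v : V)
    (hli : LinearIndependent K ![u, v]) (huu : h u u = 0) (huv : h u v = 0) (c : K) :
    ∃ w, h w w = 0 ∧ h u w = 1 ∧ h w v = c := by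
  obtain ⟨φ, hφ⟩ := exists_frob hK
  have hq := two_le_of_card_sq hK
  obtain ⟨z, hz⟩ := hermPsi_surjective hK hh ![u, v] hli ![1, c]
  have hzu : h z u = 1 := by
    have h1 := congrFun hz 0
    rw [hermPsi_apply] at h1
    exact h1
  have hzv : h z v = c := by
    have h1 := congrFun hz 1
    rw [hermPsi_apply] at h1
    exact h1
  have huz : h u z = 1 := by rw [hh.conj z u, hzu, one_pow]
  obtain ⟨θ, hθ⟩ := exists_trace_one hK
  have hzz : h z z ^ q = h z z := (hh.conj z z).symm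
  refine ⟨z + (-(h z z) * θ) • u, ?_, ?_, ?_⟩
  · rw [herm_expand hK hh, hzu, huz, huu, ← hφ (-(h z z) * θ), map_mul, map_neg, hφ, hφ, hzz]
    linear_combination (-(h z z)) * hθ
  · rw [hh.add_right hK, hh.smul_right, huz, huu, mul_zero, add_zero]
  · rw [hh.add_left, hh.smul_left, hzv, huv, mul_zero, add_zero]

theorem gu_to_su {K : Type*} [Field K] {n q : ℕ} (g : GL (Fin n) K) (hg : g ∈ Cfsg.GU n K q)
    (hdet : (g : Matrix (Fin n) (Fin n) K).det = 1) :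
    ∃ A : ↥(Cfsg.SU n K q), ∀ x, suAct A x = glAct g x :=
  ⟨⟨⟨(g : Matrix (Fin n) (Fin n) K), hdet⟩,
    (mem_SU_iff n q _).2 ((mem_GU_iff n q g).1 hg)⟩, fun _ => rfl⟩

theorem suAct_ne_zero {K : Type*} [Field K] {n q : ℕ} (A : ↥(Cfsg.SU n K q)) (v : Fin n → K)
    (hv : v ≠ 0) : suAct A v ≠ 0 := by
  intro h
  apply hv
  rw [← suAct_inv_left A v, h, suAct_zero]

/-- `SU` is transitive on pairs of non-orthogonal isotropic points. -/
theorem su_pair_nonorth {K : Type*} [Field K] [Fintype K] {q : ℕ} (hK : Fintype.card K = q ^ 2)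
    (n : ℕ) (u v₁ v₂ : Fin n → K) (huu : Cfsg.hermForm n K q u u = 0)
    (h11 : Cfsg.hermForm n K q v₁ v₁ = 0) (h22 : Cfsg.hermForm n K q v₂ v₂ = 0)
    (h1 : Cfsg.hermForm n K q u v₁ ≠ 0) (h2 : Cfsg.hermForm n K q u v₂ ≠ 0) :
    ∃ (A : ↥(Cfsg.SU n K q)) (a b : K), a ≠ 0 ∧ b ≠ 0 ∧ suAct A u = a • u
      ∧ suAct A v₁ = b • v₂ := by
  classical
  have hh := hermForm_isHerm hK n
  have hq := two_le_of_card_sq hK
  obtain ⟨c₁, hc₁⟩ : ∃ c : K, c = ((Cfsg.hermForm n K q u v₁)⁻¹) ^ q := ⟨_, rfl⟩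
  obtain ⟨c₂, hc₂⟩ : ∃ c : K, c = ((Cfsg.hermForm n K q u v₂)⁻¹) ^ q := ⟨_, rfl⟩
  have hc₁0 : c₁ ≠ 0 := by
    rw [hc₁]
    exact pow_ne_zero _ (inv_ne_zero h1)
  have hc₂0 : c₂ ≠ 0 := by
    rw [hc₂]
    exact pow_ne_zero _ (inv_ne_zero h2)
  have e1 : Cfsg.hermForm n K q u (c₁ • v₁) = 1 := by
    rw [hh.smul_right, hc₁, pow_card_sq hK, inv_mul_cancel₀ h1]
  have e2 : Cfsg.hermForm n K q u (c₂ • v₂) = 1 := by
    rw [hh.smul_right, hc₂, pow_card_sq hK, inv_mul_cancel₀ h2]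
  have f1 : Cfsg.hermForm n K q (c₁ • v₁) (c₁ • v₁) = 0 := by
    rw [hh.smul_right, hh.smul_left, h11, mul_zero, mul_zero]
  have f2 : Cfsg.hermForm n K q (c₂ • v₂) (c₂ • v₂) = 0 := by
    rw [hh.smul_right, hh.smul_left, h22, mul_zero, mul_zero]
  have hli1 : LinearIndependent K ![u, c₁ • v₁] :=
    iso_pair_li hK hh u _ huu (by rw [e1]; exact one_ne_zero)
  have hli2 : LinearIndependent K ![u, c₂ • v₂] :=
    iso_pair_li hK hh u _ huu (by rw [e2]; exact one_ne_zero)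
  obtain ⟨M, hM, hMu, hMv⟩ := gu_pair_transitive hK n u (c₁ • v₁) u (c₂ • v₂) hli1 hli2 rfl
    (by rw [e1, e2]) (by rw [f1, f2])
  have hdet := gu_det_pow hK n M hM
  have hdet0 : (M : Matrix (Fin n) (Fin n) K).det ≠ 0 := by
    intro h
    rw [h, zero_pow (by omega)] at hdet
    exact zero_ne_one hdet
  obtain ⟨a, ha0, ha⟩ := norm_one_quot hK ((M : Matrix (Fin n) (Fin n) K).det)⁻¹
    (by rw [inv_pow, hdet, inv_one])
  obtain ⟨D, hD, hDdet, hDx⟩ := gu_hyp_rot hK n u (c₂ • v₂) huu f2 e2 a ha0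
  obtain ⟨A, hA⟩ := gu_to_su (D * M) (Subgroup.mul_mem _ hD hM) (by
    rw [Units.val_mul, Matrix.det_mul, hDdet, ha, inv_mul_cancel₀ hdet0])
  have e2' : Cfsg.hermForm n K q (c₂ • v₂) u = 1 := by rw [hh.conj u (c₂ • v₂), e2, one_pow]
  have hDu : glAct D u = a • u := by
    show (D : Matrix (Fin n) (Fin n) K).mulVec u = a • u
    rw [hDx, e2, huu, mul_one, mul_zero, zero_smul, add_zero, sub_smul, one_smul]
    exact add_sub_cancel _ _
  have hDv : glAct D (c₂ • v₂) = (a⁻¹ ^ q) • (c₂ • v₂) := by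
    show (D : Matrix (Fin n) (Fin n) K).mulVec (c₂ • v₂) = _
    rw [hDx, f2, e2', mul_zero, zero_smul, add_zero, mul_one, sub_smul, one_smul]
    exact add_sub_cancel _ _
  refine ⟨A, a, c₁⁻¹ * (a⁻¹ ^ q * c₂), ha0, ?_, ?_, ?_⟩
  · exact mul_ne_zero (inv_ne_zero hc₁0) (mul_ne_zero (pow_ne_zero _ (inv_ne_zero ha0)) hc₂0)
  · rw [hA, glAct_mul, hMu, hDu]
  · have h3 : suAct A (c₁ • v₁) = (a⁻¹ ^ q) • (c₂ • v₂) := by rw [hA, glAct_mul, hMv, hDv]
    have h5 : suAct A v₁ = c₁⁻¹ • suAct A (c₁ • v₁) := by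
      rw [suAct_smul, smul_smul, inv_mul_cancel₀ hc₁0, one_smul]
    rw [h5, h3, smul_smul, smul_smul, mul_assoc]

/-- `SU` is transitive on pairs of distinct orthogonal isotropic points. -/
theorem su_pair_orth {K : Type*} [Field K] [Fintype K] {q : ℕ} (hK : Fintype.card K = q ^ 2)
    (n : ℕ) (u v₁ v₂ : Fin n → K) (huu : Cfsg.hermForm n K q u u = 0)
    (h11 : Cfsg.hermForm n K q v₁ v₁ = 0) (h22 : Cfsg.hermForm n K q v₂ v₂ = 0)
    (h1 : Cfsg.hermForm n K q u v₁ = 0) (h2 : Cfsg.hermForm n K q u v₂ = 0)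
    (hli1 : LinearIndependent K ![u, v₁]) (hli2 : LinearIndependent K ![u, v₂]) :
    ∃ (A : ↥(Cfsg.SU n K q)) (a b : K), a ≠ 0 ∧ b ≠ 0 ∧ suAct A u = a • u
      ∧ suAct A v₁ = b • v₂ := by
  classical
  have hh := hermForm_isHerm hK n
  have hq := two_le_of_card_sq hK
  have hq1 : 1 ≤ q := by omega
  obtain ⟨M, hM, hMu, hMv⟩ := gu_pair_transitive hK n u v₁ u v₂ hli1 hli2 rfl
    (by rw [h1, h2]) (by rw [h11, h22])
  have hdet := gu_det_pow hK n M hM
  have hdet0 : (M : Matrix (Fin n) (Fin n) K).det ≠ 0 := by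
    intro h
    rw [h, zero_pow (by omega)] at hdet
    exact zero_ne_one hdet
  obtain ⟨a, ha0, ha⟩ := norm_one_quot hK ((M : Matrix (Fin n) (Fin n) K).det)⁻¹
    (by rw [inv_pow, hdet, inv_one])
  obtain ⟨w, hww, huw, hwv⟩ := herm_partner hK hh u v₂ hli2 huu h2 0
  obtain ⟨D, hD, hDdet, hDx⟩ := gu_hyp_rot hK n u w huu hww huw a ha0
  obtain ⟨A, hA⟩ := gu_to_su (D * M) (Subgroup.mul_mem _ hD hM) (by
    rw [Units.val_mul, Matrix.det_mul, hDdet, ha, inv_mul_cancel₀ hdet0])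
  have hDu : glAct D u = a • u := by
    show (D : Matrix (Fin n) (Fin n) K).mulVec u = a • u
    rw [hDx, huw, huu, mul_one, mul_zero, zero_smul, add_zero, sub_smul, one_smul]
    exact add_sub_cancel _ _
  have hvw : Cfsg.hermForm n K q v₂ w = 0 := hh.swap_zero hq1 _ _ hwv
  have hv2u : Cfsg.hermForm n K q v₂ u = 0 := hh.swap_zero hq1 _ _ h2
  have hDv : glAct D v₂ = v₂ := by
    show (D : Matrix (Fin n) (Fin n) K).mulVec v₂ = v₂
    rw [hDx, hvw, hv2u, mul_zero, mul_zero, zero_smul, zero_smul, add_zero, add_zero]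
  refine ⟨A, a, 1, ha0, one_ne_zero, ?_, ?_⟩
  · rw [hA, glAct_mul, hMu, hDu]
  · rw [hA, glAct_mul, hMv, hDv, one_smul]

end Cfsg.Agent.Helper15
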