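import Mathlib
import Cfsg.Agent.Helper15.PSU1

set_option autoImplicit false

namespace Cfsg.Agent.Helper15

open scoped MatrixGroups Pointwise

/-- Isotropic points of the unitary space. -/
@[ext]
structure IsoPt (n : ℕ) (K : Type*) [Field K] (q : ℕ) where
  L : Submodule K (Fin n → K)
  ex : ∃ v : Fin n → K, v ≠ 0 ∧ Cfsg.hermForm n K q v v = 0 ∧ L = Submodule.span K {v}

theorem su_map_span {K : Type*} [Field K] {n q : ℕ} (A : ↥(Cfsg.SU n K q)) (v : Fin n → K) :
    (Submodule.span K {v}).map (Matrix.mulVecLin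
      ((A : Matrix.SpecialLinearGroup (Fin n) K) : Matrix (Fin n) (Fin n) K))
      = Submodule.span K {suAct A v} := by
  rw [Submodule.map_span, Set.image_singleton]
  rfl

noncomputable instance isoPtAction {K : Type*} [Field K] {n q : ℕ} :
    MulAction ↥(Cfsg.SU n K q) (IsoPt n K q) where
  smul A p := ⟨p.L.map (Matrix.mulVecLin
      ((A : Matrix.SpecialLinearGroup (Fin n) K) : Matrix (Fin n) (Fin n) K)), by
    obtain ⟨v, hv0, hvv, hL⟩ := p.ex
    refine ⟨suAct A v, suAct_ne_zero A v hv0, ?_, ?_⟩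
    · rw [suAct_pres]
      exact hvv
    · rw [hL]
      exact su_map_span A v⟩
  one_smul p := by
    apply IsoPt.ext
    show p.L.map (Matrix.mulVecLin (((1 : ↥(Cfsg.SU n K q)) :
      Matrix.SpecialLinearGroup (Fin n) K) : Matrix (Fin n) (Fin n) K)) = p.L
    rw [Subgroup.coe_one, Matrix.SpecialLinearGroup.coe_one, Matrix.mulVecLin_one,
      Submodule.map_id]
  mul_smul A B p := by
    apply IsoPt.ext
    show p.L.map (Matrix.mulVecLin (((A * B : ↥(Cfsg.SU n K q)) :
        Matrix.SpecialLinearGroup (Fin n) K) : Matrix (Fin n) (Fin n) K))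
      = (p.L.map (Matrix.mulVecLin
          ((B : Matrix.SpecialLinearGroup (Fin n) K) : Matrix (Fin n) (Fin n) K))).map
        (Matrix.mulVecLin
          ((A : Matrix.SpecialLinearGroup (Fin n) K) : Matrix (Fin n) (Fin n) K))
    rw [Subgroup.coe_mul, Matrix.SpecialLinearGroup.coe_mul, Matrix.mulVecLin_mul,
      Submodule.map_comp]

theorem isoPt_smul_L {K : Type*} [Field K] {n q : ℕ} (A : ↥(Cfsg.SU n K q))
    (p : IsoPt n K q) :
    (A • p).L = p.L.map (Matrix.mulVecLin
      ((A : Matrix.SpecialLinearGroup (Fin n) K) : Matrix (Fin n) (Fin n) K)) := rfl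

theorem mem_smul_L {K : Type*} [Field K] {n q : ℕ} (A : ↥(Cfsg.SU n K q))
    (p : IsoPt n K q) (y : Fin n → K) :
    y ∈ (A • p).L ↔ ∃ l ∈ p.L, suAct A l = y := by
  rw [isoPt_smul_L, Submodule.mem_map]
  rfl

theorem smul_span_L {K : Type*} [Field K] {n q : ℕ} (A : ↥(Cfsg.SU n K q))
    (p : IsoPt n K q) (v : Fin n → K) (hL : p.L = Submodule.span K {v}) :
    (A • p).L = Submodule.span K {suAct A v} := by
  rw [isoPt_smul_L, hL]
  exact su_map_span A v

theorem su_isoPt_pretransitive {K : Type*} [Field K] [Fintype K] {q : ℕ}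
    (hK : Fintype.card K = q ^ 2) (n : ℕ) (hn : 3 ≤ n) :
    MulAction.IsPretransitive ↥(Cfsg.SU n K q) (IsoPt n K q) := by
  obtain ⟨m, rfl⟩ : ∃ m, n = m + 1 + 2 := ⟨n - 3, by omega⟩
  obtain ⟨μ, hμ0, hμ⟩ := exists_norm_neg_one hK
  refine ⟨fun p p' => ?_⟩
  obtain ⟨v, hv0, hvv, hL⟩ := p.ex
  obtain ⟨v', hv'0, hv'v', hL'⟩ := p'.ex
  obtain ⟨s, hs, hsv⟩ := su_isotropic_transitive hK m μ hμ v hv0 hvv
  obtain ⟨s', hs', hsv'⟩ := su_isotropic_transitive hK m μ hμ v' hv'0 hv'v'
  have e1 : suAct (⟨s, hs⟩ : ↥(Cfsg.SU (m + 1 + 2) K q))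
      (Pi.single 0 1 + μ • Pi.single 1 1) = v := hsv
  have e2 : suAct (⟨s', hs'⟩ : ↥(Cfsg.SU (m + 1 + 2) K q))
      (Pi.single 0 1 + μ • Pi.single 1 1) = v' := hsv'
  have e3 : suAct ((⟨s', hs'⟩ : ↥(Cfsg.SU (m + 1 + 2) K q))
      * (⟨s, hs⟩ : ↥(Cfsg.SU (m + 1 + 2) K q))⁻¹) v = v' := by
    rw [suAct_mul, ← e1, suAct_inv_left, e2]
  refine ⟨(⟨s', hs'⟩ : ↥(Cfsg.SU (m + 1 + 2) K q))
      * (⟨s, hs⟩ : ↥(Cfsg.SU (m + 1 + 2) K q))⁻¹, ?_⟩
  apply IsoPt.ext
  rw [smul_span_L _ p v hL, hL', e3]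

/-- `SU_n(q)` acts primitively on the isotropic points, `n ≥ 3`. -/
theorem su_isoPt_preprimitive {K : Type*} [Field K] [Fintype K] {q : ℕ}
    (hK : Fintype.card K = q ^ 2) (n : ℕ) (hn : 3 ≤ n) :
    MulAction.IsPreprimitive ↥(Cfsg.SU n K q) (IsoPt n K q) := by
  classical
  have hh := hermForm_isHerm hK n
  have hq := two_le_of_card_sq hK
  have hq1 : 1 ≤ q := by omega
  have htrans := su_isoPt_pretransitive hK n hn
  refine { toIsPretransitive := htrans, isTrivialBlock_of_isBlock := ?_ }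
  intro B hB
  by_cases hsub : B.Subsingleton
  · exact Or.inl hsub
  right
  rw [Set.not_subsingleton_iff] at hsub
  obtain ⟨p, hp, p', hp', hne⟩ := hsub
  obtain ⟨u, hu0, huu, hpL⟩ := p.ex
  obtain ⟨u', hu'0, hu'u', hp'L⟩ := p'.ex
  obtain ⟨inB, hinB⟩ : ∃ inB : (Fin n → K) → Prop,
      ∀ v, inB v ↔ ∃ x ∈ B, x.L = Submodule.span K {v} := ⟨_, fun v => Iff.rfl⟩
  have hscale : ∀ (a : K), a ≠ 0 → ∀ v, inB (a • v) ↔ inB v := by
    intro a ha v
    rw [hinB, hinB, Submodule.span_singleton_smul_eq (Ne.isUnit ha)]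
  have hblk : ∀ (A : ↥(Cfsg.SU n K q)) (v : Fin n → K), inB v → inB (suAct A v) →
      A • B = B := by
    intro A v hv hAv
    rw [hinB] at hv hAv
    obtain ⟨x, hx, hxL⟩ := hv
    obtain ⟨x', hx', hx'L⟩ := hAv
    apply hB.smul_eq_of_mem hx
    have h1 : A • x = x' := by
      apply IsoPt.ext
      rw [smul_span_L A x v hxL, hx'L]
    rw [h1]
    exact hx'
  have hmove : ∀ (A : ↥(Cfsg.SU n K q)), A • B = B → ∀ v, inB v → inB (suAct A v) := by
    intro A hAB v hv
    rw [hinB] at hv ⊢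
    obtain ⟨x, hx, hxL⟩ := hv
    refine ⟨A • x, ?_, smul_span_L A x v hxL⟩
    rw [← hAB]
    exact Set.smul_mem_smul_set hx
  have hclos : ∀ (x v₁ v₂ : Fin n → K), inB x → inB v₁ →
      (∃ (A : ↥(Cfsg.SU n K q)) (a b : K), a ≠ 0 ∧ b ≠ 0 ∧ suAct A x = a • x
        ∧ suAct A v₁ = b • v₂) → inB v₂ := by
    rintro x v₁ v₂ hx hv₁ ⟨A, a, b, ha, hb, hAx, hAv⟩
    have h1 : A • B = B := hblk A x hx (by
      rw [hAx, hscale a ha]
      exact hx)
    have h2 := hmove A h1 v₁ hv₁
    rw [hAv, hscale b hb] at h2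
    exact h2
  have hu : inB u := (hinB u).2 ⟨p, hp, hpL⟩
  have hu' : inB u' := (hinB u').2 ⟨p', hp', hp'L⟩
  have hneq : ∀ a : K, a • u ≠ u' := by
    intro a hau
    apply hne
    apply IsoPt.ext
    have ha : a ≠ 0 := by
      rintro rfl
      rw [zero_smul] at hau
      exact hu'0 hau.symm
    rw [hpL, hp'L, ← hau, Submodule.span_singleton_smul_eq (Ne.isUnit ha)]
  have hall : ∀ y : Fin n → K, y ≠ 0 → Cfsg.hermForm n K q y y = 0 → inB y := by
    intro y hy0 hyy
    by_cases hdep : ∃ a : K, y = a • u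
    · obtain ⟨a, rfl⟩ := hdep
      have ha : a ≠ 0 := by
        rintro rfl
        exact hy0 (zero_smul _ _)
      rw [hscale a ha]
      exact hu
    have hliy : LinearIndependent K ![u, y] := by
      rw [LinearIndependent.pair_iff' hu0]
      intro a ha
      exact hdep ⟨a, ha.symm⟩
    by_cases huu'0 : Cfsg.hermForm n K q u u' = 0
    · have hliu' : LinearIndependent K ![u, u'] := (LinearIndependent.pair_iff' hu0).2 hneq
      have hB1 : ∀ v : Fin n → K, Cfsg.hermForm n K q v v = 0 → Cfsg.hermForm n K q u v = 0 →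
          LinearIndependent K ![u, v] → inB v := by
        intro v hvv huv hli
        exact hclos u u' v hu hu' (su_pair_orth hK n u u' v huu hu'u' hvv huu'0 huv hliu' hli)
      by_cases huy : Cfsg.hermForm n K q u y = 0
      · exact hB1 y hyy huy hliy
      · obtain ⟨c, hc⟩ : ∃ c : K, c = Cfsg.hermForm n K q u' y / Cfsg.hermForm n K q u y :=
          ⟨_, rfl⟩
        have hu'u0 : Cfsg.hermForm n K q u' u = 0 := hh.swap_zero hq1 _ _ huu'0
        have hxx : Cfsg.hermForm n K q (u' - c • u) (u' - c • u) = 0 := by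
          simp only [hh.sub_left, hh.sub_right hK, hh.smul_left, hh.smul_right, hu'u', huu,
            hu'u0, huu'0]
          ring
        have hux : Cfsg.hermForm n K q u (u' - c • u) = 0 := by
          rw [hh.sub_right hK, hh.smul_right, huu, huu'0, mul_zero, sub_zero]
        have hxu : Cfsg.hermForm n K q (u' - c • u) u = 0 := hh.swap_zero hq1 _ _ hux
        have hxy : Cfsg.hermForm n K q (u' - c • u) y = 0 := by
          rw [hh.sub_left, hh.smul_left, hc, div_mul_cancel₀ _ huy, sub_self]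
        have hlix : LinearIndependent K ![u, u' - c • u] := by
          rw [LinearIndependent.pair_iff' hu0]
          intro a ha
          apply hneq (a + c)
          rw [add_smul, ha, sub_add_cancel]
        have hx : inB (u' - c • u) := hB1 _ hxx hux hlix
        have hx0 : u' - c • u ≠ 0 := by
          intro h0
          exact hneq c (sub_eq_zero.1 h0).symm
        have hlixu : LinearIndependent K ![u' - c • u, u] := by
          rw [LinearIndependent.pair_iff' hx0]
          intro a ha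
          have ha0 : a ≠ 0 := by
            rintro rfl
            rw [zero_smul] at ha
            exact hu0 ha.symm
          have h3 : a⁻¹ • u = u' - c • u := by
            have h4 := congrArg (fun t => a⁻¹ • t) ha
            simp only [smul_smul, inv_mul_cancel₀ ha0, one_smul] at h4
            exact h4.symm
          exact (LinearIndependent.pair_iff' hu0).1 hlix a⁻¹ h3
        have hlixy : LinearIndependent K ![u' - c • u, y] := by
          rw [LinearIndependent.pair_iff' hx0]
          intro a ha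
          apply huy
          rw [← ha, hh.smul_right, hux, mul_zero]
        exact hclos (u' - c • u) u y hx hu
          (su_pair_orth hK n (u' - c • u) u y hxx huu hyy hxu hxy hlixu hlixy)
    · have hA1 : ∀ v : Fin n → K, Cfsg.hermForm n K q v v = 0 →
          Cfsg.hermForm n K q u v ≠ 0 → inB v := by
        intro v hvv huv
        exact hclos u u' v hu hu' (su_pair_nonorth hK n u u' v huu hu'u' hvv huu'0 huv)
      by_cases huy : Cfsg.hermForm n K q u y = 0
      · obtain ⟨x, hxx, hux, hxy⟩ := herm_partner hK hh u y hliy huu huy 1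
        have hx : inB x := hA1 x hxx (by
          rw [hux]
          exact one_ne_zero)
        have hxu : Cfsg.hermForm n K q x u ≠ 0 := by
          rw [hh.conj u x, hux, one_pow]
          exact one_ne_zero
        exact hclos x u y hx hu (su_pair_nonorth hK n x u y hxx huu hyy hxu (by
          rw [hxy]
          exact one_ne_zero))
      · exact hA1 y hyy huy
  rw [Set.eq_univ_iff_forall]
  intro x
  obtain ⟨y, hy0, hyy, hxL⟩ := x.ex
  obtain ⟨x', hx', hx'L⟩ := (hinB y).1 (hall y hy0 hyy)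
  have h1 : x = x' := IsoPt.ext (by rw [hxL, hx'L])
  rw [h1]
  exact hx'

end Cfsg.Agent.Helper15
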