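import Mathlib
import Cfsg.Agent.Helper15.PSU2

set_option autoImplicit false

namespace Cfsg.Agent.Helper15

open scoped MatrixGroups Pointwise

theorem isoPt_ti {K : Type*} [Field K] [Fintype K] {q : ℕ} (hK : Fintype.card K = q ^ 2)
    {n : ℕ} (p : IsoPt n K q) (x y : Fin n → K) (hx : x ∈ p.L) (hy : y ∈ p.L) :
    Cfsg.hermForm n K q x y = 0 := by
  have hh := hermForm_isHerm hK n
  obtain ⟨v, hv0, hvv, hL⟩ := p.ex
  rw [hL, Submodule.mem_span_singleton] at hx hy
  obtain ⟨a, rfl⟩ := hx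
  obtain ⟨b, rfl⟩ := hy
  rw [hh.smul_left, hh.smul_right, hvv, mul_zero, mul_zero]

theorem suT_aux {K : Type*} [Field K] [Fintype K] {q : ℕ} (hK : Fintype.card K = q ^ 2)
    {n : ℕ} (p : IsoPt n K q) (A B : ↥(Cfsg.SU n K q))
    (hA2 : ∀ x, (∀ y ∈ p.L, Cfsg.hermForm n K q x y = 0) → suAct A x = x)
    (hB1 : ∀ x, suAct B x - x ∈ p.L) (x : Fin n → K) :
    suAct (A * B) x = suAct A x + suAct B x - x := by
  have h1 : suAct A (suAct B x - x) = suAct B x - x :=
    hA2 _ (fun y hy => isoPt_ti hK p _ _ (hB1 x) hy)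
  rw [suAct_sub, sub_eq_iff_eq_add] at h1
  rw [suAct_mul, h1]
  abel

/-- The group of transvections with a given centre. -/
def suT {K : Type*} [Field K] [Fintype K] {q : ℕ} (hK : Fintype.card K = q ^ 2) {n : ℕ}
    (p : IsoPt n K q) : Subgroup ↥(Cfsg.SU n K q) where
  carrier := {A | (∀ x, suAct A x - x ∈ p.L)
    ∧ ∀ x, (∀ y ∈ p.L, Cfsg.hermForm n K q x y = 0) → suAct A x = x}
  mul_mem' := by
    rintro A B ⟨hA1, hA2⟩ ⟨hB1, hB2⟩
    refine ⟨fun x => ?_, fun x hx => ?_⟩
    · rw [suT_aux hK p A B hA2 hB1 x]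
      have h1 := add_mem (hA1 x) (hB1 x)
      have h2 : suAct A x + suAct B x - x - x = suAct A x - x + (suAct B x - x) := by abel
      rw [h2]
      exact h1
    · rw [suAct_mul, hB2 x hx, hA2 x hx]
  one_mem' := ⟨fun x => by
    rw [suAct_one, sub_self]
    exact zero_mem _, fun x _ => suAct_one x⟩
  inv_mem' := by
    rintro A ⟨hA1, hA2⟩
    refine ⟨fun x => ?_, fun x hx => ?_⟩
    · have h1 := hA1 (suAct A⁻¹ x)
      rw [suAct_inv_right] at h1
      have h2 := neg_mem h1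
      rw [neg_sub] at h2
      exact h2
    · have h1 := hA2 x hx
      calc suAct A⁻¹ x = suAct A⁻¹ (suAct A x) := by rw [h1]
        _ = x := suAct_inv_left A x

theorem mem_suT {K : Type*} [Field K] [Fintype K] {q : ℕ} (hK : Fintype.card K = q ^ 2)
    {n : ℕ} (p : IsoPt n K q) (A : ↥(Cfsg.SU n K q)) :
    A ∈ suT hK p ↔ (∀ x, suAct A x - x ∈ p.L)
      ∧ ∀ x, (∀ y ∈ p.L, Cfsg.hermForm n K q x y = 0) → suAct A x = x := Iff.rfl

theorem suT_comm {K : Type*} [Field K] [Fintype K] {q : ℕ} (hK : Fintype.card K = q ^ 2)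
    {n : ℕ} (p : IsoPt n K q) : IsMulCommutative ↥(suT hK p) := by
  rw [isMulCommutative_iff]
  rintro ⟨A, hA1, hA2⟩ ⟨B, hB1, hB2⟩
  apply Subtype.ext
  show A * B = B * A
  apply su_ext
  intro x
  rw [suT_aux hK p A B hA2 hB1, suT_aux hK p B A hB2 hA1]
  abel

theorem suT_conj_mem {K : Type*} [Field K] [Fintype K] {q : ℕ} (hK : Fintype.card K = q ^ 2)
    {n : ℕ} (g : ↥(Cfsg.SU n K q)) (p : IsoPt n K q) (s : ↥(Cfsg.SU n K q))
    (hs : s ∈ suT hK p) : g * s * g⁻¹ ∈ suT hK (g • p) := by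
  obtain ⟨hs1, hs2⟩ := hs
  refine ⟨fun x => ?_, fun x hx => ?_⟩
  · rw [mem_smul_L]
    refine ⟨suAct s (suAct g⁻¹ x) - suAct g⁻¹ x, hs1 _, ?_⟩
    rw [suAct_sub, suAct_inv_right, suAct_mul, suAct_mul]
  · have h1 : suAct s (suAct g⁻¹ x) = suAct g⁻¹ x := by
      apply hs2
      intro y hy
      have h2 := hx (suAct g y) ((mem_smul_L g p _).2 ⟨y, hy, rfl⟩)
      rw [← suAct_pres g, suAct_inv_right]
      exact h2
    rw [suAct_mul, suAct_mul, h1, suAct_inv_right]

theorem suT_conj {K : Type*} [Field K] [Fintype K] {q : ℕ} (hK : Fintype.card K = q ^ 2)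
    {n : ℕ} (g : ↥(Cfsg.SU n K q)) (p : IsoPt n K q) :
    suT hK (g • p) = MulAut.conj g • suT hK p := by
  ext h
  rw [Subgroup.mem_smul_pointwise_iff_exists]
  constructor
  · intro hh'
    refine ⟨g⁻¹ * h * g, ?_, ?_⟩
    · have h1 := suT_conj_mem hK g⁻¹ (g • p) h hh'
      rw [inv_smul_smul, inv_inv] at h1
      exact h1
    · rw [MulAut.smul_def, MulAut.conj_apply]
      group
  · rintro ⟨s, hs, rfl⟩
    rw [MulAut.smul_def, MulAut.conj_apply]
    exact suT_conj_mem hK g p s hs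

theorem suT_gen {K : Type*} [Field K] [Fintype K] {q : ℕ} (hK : Fintype.card K = q ^ 2)
    (n : ℕ) (hn : 3 ≤ n) (h32 : ¬(n = 3 ∧ q = 2)) :
    iSup (suT (n := n) hK) = ⊤ := by
  rw [eq_top_iff, ← su_gen_transv hK n hn h32, Subgroup.closure_le]
  rintro A ⟨v, c, hvv, hA⟩
  show A ∈ iSup (suT (n := n) hK)
  have hAx : ∀ y, suAct A y = y + (c * Cfsg.hermForm n K q y v) • v := by
    intro y
    unfold suAct
    rw [hA, utransv_mulVec]
  by_cases hv : v = 0
  · have hA1 : A = 1 := su_ext _ _ (fun x => by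
      rw [hAx, hv, smul_zero, add_zero, suAct_one])
    rw [hA1]
    exact Subgroup.one_mem _
  · apply Subgroup.mem_iSup_of_mem (⟨Submodule.span K {v}, v, hv, hvv, rfl⟩ : IsoPt n K q)
    refine ⟨fun x => ?_, fun x hx => ?_⟩
    · rw [hAx, add_sub_cancel_left]
      exact Submodule.smul_mem _ _ (Submodule.mem_span_singleton_self v)
    · rw [hAx, hx v (Submodule.mem_span_singleton_self v), mul_zero, zero_smul, add_zero]

/-- The Iwasawa structure of `SU_n(q)` on isotropic points. -/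
noncomputable def suIwasawa {K : Type*} [Field K] [Fintype K] {q : ℕ}
    (hK : Fintype.card K = q ^ 2) (n : ℕ) (hn : 3 ≤ n) (h32 : ¬(n = 3 ∧ q = 2)) :
    MulAction.IwasawaStructure ↥(Cfsg.SU n K q) (IsoPt n K q) where
  T := suT hK
  is_comm := suT_comm hK
  is_conj := suT_conj hK
  is_generator := suT_gen hK n hn h32

theorem su_perfect {K : Type*} [Field K] [Fintype K] {q : ℕ} (hK : Fintype.card K = q ^ 2)
    (n : ℕ) (hn : 3 ≤ n) (h32 : ¬(n = 3 ∧ q = 2)) : commutator ↥(Cfsg.SU n K q) = ⊤ := by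
  have hq := two_le_of_card_sq hK
  rw [eq_top_iff, ← su_gen_transv hK n hn h32, commutator_eq_closure]
  apply Subgroup.closure_mono
  rintro A ⟨v, c, hvv, hA⟩
  have hn' : 4 ≤ n ∨ (n = 3 ∧ 3 ≤ q) := by
    by_cases h3 : n = 3
    · right
      refine ⟨h3, ?_⟩
      have : q ≠ 2 := fun h => h32 ⟨h3, h⟩
      omega
    · left
      omega
  exact su_transv_commutator hK n hn' A v c hvv hA

theorem herm_iso_std {K : Type*} [Field K] [Fintype K] {q : ℕ} (hK : Fintype.card K = q ^ 2)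
    (n : ℕ) (i j : Fin n) (hij : i ≠ j) (m : K) (hm : m ^ (q + 1) = -1) :
    Cfsg.hermForm n K q (Pi.single i 1 + m • Pi.single j 1)
      (Pi.single i 1 + m • Pi.single j 1) = 0 := by
  have hh := hermForm_isHerm hK n
  have hq := two_le_of_card_sq hK
  have hq1 : 1 ≤ q := by omega
  simp only [hh.add_left, hh.add_right hK, hh.smul_left, hh.smul_right, hermForm_single hq1,
    if_neg hij, if_neg (Ne.symm hij), eq_self_iff_true, if_true]
  rw [pow_succ'] at hm
  linear_combination hm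

theorem su_scalar_of_iso_eig {K : Type*} [Field K] [Fintype K] {q : ℕ}
    (hK : Fintype.card K = q ^ 2) (n : ℕ) (hn : 2 ≤ n) (A : ↥(Cfsg.SU n K q))
    (heig : ∀ v : Fin n → K, v ≠ 0 → Cfsg.hermForm n K q v v = 0 →
      ∃ a : K, suAct A v = a • v) :
    ∃ lam : K, ∀ x, suAct A x = lam • x := by
  classical
  have hh := hermForm_isHerm hK n
  have hq := two_le_of_card_sq hK
  have hq1 : 1 ≤ q := by omega
  obtain ⟨μ, hμ0, hμ⟩ := exists_norm_neg_one hK
  obtain ⟨l, hl1, hl2⟩ := exists_norm_one_sq_ne hK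
  obtain ⟨s, hs0, hs⟩ := exists_skew hK
  have hl0 : 1 - l ≠ 0 := by
    intro h
    apply hl2
    have h1 : l = 1 := by linear_combination -h
    rw [h1, one_pow]
  have hμl : (μ * l) ^ (q + 1) = -1 := by rw [mul_pow, hμ, hl1, mul_one]
  have hne0 : ∀ (i j : Fin n), i ≠ j → ∀ m : K,
      (Pi.single i 1 + m • Pi.single j 1 : Fin n → K) ≠ 0 := by
    intro i j hij m h
    have h1 := congrFun h i
    rw [Pi.add_apply, Pi.smul_apply, Pi.single_eq_same, Pi.single_eq_of_ne hij, smul_zero,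
      add_zero, Pi.zero_apply] at h1
    exact one_ne_zero h1
  obtain ⟨i0, hi0⟩ : ∃ i : Fin n, (i : ℕ) = 0 := ⟨⟨0, by omega⟩, rfl⟩
  obtain ⟨i1, hi1⟩ : ∃ i : Fin n, (i : ℕ) = 1 := ⟨⟨1, by omega⟩, rfl⟩
  have h01 : i0 ≠ i1 := by
    intro h
    rw [h] at hi0
    omega
  obtain ⟨u₀, hu₀⟩ : ∃ u₀ : Fin n → K,
      u₀ = Pi.single i0 1 + μ • Pi.single i1 1 := ⟨_, rfl⟩
  have hu₀0 : u₀ ≠ 0 := by
    rw [hu₀]
    exact hne0 _ _ h01 μ
  have hu₀u₀ : Cfsg.hermForm n K q u₀ u₀ = 0 := by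
    rw [hu₀]
    exact herm_iso_std hK n _ _ h01 μ hμ
  obtain ⟨lam, hlam⟩ := heig u₀ hu₀0 hu₀u₀
  have hall : ∀ v : Fin n → K, v ≠ 0 → Cfsg.hermForm n K q v v = 0 →
      suAct A v = lam • v := by
    intro v hv0 hvv
    obtain ⟨b, hb⟩ := heig v hv0 hvv
    by_cases hdep : ∃ t : K, v = t • u₀
    · obtain ⟨t, rfl⟩ := hdep
      rw [suAct_smul, hlam, smul_comm]
    · have hli : LinearIndependent K ![u₀, v] := by
        rw [LinearIndependent.pair_iff' hu₀0]
        intro a ha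
        exact hdep ⟨a, ha.symm⟩
      obtain ⟨c, hc0, hcw⟩ : ∃ c : K, c ≠ 0
          ∧ Cfsg.hermForm n K q (u₀ + c • v) (u₀ + c • v) = 0 := by
        by_cases h0 : Cfsg.hermForm n K q v u₀ = 0
        · refine ⟨1, one_ne_zero, ?_⟩
          rw [one_smul, hh.add_left, hh.add_right hK, hh.add_right hK, hu₀u₀, hvv, h0,
            hh.swap_zero hq1 _ _ h0]
          ring
        · refine ⟨s / Cfsg.hermForm n K q v u₀, div_ne_zero hs0 h0, ?_⟩
          have e1 : Cfsg.hermForm n K q u₀ v = (Cfsg.hermForm n K q v u₀) ^ q := hh.conj v u₀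
          rw [herm_expand hK hh, hu₀u₀, hvv, e1, mul_zero, add_zero, zero_add, ← mul_pow,
            div_mul_cancel₀ _ h0, hs]
          ring
      have hw0 : u₀ + c • v ≠ 0 := by
        intro h
        have h1 := LinearIndependent.pair_iff.1 hli 1 c (by
          rw [one_smul]
          exact h)
        exact one_ne_zero h1.1
      obtain ⟨d, hd⟩ := heig _ hw0 hcw
      have h5 : (lam - d) • u₀ + (c * (b - d)) • v = 0 := by
        have h6 : suAct A (u₀ + c • v) = lam • u₀ + c • (b • v) := by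
          rw [suAct_add, suAct_smul, hlam, hb]
        rw [hd, smul_add] at h6
        have h7 : (lam - d) • u₀ + (c * (b - d)) • v
            = (lam • u₀ + c • (b • v)) - (d • u₀ + d • (c • v)) := by
          rw [sub_smul, mul_sub, sub_smul, mul_smul, mul_comm c d, mul_smul]
          abel
        rw [h7, ← h6, sub_self]
      obtain ⟨h7, h8⟩ := LinearIndependent.pair_iff.1 hli _ _ h5
      have hbd : b = d := by
        rcases mul_eq_zero.1 h8 with h | h
        · exact absurd h hc0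
        · exact sub_eq_zero.1 h
      have hld : lam = d := sub_eq_zero.1 h7
      rw [hb, hbd, ← hld]
  have hAe : ∀ i : Fin n, suAct A (Pi.single i 1) = lam • Pi.single i 1 := by
    intro i
    obtain ⟨j, hij⟩ : ∃ j : Fin n, i ≠ j := by
      by_cases hi : i = i0
      · exact ⟨i1, by rw [hi]; exact h01⟩
      · exact ⟨i0, hi⟩
    obtain ⟨w₁, hw₁⟩ : ∃ w : Fin n → K, w = Pi.single i 1 + μ • Pi.single j 1 := ⟨_, rfl⟩
    obtain ⟨w₂, hw₂⟩ : ∃ w : Fin n → K, w = Pi.single i 1 + (μ * l) • Pi.single j 1 :=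
      ⟨_, rfl⟩
    have hAw₁ : suAct A w₁ = lam • w₁ := by
      apply hall
      · rw [hw₁]
        exact hne0 i j hij μ
      · rw [hw₁]
        exact herm_iso_std hK n i j hij μ hμ
    have hAw₂ : suAct A w₂ = lam • w₂ := by
      apply hall
      · rw [hw₂]
        exact hne0 i j hij _
      · rw [hw₂]
        exact herm_iso_std hK n i j hij _ hμl
    have he_j : (Pi.single j 1 : Fin n → K) = (μ * (1 - l))⁻¹ • (w₁ - w₂) := by
      have h1 : w₁ - w₂ = (μ * (1 - l)) • (Pi.single j 1 : Fin n → K) := by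
        rw [hw₁, hw₂, add_sub_add_left_eq_sub, ← sub_smul]
        congr 1
        ring
      rw [h1, smul_smul, inv_mul_cancel₀ (mul_ne_zero hμ0 hl0), one_smul]
    have hAj : suAct A (Pi.single j 1) = lam • Pi.single j 1 := by
      have h9 : suAct A ((μ * (1 - l))⁻¹ • (w₁ - w₂))
          = lam • ((μ * (1 - l))⁻¹ • (w₁ - w₂)) := by
        rw [suAct_smul, suAct_sub, hAw₁, hAw₂, ← smul_sub, smul_comm]
      rw [← he_j] at h9
      exact h9
    have h10 : (Pi.single i 1 : Fin n → K) = w₁ - μ • Pi.single j 1 := by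
      rw [hw₁, add_sub_cancel_right]
    have h11 : suAct A (w₁ - μ • Pi.single j 1) = lam • (w₁ - μ • Pi.single j 1) := by
      rw [suAct_sub, suAct_smul, hAw₁, hAj, smul_sub, smul_comm μ lam]
    rw [← h10] at h11
    exact h11
  have hmat : ((A : Matrix.SpecialLinearGroup (Fin n) K) : Matrix (Fin n) (Fin n) K)
      = lam • (1 : Matrix (Fin n) (Fin n) K) := by
    ext k i
    have h1 := congrFun (hAe i) k
    unfold suAct at h1
    rw [Matrix.mulVec_single_one, Pi.smul_apply, Pi.single_apply] at h1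
    rw [Matrix.smul_apply, Matrix.one_apply]
    exact h1
  refine ⟨lam, fun x => ?_⟩
  unfold suAct
  rw [hmat, Matrix.smul_mulVec, Matrix.one_mulVec]

/-- A normal subgroup of `SU_n(q)` is central or everything. -/
theorem su_normal_dichotomy {K : Type*} [Field K] [Fintype K] {q : ℕ}
    (hK : Fintype.card K = q ^ 2) (n : ℕ) (hn : 3 ≤ n) (h32 : ¬(n = 3 ∧ q = 2))
    (N : Subgroup ↥(Cfsg.SU n K q)) [N.Normal] :
    N ≤ Subgroup.center ↥(Cfsg.SU n K q) ∨ N = ⊤ := by
  have := su_isoPt_preprimitive hK n hn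
  by_cases hfix : MulAction.fixedPoints N (IsoPt n K q) = Set.univ
  · left
    intro A hA
    have h1 : ∀ p : IsoPt n K q, A • p = p := fun p =>
      (Set.eq_univ_iff_forall.1 hfix p) ⟨A, hA⟩
    obtain ⟨lam, hlam⟩ := su_scalar_of_iso_eig hK n (by omega) A (fun v hv0 hvv => by
      have h2 := h1 ⟨Submodule.span K {v}, v, hv0, hvv, rfl⟩
      have h3 : (A • (⟨Submodule.span K {v}, v, hv0, hvv, rfl⟩ : IsoPt n K q)).L
          = Submodule.span K {suAct A v} := smul_span_L A _ v rfl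
      rw [h2] at h3
      have h3' : Submodule.span K {v} = Submodule.span K {suAct A v} := h3
      have h4 : suAct A v ∈ Submodule.span K {v} := by
        rw [h3']
        exact Submodule.mem_span_singleton_self _
      obtain ⟨a, ha⟩ := Submodule.mem_span_singleton.1 h4
      exact ⟨a, ha.symm⟩)
    rw [Subgroup.mem_center_iff]
    intro g
    apply su_ext
    intro x
    rw [suAct_mul, suAct_mul, hlam, hlam, suAct_smul]
  · right
    have h1 := (suIwasawa hK n hn h32).commutator_le N hfix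
    rw [su_perfect hK n hn h32] at h1
    exact top_le_iff.1 h1

/-- `PSU_n(q)` is simple for `n ≥ 3`, `(n, q) ≠ (3, 2)`. -/
theorem psu_simple {K : Type*} [Field K] [Fintype K] {q : ℕ} (hK : Fintype.card K = q ^ 2)
    (n : ℕ) (hn : 3 ≤ n) (h32 : ¬(n = 3 ∧ q = 2)) : IsSimpleGroup (Cfsg.PSU n K q) := by
  classical
  have hq := two_le_of_card_sq hK
  have hperf := su_perfect hK n hn h32
  have hnt : Nontrivial (Cfsg.PSU n K q) := by
    by_contra hcon
    rw [not_nontrivial_iff_subsingleton] at hcon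
    have hZ := QuotientGroup.subgroup_eq_top_of_subsingleton _ hcon
    have hb := (commutator_eq_bot_iff_center_eq_top (G := ↥(Cfsg.SU n K q))).2 hZ
    rw [hperf] at hb
    have hc1 : Nat.card ↥(Cfsg.SU n K q) = 1 := by
      rw [← Subgroup.card_top (G := ↥(Cfsg.SU n K q)), hb, Subgroup.card_bot]
    have hc2 := card_SU hK n (by omega)
    rw [hc1, mul_one] at hc2
    have hpos : 1 ≤ n * (n - 1) / 2 := by
      have h1 : 3 * 2 ≤ n * (n - 1) := Nat.mul_le_mul hn (by omega)
      omega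
    have hdvd : q ∣ q + 1 := by
      rw [hc2]
      exact Dvd.dvd.mul_right (dvd_pow_self q (by omega)) _
    have h2 : q ∣ 1 := (Nat.dvd_add_right (dvd_refl q)).1 hdvd
    have h3 := Nat.le_of_dvd one_pos h2
    omega
  apply IsSimpleGroup.mk
  intro H hH
  have hN : (H.comap (QuotientGroup.mk'
      (Subgroup.center ↥(Cfsg.SU n K q)))).Normal := hH.comap _
  rcases su_normal_dichotomy hK n hn h32 (H.comap (QuotientGroup.mk'
      (Subgroup.center ↥(Cfsg.SU n K q)))) with h1 | h1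
  · left
    rw [eq_bot_iff]
    intro x hx
    obtain ⟨g, rfl⟩ := QuotientGroup.mk_surjective x
    have hg : g ∈ H.comap (QuotientGroup.mk'
      (Subgroup.center ↥(Cfsg.SU n K q))) := hx
    rw [Subgroup.mem_bot]
    exact (QuotientGroup.eq_one_iff g).2 (h1 hg)
  · right
    rw [eq_top_iff]
    intro x _
    obtain ⟨g, rfl⟩ := QuotientGroup.mk_surjective x
    have hg : g ∈ H.comap (QuotientGroup.mk'
        (Subgroup.center ↥(Cfsg.SU n K q))) := by
      rw [h1]
      exact Subgroup.mem_top g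
    exact hg

end Cfsg.Agent.Helper15
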