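import Mathlib
import Cfsg.Prelude.Def_Classical

set_option autoImplicit false

namespace Cfsg.Agent.Helper15

theorem dot_orth_finrank {F : Type*} [Field F] {a : ℕ} (R S : Submodule F (Fin a → F))
    (h : ∀ r ∈ R, ∀ s ∈ S, r ⬝ᵥ s = 0) : Module.finrank F R + Module.finrank F S ≤ a := by
  classical
  let B : LinearMap.BilinForm F (Fin a → F) := Matrix.toBilin' 1
  have hB : B.Nondegenerate := LinearMap.BilinForm.nondegenerate_toBilin'_of_det_ne_zero' 1 (by simp)
  have h1 : S ≤ B.orthogonal R := by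
    intro s hs
    rw [LinearMap.BilinForm.mem_orthogonal_iff]
    intro r hr
    show B r s = 0
    simp only [B, Matrix.toBilin'_apply', Matrix.one_mulVec]
    exact h r hr s hs
  have h2 := Submodule.finrank_mono h1
  rw [LinearMap.BilinForm.finrank_orthogonal hB] at h2
  have h3 := Submodule.finrank_le R
  simp only [Module.finrank_fin_fun] at h2 h3
  omega

theorem witt_bound {F : Type*} [Field F] {U : Type*} [AddCommGroup U] [Module F U]
    [FiniteDimensional F U] {a : ℕ} (X Y : U →ₗ[F] (Fin a → F))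
    (h1 : ∀ k v : U, X k = 0 → X v ⬝ᵥ Y k = 0)
    (h2 : ∀ k : U, X k = 0 → Y k = 0 → k = 0) :
    Module.finrank F U ≤ a := by
  have r1 := LinearMap.finrank_range_add_finrank_ker X
  let Y' : LinearMap.ker X →ₗ[F] (Fin a → F) := Y.domRestrict (LinearMap.ker X)
  have hY' : Function.Injective Y' := by
    rw [← LinearMap.ker_eq_bot, LinearMap.ker_eq_bot']
    intro k hk
    apply Subtype.ext
    exact h2 k.1 (LinearMap.mem_ker.1 k.2) hk
  have r2 : Module.finrank F (LinearMap.range Y') = Module.finrank F (LinearMap.ker X) :=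
    LinearMap.finrank_range_of_inj hY'
  have r3 := dot_orth_finrank (LinearMap.range X) (LinearMap.range Y') (by
    rintro _ ⟨v, rfl⟩ _ ⟨k, rfl⟩
    exact h1 k.1 v (LinearMap.mem_ker.1 k.2))
  omega

theorem plus_singular_finrank_le {F : Type*} [Field F] (m : ℕ)
    (U : Submodule F (Fin m ⊕ Fin m → F))
    (hU : ∀ u ∈ U, Cfsg.quadFormPlus m F u = 0) : Module.finrank F U ≤ m := by
  let X : U →ₗ[F] (Fin m → F) :=
    (LinearMap.funLeft F F (Sum.inl : Fin m → Fin m ⊕ Fin m)) ∘ₗ U.subtype
  let Y : U →ₗ[F] (Fin m → F) :=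
    (LinearMap.funLeft F F (Sum.inr : Fin m → Fin m ⊕ Fin m)) ∘ₗ U.subtype
  have hX : ∀ (u : U) i, X u i = u.1 (Sum.inl i) := fun u i => rfl
  have hY : ∀ (u : U) i, Y u i = u.1 (Sum.inr i) := fun u i => rfl
  apply witt_bound X Y
  · intro k v hk
    have e1 := hU _ (v + k).2
    have e2 := hU _ v.2
    have hk' : ∀ i, k.1 (Sum.inl i) = 0 := fun i => congrFun hk i
    unfold Cfsg.quadFormPlus at e1 e2
    simp only [Submodule.coe_add, Pi.add_apply, hk', add_zero, mul_add,
      Finset.sum_add_distrib] at e1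
    simp only [dotProduct, hX, hY]
    linear_combination e1 - e2
  · intro k hk1 hk2
    apply Subtype.ext
    funext s
    rcases s with i | i
    · exact congrFun hk1 i
    · exact congrFun hk2 i

theorem minus_singular_finrank_le {F : Type*} [Field F] (m : ℕ) (a c : F)
    (hac : ∀ z₁ z₂ : F, z₁ ^ 2 + a * z₁ * z₂ + c * z₂ ^ 2 = 0 → z₁ = 0 ∧ z₂ = 0)
    (U : Submodule F ((Fin m ⊕ Fin m) ⊕ Fin 2 → F))
    (hU : ∀ u ∈ U, Cfsg.quadFormMinus m F a c u = 0) : Module.finrank F U ≤ m := by
  let X : U →ₗ[F] (Fin m → F) :=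
    (LinearMap.funLeft F F
      (fun i : Fin m => (Sum.inl (Sum.inl i) : (Fin m ⊕ Fin m) ⊕ Fin 2))) ∘ₗ U.subtype
  let Y : U →ₗ[F] (Fin m → F) :=
    (LinearMap.funLeft F F
      (fun i : Fin m => (Sum.inl (Sum.inr i) : (Fin m ⊕ Fin m) ⊕ Fin 2))) ∘ₗ U.subtype
  have hX : ∀ (u : U) i, X u i = u.1 (Sum.inl (Sum.inl i)) := fun u i => rfl
  have hY : ∀ (u : U) i, Y u i = u.1 (Sum.inl (Sum.inr i)) := fun u i => rfl
  have hz : ∀ k : U, X k = 0 → k.1 (Sum.inr 0) = 0 ∧ k.1 (Sum.inr 1) = 0 := by
    intro k hk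
    have e := hU _ k.2
    have hk' : ∀ i, k.1 (Sum.inl (Sum.inl i)) = 0 := fun i => congrFun hk i
    unfold Cfsg.quadFormMinus at e
    simp only [hk', zero_mul, Finset.sum_const_zero, zero_add] at e
    exact hac _ _ e
  apply witt_bound X Y
  · intro k v hk
    obtain ⟨hz0, hz1⟩ := hz k hk
    have hk' : ∀ i, k.1 (Sum.inl (Sum.inl i)) = 0 := fun i => congrFun hk i
    have e1 := hU _ (v + k).2
    have e2 := hU _ v.2
    unfold Cfsg.quadFormMinus at e1 e2
    simp only [Submodule.coe_add, Pi.add_apply, hk', hz0, hz1, add_zero, mul_add,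
      Finset.sum_add_distrib] at e1
    simp only [dotProduct, hX, hY]
    linear_combination e1 - e2
  · intro k hk1 hk2
    obtain ⟨hz0, hz1⟩ := hz k hk1
    apply Subtype.ext
    funext s
    rcases s with (i | i) | j
    · exact congrFun hk1 i
    · exact congrFun hk2 i
    · fin_cases j
      · exact hz0
      · exact hz1

theorem plus_singular_exists {F : Type*} [Field F] (m : ℕ) :
    ∃ U : Submodule F (Fin m ⊕ Fin m → F),
      (∀ u ∈ U, Cfsg.quadFormPlus m F u = 0) ∧ Module.finrank F U = m := by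
  let ι : (Fin m → F) →ₗ[F] (Fin m ⊕ Fin m → F) :=
    { toFun := fun x => Sum.elim x 0
      map_add' := by
        intro x y
        ext (i | i) <;> simp
      map_smul' := by
        intro c x
        ext (i | i) <;> simp }
  refine ⟨LinearMap.range ι, ?_, ?_⟩
  · rintro _ ⟨x, rfl⟩
    simp [Cfsg.quadFormPlus, ι]
  · have hinj : Function.Injective ι := by
      intro x y hxy
      funext i
      have := congrFun hxy (Sum.inl i)
      simpa [ι] using this
    rw [LinearMap.finrank_range_of_inj hinj]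
    simp

theorem minus_singular_exists {F : Type*} [Field F] (m : ℕ) (a c : F) :
    ∃ U : Submodule F ((Fin m ⊕ Fin m) ⊕ Fin 2 → F),
      (∀ u ∈ U, Cfsg.quadFormMinus m F a c u = 0) ∧ Module.finrank F U = m := by
  let ι : (Fin m → F) →ₗ[F] ((Fin m ⊕ Fin m) ⊕ Fin 2 → F) :=
    { toFun := fun x => Sum.elim (Sum.elim x 0) 0
      map_add' := by
        intro x y
        ext ((i | i) | j) <;> simp
      map_smul' := by
        intro c x
        ext ((i | i) | j) <;> simp }
  refine ⟨LinearMap.range ι, ?_, ?_⟩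
  · rintro _ ⟨x, rfl⟩
    simp [Cfsg.quadFormMinus, ι]
  · have hinj : Function.Injective ι := by
      intro x y hxy
      funext i
      have := congrFun hxy (Sum.inl (Sum.inl i))
      simpa [ι] using this
    rw [LinearMap.finrank_range_of_inj hinj]
    simp

end Cfsg.Agent.Helper15
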